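import Mathlib
import Cfsg.Agent.H831.NoSol
import Cfsg.Agent.Fischer480.Defs
import Cfsg.Prelude.Def_FischerSpaces

set_option autoImplicit false
set_option linter.style.haveILetI false

/-!
# Primitive 3-transposition groups satisfy the hypotheses of Fischer's theorem
-/

namespace Cfsg.Agent.H831.Prim

open Cfsg Cfsg.Agent.SporadicStructure.FischerSpace
open scoped commutatorElement

variable {G : Type*} [Group G] {D : Set G}

/-- the class property of a primitive set of 3-transpositions -/
theorem isClass (hD : IsThreeTranspositionGroup D) (hprim : IsPrimitiveUnderConj D) :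
    IsThreeTranspositionClass D := by
  obtain ⟨a, ha, b, hb, hab⟩ := hprim.2.1
  refine ⟨hD.1, ⟨a, ha, ?_⟩, hD.2.2⟩
  ext y
  show _ ↔ IsConj a y
  rw [isConj_iff]
  constructor
  · intro hy
    exact hprim.1 a ha y hy
  · rintro ⟨g, rfl⟩
    exact hD.2.1 g a ha

/-- A normal subgroup is central or contains the commutator subgroup. -/
theorem le_center_or (hD : IsThreeTranspositionGroup D) (hprim : IsPrimitiveUnderConj D)
    (N : Subgroup G) (hN : N.Normal) : N ≤ Subgroup.center G ∨ commutator G ≤ N := by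
  have h := fdata_of_class (isClass hD hprim)
  obtain ⟨d, hd⟩ := h.nonempty
  set B : Set G := {y | ∃ n ∈ N, n * d * n⁻¹ = y} with hB
  have hBD : B ⊆ D := by
    rintro _ ⟨n, -, rfl⟩
    exact h.conj n d hd
  have hblock : ∀ g : G, (fun x => g * x * g⁻¹) '' B = B ∨
      Disjoint ((fun x => g * x * g⁻¹) '' B) B := by
    intro g
    by_cases hdis : Disjoint ((fun x => g * x * g⁻¹) '' B) B
    · exact Or.inr hdis
    left
    rw [Set.not_disjoint_iff] at hdis
    obtain ⟨y, ⟨x, ⟨n, hn, rfl⟩, hxy⟩, ⟨m, hm, hmy⟩⟩ := hdis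
    -- `g d g⁻¹` is in `B`
    have hxy' : g * (n * d * n⁻¹) * g⁻¹ = y := hxy
    have h1 : ∃ k ∈ N, k * d * k⁻¹ = g * d * g⁻¹ := by
      refine ⟨(g * n * g⁻¹)⁻¹ * m, N.mul_mem (N.inv_mem (hN.conj_mem n hn g)) hm, ?_⟩
      have : (g * n * g⁻¹)⁻¹ * m * d * ((g * n * g⁻¹)⁻¹ * m)⁻¹ =
          (g * n * g⁻¹)⁻¹ * (m * d * m⁻¹) * (g * n * g⁻¹) := by group
      rw [this, hmy, ← hxy']
      group
    obtain ⟨k, hk, hkd⟩ := h1
    ext z
    constructor
    · rintro ⟨_, ⟨a, ha, rfl⟩, rfl⟩
      refine ⟨(g * a * g⁻¹) * k, N.mul_mem (hN.conj_mem a ha g) hk, ?_⟩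
      show g * a * g⁻¹ * k * d * (g * a * g⁻¹ * k)⁻¹ = g * (a * d * a⁻¹) * g⁻¹
      have : g * a * g⁻¹ * k * d * (g * a * g⁻¹ * k)⁻¹ =
          (g * a * g⁻¹) * (k * d * k⁻¹) * (g * a * g⁻¹)⁻¹ := by group
      rw [this, hkd]
      group
    · rintro ⟨a, ha, rfl⟩
      refine ⟨g⁻¹ * (a * d * a⁻¹) * g, ⟨(g⁻¹ * (a * k⁻¹) * g), ?_, ?_⟩, ?_⟩
      · have := hN.conj_mem _ (N.mul_mem ha (N.inv_mem hk)) g⁻¹
        rwa [inv_inv] at this
      · have : g⁻¹ * (a * k⁻¹) * g * d * (g⁻¹ * (a * k⁻¹) * g)⁻¹ =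
            g⁻¹ * a * (k⁻¹ * (g * d * g⁻¹) * k) * a⁻¹ * g := by group
        rw [this, ← hkd]
        group
      · show g * (g⁻¹ * (a * d * a⁻¹) * g) * g⁻¹ = a * d * a⁻¹
        group
  rcases hprim.2.2 B hBD hblock with hs | ht
  · left
    have hd' : d ∈ B := ⟨1, N.one_mem, by group⟩
    have h1 : ∀ n ∈ N, n * d * n⁻¹ = d := fun n hn => hs ⟨n, hn, rfl⟩ hd'
    intro n hn
    apply h.mem_center_of_forall_commute
    intro y hy
    obtain ⟨g, rfl⟩ := h.single d hd y hy
    have h2 := h1 (g⁻¹ * n * g) (by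
      have := hN.conj_mem n hn g⁻¹
      rwa [inv_inv] at this)
    rw [mul_inv_eq_iff_eq_mul] at h2
    show n * (g * d * g⁻¹) = g * d * g⁻¹ * n
    calc n * (g * d * g⁻¹) = g * (g⁻¹ * n * g * d) * g⁻¹ := by group
      _ = g * (d * (g⁻¹ * n * g)) * g⁻¹ := by rw [h2]
      _ = g * d * g⁻¹ * n := by group
  · right
    haveI := hN
    have h1 : ∀ g : G, ∃ k : ℤ, (QuotientGroup.mk' N) g = (QuotientGroup.mk' N d) ^ k := by
      intro g
      have hg : g ∈ Subgroup.closure D := by rw [h.gen]; trivial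
      induction hg using Subgroup.closure_induction with
      | mem x hx =>
        refine ⟨1, ?_⟩
        rw [← ht] at hx
        obtain ⟨n, hn, rfl⟩ := hx
        rw [zpow_one, map_mul, map_mul, map_inv]
        have : (QuotientGroup.mk' N) n = 1 := (QuotientGroup.eq_one_iff n).2 hn
        rw [this, one_mul, inv_one, mul_one]
      | one => exact ⟨0, by simp⟩
      | mul x y _ _ hx hy =>
        obtain ⟨k, hk⟩ := hx
        obtain ⟨l, hl⟩ := hy
        exact ⟨k + l, by rw [map_mul, hk, hl, zpow_add]⟩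
      | inv x _ hx =>
        obtain ⟨k, hk⟩ := hx
        exact ⟨-k, by rw [map_inv, hk, zpow_neg]⟩
    rw [commutator_def, Subgroup.commutator_le]
    intro a _ b _
    obtain ⟨k, hk⟩ := h1 a
    obtain ⟨l, hl⟩ := h1 b
    have h2 : (QuotientGroup.mk' N) ⁅a, b⁆ = 1 := by
      rw [map_commutatorElement, hk, hl, commutatorElement_eq_one_iff_mul_comm, ← zpow_add,
        ← zpow_add, add_comm]
    exact (QuotientGroup.eq_one_iff _).1 h2

/-- **A non-solvable primitive 3-transposition group with trivial centre satisfies the hypotheses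
of Fischer's theorem.** -/
theorem fgroup (hD : IsThreeTranspositionGroup D) (hprim : IsPrimitiveUnderConj D)
    (hc : Subgroup.center G = ⊥) (hns : ¬ Group.IsSolvable G) :
    Cfsg.Agent.Fischer480.Defs.FGroup D := by
  have key : ∀ N : Subgroup G, N.Normal → commutator G ≤ N → Group.IsSolvable N → False := by
    intro N hN hle hs
    apply hns
    haveI := hN
    haveI : Group.IsSolvable N := hs
    haveI : Group.IsSolvable (G ⧸ N) := by
      apply Group.isSolvable_of_comm
      intro a b
      obtain ⟨a, rfl⟩ := QuotientGroup.mk_surjective a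
      obtain ⟨b, rfl⟩ := QuotientGroup.mk_surjective b
      have h1 : ⁅a, b⁆ ∈ N := hle (by
        rw [commutator_def]
        exact Subgroup.commutator_mem_commutator (Subgroup.mem_top _) (Subgroup.mem_top _))
      have h2 : (QuotientGroup.mk' N) ⁅a, b⁆ = 1 := (QuotientGroup.eq_one_iff _).2 h1
      rw [map_commutatorElement, commutatorElement_eq_one_iff_mul_comm] at h2
      exact h2
    refine Group.isSolvable_of_ker_le_range N.subtype (QuotientGroup.mk' N) ?_
    rw [QuotientGroup.ker_mk', Subgroup.range_subtype]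
  refine ⟨isClass hD hprim, ?_, ?_⟩
  · intro N hN hs
    rcases le_center_or hD hprim N hN with h | h
    · rw [hc] at h
      exact le_bot_iff.1 h
    · exact (key N hN h hs).elim
  · apply le_antisymm
    · exact Subgroup.commutator_le_right _ _
    · rcases le_center_or hD hprim ⁅commutator G, commutator G⁆ inferInstance with h | h
      · exfalso
        rw [hc, le_bot_iff] at h
        refine key (commutator G) inferInstance le_rfl ?_
        apply Group.isSolvable_of_comm
        intro a b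
        have h1 : ⁅(a : G), (b : G)⁆ ∈ ⁅commutator G, commutator G⁆ :=
          Subgroup.commutator_mem_commutator a.2 b.2
        rw [h, Subgroup.mem_bot, commutatorElement_eq_one_iff_mul_comm] at h1
        exact Subtype.ext h1
      · exact h

end Cfsg.Agent.H831.Prim
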