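import Mathlib
import Cfsg.Agent.S0480
import Cfsg.Agent.S0292
import Cfsg.Agent.S0283
import Cfsg.Agent.TwoESix.RecSix
import Cfsg.Agent.TSp.Orders

set_option autoImplicit false
set_option linter.style.haveILetI false

/-!
# A class of 3-transpositions of `PSU(6, 2)` is of type `U 6`
-/

namespace Cfsg.Agent.H831.USix

open Cfsg Cfsg.Agent.SporadicStructure.FischerSpace Cfsg.Agent.Fischer480.Defs
open Cfsg.Agent.Fischer919.FinalU Cfsg.Agent.TSp.UPlane Cfsg.Agent.S0480U.UModel
open Cfsg.Agent.Fischer920.PsuEnd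
open Cfsg.Agent.TwoESix.RecSix

universe u

theorem fact_order : (9196830720 : ℕ).factorization 2 = 15 :=
  (congrArg (fun k : ℕ => k.factorization 2)
    (by norm_num : (9196830720 : ℕ) = 2 ^ 15 * 280665)).trans (fact_two_pow_mul (by decide))

theorem card_PSU' {F : Type*} [Field F] [Fintype F] (hF : Fintype.card F = 4) :
    Nat.card (PSU 6 F 2) = 9196830720 := by
  have h := Cfsg.Agent.S0280.result (F := F) (q := 2) (by rw [hF]; norm_num) 6 (by norm_num)
  have e1 : Nat.gcd 6 (2 + 1) = 3 := by decide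
  have e2 : (2 : ℕ) ^ (6 * (6 - 1) / 2) * ∏ i ∈ Finset.range 6,
      (if Even i then 2 ^ (i + 1) + 1 else 2 ^ (i + 1) - 1) = 82771476480 := by
    simp only [Finset.prod_range_succ, Finset.prod_range_zero]
    rw [if_pos (by decide), if_neg (by decide), if_pos (by decide), if_neg (by decide),
      if_pos (by decide), if_neg (by decide)]
    norm_num
  rw [e1, e2] at h
  omega

/-- **Classes of 3-transpositions in a simple group of order `|PSU(6, 2)|`.** -/
theorem isU_six {K : Type u} [Group K] [Finite K] [IsSimpleGroup K]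
    (hna : ∃ x y : K, x * y ≠ y * x) (hcard : Nat.card K = 9196830720) {E : Set K}
    (hE : IsThreeTranspositionClass E) : IsU 6 E := by
  have hF := Cfsg.Agent.Fischer480.AllPieces.fgroup hna hE
  have R := Cfsg.Agent.Fischer891.Cases.rk_of_fgroup hF
  have hfac : (Nat.card K).factorization 2 = 15 := by rw [hcard]; exact fact_order
  rcases Cfsg.Agent.Fischer480.AllPieces.inList hF with
    ⟨n, hn, h⟩ | ⟨n, hn, h⟩ | ⟨n, hn, h⟩ | ⟨n, hn, h⟩ | ⟨n, hn, h⟩ | h | h | h
  · exact (Cfsg.Agent.Fischer891.FinalSym.not_simple_of_isSym R hn h).elim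
  · exfalso
    obtain ⟨m, ⟨e⟩⟩ := Cfsg.Agent.Fischer891.FinalSp.exists_equiv_of_isSp R h
    rw [Nat.card_congr e.toEquiv, fact_sp] at hfac
    have h1 : m ≤ 3 := by
      by_contra h
      have h2 : 4 ≤ m := by omega
      have h3 : 4 ^ 2 ≤ m ^ 2 := Nat.pow_le_pow_left h2 2
      omega
    interval_cases m <;> omega
  · exact (Cfsg.Agent.Fischer891.FinalO.not_simple_of_isO R hn h).elim
  · obtain ⟨F, i1, i2, f, U⟩ := exists_um h
    have hFD := fdata_of_class hF.cls
    have hfin := U.fin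
    obtain ⟨e, -⟩ := exists_equiv_psu hFD (Cfsg.Agent.Fischer919.OmegaMain.center_eq_bot hna)
      (hyp_of_um U hn hFD) U.card U.herm U.dim hn f U.ne U.iso U.comm U.inj U.surj
    rw [Nat.card_congr e.toEquiv, fact_psu (by rw [U.card]; norm_num) (by omega)] at hfac
    have h6 : n = 6 := by
      have h1 : n ≤ 6 := by
        by_contra h
        have h2 : 7 ≤ n := by omega
        have h3 : 7 * 6 ≤ n * (n - 1) := Nat.mul_le_mul h2 (by omega)
        omega
      interval_cases n <;> omega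
    subst h6
    exact h
  · exfalso
    obtain ⟨m, hm, ⟨e⟩⟩ := Cfsg.Agent.Fischer919.OmegaMain.exists_equiv_pomega hna
      (fdata_of_class hF.cls) hn h
    have hm3 : 3 ≤ m := by omega
    have h1 := Cfsg.Agent.S0292.result (F := ZMod 3) (q := 3) (ZMod.card 3) (by decide) m hm3
    rw [← Nat.card_congr e.toEquiv, hcard] at h1
    have h2 : 3 ^ 9 ∣ 3 ^ (m ^ 2) := by
      apply pow_dvd_pow
      calc 9 = 3 ^ 2 := by norm_num
        _ ≤ m ^ 2 := Nat.pow_le_pow_left hm3 2
    have h3 : 3 ^ 9 ∣ 2 * 9196830720 := by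
      rw [h1]
      exact h2.trans (Dvd.intro _ rfl)
    exact absurd h3 (by norm_num)
  · exfalso
    have := Cfsg.Agent.TSp.Orders.card_N6 ⟨R.fd, hF.sol, hF.perf⟩ ⟨h.1, h.2.1, h.2.2⟩
    omega
  · exfalso
    have := Cfsg.Agent.TSp.Orders.card_N7 ⟨R.fd, hF.sol, hF.perf⟩
      ⟨h.1, fun x hx => ⟨(h.2.1 x hx).1, (h.2.1 x hx).2.1, (h.2.1 x hx).2.2⟩, h.2.2⟩
    omega
  · exact (Cfsg.Agent.Fischer545.TEight.not_simple hE h inferInstance).elim

/-- `PSU(6, 2)` is simple and not abelian. -/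
theorem psu_simple {F : Type*} [Field F] [Fintype F] (hF : Fintype.card F = 4) :
    IsSimpleGroup (PSU 6 F 2) ∧ (∃ x y : PSU 6 F 2, x * y ≠ y * x) := by
  have hs : IsSimpleGroup (PSU 6 F 2) :=
    Cfsg.Agent.S0283.result (F := F) (q := 2) (by rw [hF]; norm_num) 6 (by norm_num)
      (by norm_num)
  refine ⟨hs, ?_⟩
  by_contra hcon
  push Not at hcon
  letI : CommGroup (PSU 6 F 2) := { (inferInstance : Group (PSU 6 F 2)) with mul_comm := hcon }
  haveI := hs
  have h1 : (Nat.card (PSU 6 F 2)).Prime := IsSimpleGroup.prime_card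
  rw [card_PSU' hF] at h1
  exact absurd h1 (by norm_num)

end Cfsg.Agent.H831.USix
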