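import Mathlib
import Cfsg.Agent.H831.Prim
import Cfsg.Agent.H831.USix
import Cfsg.Agent.TSp.OrdersT
import Cfsg.Agent.Fischer160.Piece

set_option autoImplicit false
set_option linter.style.haveILetI false

/-!
# The types M(22), M(23), M(24) are the types `T6`, `T7`, `T8`
-/

namespace Cfsg.Agent.H831.Types

open Cfsg Cfsg.Agent.SporadicStructure.FischerSpace Cfsg.Agent.ThreeTransPolar.Basic
open Cfsg.Agent.ThreeTransPolar.Lines
open Cfsg.Agent.Fischer160.Inherit
open Cfsg.Agent.Fischer480.Defs hiding FGroup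
open Cfsg.Agent.Fischer480.Transport
open Cfsg.Agent.H831.NoSol

universe u

section

variable {G : Type u} [Group G] {D : Set G}

/-- The two structures `FGroup`. -/
theorem defs_of_inh (F : FGroup D) : Cfsg.Agent.Fischer480.Defs.FGroup D :=
  ⟨isThree_of_fdata F.fd, F.sol, F.perf⟩

theorem inh_of_defs (F : Cfsg.Agent.Fischer480.Defs.FGroup D) : FGroup D :=
  ⟨fdata_of_class F.cls, F.sol, F.perf⟩

theorem not_solvable_KK {x : G} (h : ¬ Group.IsSolvable (KK D x)) :
    ¬ Group.IsSolvable (HH D x) := by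
  intro hs
  apply h
  haveI := hs
  exact Group.isSolvable_of_surjective
    (f := QuotientGroup.mk' (Subgroup.center (HH D x))) (QuotientGroup.mk'_surjective _)

theorem not_solvable_G {x : G} (h : ¬ Group.IsSolvable (HH D x)) : ¬ Group.IsSolvable G := by
  intro hs
  apply h
  haveI := hs
  exact Group.isSolvable_of_isSolvable_injective (f := (HH D x).subtype)
    (HH D x).subtype_injective

theorem card_KK_le [Finite G] (D : Set G) (x : G) : Nat.card (KK D x) ≤ Nat.card G :=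
  (Nat.card_le_card_of_surjective _ (QuotientGroup.mk'_surjective
    (Subgroup.center (HH D x)))).trans (Subgroup.card_le_card_group _)

/-- non-commuting members of `D_x` -/
theorem exists_ncomm {x : G} (h : ¬ Group.IsSolvable (HH D x)) :
    ∃ f ∈ Dx D x, ∃ g ∈ Dx D x, ¬ Commute f g := by
  by_contra hcon
  push Not at hcon
  apply h
  apply Group.isSolvable_of_comm
  intro a b
  have hcomm := Subgroup.isMulCommutative_closure (k := Dx D x)
    (fun f hf g hg => (hcon f hf g hg).eq)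
  exact hcomm.is_comm.comm a b

/-- `O(⟨D_x⟩)` is central. -/
theorem odd_central [Finite G] (F : FGroup D) (hc : 120 < Nat.card G) {x : G} (hx : x ∈ D) :
    Cfsg.oddCore (HH D x) ≤ Subgroup.center (HH D x) := by
  by_contra hcon
  obtain ⟨e⟩ := Cfsg.Agent.S1615.result F.sol F.perf (isThree_of_fdata F.fd) x hx hcon
  have h1 : Nat.card G = 120 := by
    rw [Nat.card_congr e.toEquiv, Nat.card_eq_fintype_card, Fintype.card_perm, Fintype.card_fin]
    rfl
  omega

theorem pCore_le [Finite G] {x : G} (hsol : ∀ N : Subgroup (KK D x), N.Normal →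
    Group.IsSolvable N → N = ⊥) : Cfsg.pCore 2 (HH D x) ≤ Subgroup.center (HH D x) := by
  apply le_center_of_quot hsol
  · exact Cfsg.Agent.Lib.Cores.pCore_normal (G := HH D x) 2
  · haveI : Fact (Nat.Prime 2) := ⟨Nat.prime_two⟩
    haveI : Group.IsNilpotent (Cfsg.pCore 2 (HH D x)) :=
      IsPGroup.isNilpotent (Cfsg.Agent.Lib.Cores.pCore_isPGroup (G := HH D x) 2)
    infer_instance

/-- **The inheritance step.** -/
theorem step [Finite G] (F : FGroup D) {x : G} (hx : x ∈ D) (hcard : 120 < Nat.card G)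
    (hsol : ∀ N : Subgroup (KK D x), N.Normal → Group.IsSolvable N → N = ⊥) :
    ThinLines D ∧ FGroup (Eb D x) ∧ CIso (Loc D x) (Eb D x) := by
  have R := rk_of_FGroup F
  have ht := Cfsg.Agent.Fischer160.Piece.thinLines_of_pCore R hx (pCore_le hsol)
  exact ⟨ht, inherit F ht hx (odd_central F hcard hx),
    Cfsg.Agent.TSp.Orders.cIso_Eb R.fd ht hx⟩

end

/-! ### M(22) -/

section

variable {G : Type u} [Group G] {D : Set G}

theorem m22_psu (h : IsOfTypeM22 G D) : ∃ d ∈ D, ∃ (F : Type) (_ : Field F) (_ : Fintype F),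
    Fintype.card F = 4 ∧ Nonempty (KK D d ≃* PSU 6 F 2) := by
  obtain ⟨-, d, hd, c, -, -, ⟨F, i1, i2, hF, e⟩, -⟩ := h
  exact ⟨d, hd, F, i1, i2, hF, e⟩

theorem psu_facts {x : G} {F : Type} [Field F] [Fintype F] (hF : Fintype.card F = 4)
    (e : KK D x ≃* PSU 6 F 2) : IsSimpleGroup (KK D x) ∧ (∃ a b : KK D x, a * b ≠ b * a) ∧
      Nat.card (KK D x) = 9196830720 ∧
      (∀ N : Subgroup (KK D x), N.Normal → Group.IsSolvable N → N = ⊥) ∧
      ¬ Group.IsSolvable (HH D x) := by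
  obtain ⟨h1, a, b, hab⟩ := USix.psu_simple hF
  have h3 : ∀ N : Subgroup (KK D x), N.Normal → Group.IsSolvable N → N = ⊥ :=
    no_sol_equiv e (simple_no_sol ⟨a, b, hab⟩)
  have hs : IsSimpleGroup (KK D x) := e.isSimpleGroup
  refine ⟨hs, ⟨e.symm a, e.symm b, ?_⟩, ?_, h3, ?_⟩
  · intro h
    apply hab
    have := congrArg e h
    simpa using this
  · rw [Nat.card_congr e.toEquiv, USix.card_PSU' hF]
  · apply not_solvable_KK
    intro hsol
    have h4 := h3 ⊤ inferInstance (by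
      haveI := hsol
      infer_instance)
    haveI := hs
    exact top_ne_bot h4

theorem m22_not_solvable (h : IsOfTypeM22 G D) : ¬ Group.IsSolvable G := by
  obtain ⟨d, -, F, i1, i2, hF, ⟨e⟩⟩ := m22_psu h
  exact not_solvable_G (psu_facts hF e).2.2.2.2

theorem m22_card [Finite G] (h : IsOfTypeM22 G D) : 120 < Nat.card G := by
  obtain ⟨d, -, F, i1, i2, hF, ⟨e⟩⟩ := m22_psu h
  have h1 := (psu_facts hF e).2.2.1
  have h2 := card_KK_le D d
  omega

/-- a class of type M(22) has no solvable normal subgroups -/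
theorem m22_no_sol [Finite G] (hE : FData D) (h : IsOfTypeM22 G D) :
    ∀ N : Subgroup G, N.Normal → Group.IsSolvable N → N = ⊥ := by
  obtain ⟨d, hd, F, i1, i2, hF, ⟨e⟩⟩ := m22_psu h
  obtain ⟨h1, h2, h3, h4, h5⟩ := psu_facts hF e
  obtain ⟨f, hf, g, hg, hfg⟩ := exists_ncomm h5
  exact solvable_normal_eq_bot hE h.1 hd (le_center_of_quot h4) hf hg hfg

theorem loc_all (F : FGroup D) {d x : G} (hd : d ∈ D) (hx : x ∈ D) :
    CIso (Loc D x) (Loc D d) :=
  Cfsg.Agent.Fischer480.Main.loc_cIso_loc (isThree_of_fdata F.fd) hx hd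

/-- **Type M(22) is type `T6`.** -/
theorem m22_isT6 [Finite G] (F : FGroup D) (h : IsOfTypeM22 G D) : IsT6 D := by
  obtain ⟨d, hd, F4, i1, i2, hF, ⟨e⟩⟩ := m22_psu h
  obtain ⟨h1, h2, h3, h4, h5⟩ := psu_facts hF e
  obtain ⟨ht, hI, hiso⟩ := step F hd (m22_card h) h4
  haveI := h1
  have hU : IsU 6 (Eb D d) := USix.isU_six h2 h3 (isThree_of_fdata hI.fd)
  have hall : ∀ x ∈ D, IsU 6 (Loc D x) := fun x hx =>
    isU (CIso.trans (loc_all F hd hx) hiso) hU
  obtain ⟨k1, k2⟩ := Cfsg.Agent.S0480U.CaseD.caseSix (defs_of_inh F) hall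
  exact ⟨k1, hall, k2⟩

end

/-! ### M(23) -/

section

variable {G : Type u} [Group G] {D : Set G}

theorem m23_sub (h : IsOfTypeM23 G D) : ∃ d ∈ D, IsOfTypeM22 (KK D d) (Eb D d) := by
  obtain ⟨-, d, hd, c, -, -, h1, -⟩ := h
  exact ⟨d, hd, h1⟩

theorem m23_not_solvable (h : IsOfTypeM23 G D) : ¬ Group.IsSolvable G := by
  obtain ⟨d, -, h1⟩ := m23_sub h
  exact not_solvable_G (not_solvable_KK (m22_not_solvable h1))

theorem m23_card [Finite G] (h : IsOfTypeM23 G D) : 120 < Nat.card G := by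
  obtain ⟨d, -, h1⟩ := m23_sub h
  exact (m22_card h1).trans_le (card_KK_le D d)

/-- **Type M(23) is type `T7`.** -/
theorem m23_isT7 [Finite G] (F : FGroup D) (h : IsOfTypeM23 G D) : IsT7 D := by
  obtain ⟨d, hd, h1⟩ := m23_sub h
  have hns := not_solvable_KK (m22_not_solvable h1)
  have hE := isThree_Eb F hd hns
  obtain ⟨ht, hI, hiso⟩ := step F hd (m23_card h) (m22_no_sol (fdata_of_class hE) h1)
  have h6 : IsT6 (Eb D d) := m22_isT6 hI h1
  exact Cfsg.Agent.S0480U.CaseDF.caseF6 (defs_of_inh F)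
    (fun x hx => isT6 (CIso.trans (loc_all F hd hx) hiso) h6)

end

/-! ### M(24) -/

section

variable {G : Type u} [Group G] {D : Set G}

theorem m24_sub (h : IsOfTypeM24 G D) : ∃ d ∈ D, IsOfTypeM23 (KK D d) (Eb D d) := by
  obtain ⟨-, d, hd, c, -, -, h1, -⟩ := h
  exact ⟨d, hd, h1⟩

theorem m24_not_solvable (h : IsOfTypeM24 G D) : ¬ Group.IsSolvable G := by
  obtain ⟨d, -, h1⟩ := m24_sub h
  exact not_solvable_G (not_solvable_KK (m23_not_solvable h1))

theorem m24_card [Finite G] (h : IsOfTypeM24 G D) : 120 < Nat.card G := by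
  obtain ⟨d, -, h1⟩ := m24_sub h
  exact (m23_card h1).trans_le (card_KK_le D d)

/-- **Type M(24) is type `T8`.** -/
theorem m24_isT8 [Finite G] (F : FGroup D) (h : IsOfTypeM24 G D) {d₀ : G} (hd₀ : d₀ ∈ D)
    (h2 : Cfsg.pCore 2 (HH D d₀) ≤ Subgroup.center (HH D d₀)) : IsT8 D := by
  obtain ⟨d, hd, h1⟩ := m24_sub h
  have R := rk_of_FGroup F
  have ht := Cfsg.Agent.Fischer160.Piece.thinLines_of_pCore R hd₀ h2
  have hI := inherit F ht hd (odd_central F (m24_card h) hd)
  have hiso := Cfsg.Agent.TSp.Orders.cIso_Eb R.fd ht hd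
  have h7 : IsT7 (Eb D d) := m23_isT7 hI h1
  exact Cfsg.Agent.S0480U.CaseDF.caseF7 (defs_of_inh F)
    (fun x hx => isT7 (CIso.trans (loc_all F hd hx) hiso) h7)

end

/-! ### From the hypotheses of the statements -/

section

variable {G : Type u} [Group G] {D : Set G}

theorem fgroup_m22 (hD : IsThreeTranspositionGroup D) (hprim : IsPrimitiveUnderConj D)
    (h : IsOfTypeM22 G D) : Cfsg.Agent.Fischer480.Defs.FGroup D :=
  Prim.fgroup hD hprim h.1 (m22_not_solvable h)

theorem fgroup_m23 (hD : IsThreeTranspositionGroup D) (hprim : IsPrimitiveUnderConj D)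
    (h : IsOfTypeM23 G D) : Cfsg.Agent.Fischer480.Defs.FGroup D :=
  Prim.fgroup hD hprim h.1 (m23_not_solvable h)

theorem fgroup_m24 (hD : IsThreeTranspositionGroup D) (hprim : IsPrimitiveUnderConj D)
    (h : IsOfTypeM24 G D) : Cfsg.Agent.Fischer480.Defs.FGroup D :=
  Prim.fgroup hD hprim h.1 (m24_not_solvable h)

/-- **M(22)**, from the hypotheses of the statements -/
theorem isT6 [Finite G] (hD : IsThreeTranspositionGroup D) (hprim : IsPrimitiveUnderConj D)
    (h : IsOfTypeM22 G D) : IsT6 D :=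
  m22_isT6 (inh_of_defs (fgroup_m22 hD hprim h)) h

/-- **M(23)**, from the hypotheses of the statements -/
theorem isT7 [Finite G] (hD : IsThreeTranspositionGroup D) (hprim : IsPrimitiveUnderConj D)
    (h : IsOfTypeM23 G D) : IsT7 D :=
  m23_isT7 (inh_of_defs (fgroup_m23 hD hprim h)) h

/-- **M(24)**, from the hypotheses of the statements -/
theorem isT8 [Finite G] (hD : IsThreeTranspositionGroup D) (hprim : IsPrimitiveUnderConj D)
    {d₀ : G} (hd₀ : d₀ ∈ D)
    (h2 : Cfsg.pCore 2 ↥(Subgroup.closure {y : G | y ∈ D ∧ y ≠ d₀ ∧ Commute d₀ y}) ≤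
      Subgroup.center ↥(Subgroup.closure {y : G | y ∈ D ∧ y ≠ d₀ ∧ Commute d₀ y}))
    (h : IsOfTypeM24 G D) : IsT8 D :=
  m24_isT8 (inh_of_defs (fgroup_m24 hD hprim h)) h hd₀ h2

end

end Cfsg.Agent.H831.Types
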