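import Cfsg.Agent.H831.SmallCoBase
import Cfsg.Agent.H813.CoLarge

/-!
# Orders of nilpotent subgroups: the centralizer of an octad sign change in `Co1` (helper831, for S2242)

* `small_of_hI` : the induction hypothesis for groups in `Type`;
* `exists_oct` : a surjective homomorphism from `C(mk (signCo0 o))` to `Ω⁺(8, 2)` with kernel of order `2 ^ 9`;
* `normal_le_ker` : the kernel contains the normal 2-subgroups.
-/

set_option autoImplicit false

namespace Cfsg.Agent.H831.SmallCo

open Subgroup Cfsg Cfsg.Spor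
open Cfsg.Agent.H972.NSm
open Cfsg.Agent.CpAutBig
open Cfsg.Agent.SporadicA.Co0Mono (signCo0)
open Cfsg.Agent.CoOneType.SignFacts (wt)
open Cfsg.Agent.CoOneType.ClosingFacts (mk mk_mul mk_inv exists_mk mk_eq_one mk_eq isConj_octad)
open Cfsg.Agent.CoOneNWC.OmFacts (Om8 simple_om8 card_om8)

universe u

/-- the induction hypothesis for a group in `Type` -/
theorem small_of_hI {G : Type u} [Group G]
    (hI : ∀ (H : Type u) [Group H] [Finite H], IsSimpleGroup H → ¬ IsMulCommutative H → Nat.card H < Nat.card G →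
      H972.NSm.Small H) {L : Type} [Group L] [Finite L] (hs : IsSimpleGroup L) (hna : ¬ IsMulCommutative L)
    (hc : Nat.card L < Nat.card G) : H972.NSm.Small L := by
  have e : ULift.{u} L ≃* L := MulEquiv.ulift
  refine Small.congr (hI (ULift.{u} L) ?_ ?_ ?_) e
  · exact e.isSimpleGroup_congr.2 hs
  · intro h
    apply hna
    refine ⟨⟨fun a b => ?_⟩⟩
    have h1 := h.is_comm.comm (e.symm a) (e.symm b)
    have h2 := congrArg e h1
    simpa using h2
  · rwa [Nat.card_congr e.toEquiv]

theorem not_comm_of_card {L : Type*} [Group L] [Finite L] [IsSimpleGroup L] (h : ¬ (Nat.card L).Prime) :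
    ¬ IsMulCommutative L := by
  intro hc
  apply h
  let _ : CommGroup L := { (inferInstance : Group L) with mul_comm := fun a b => hc.is_comm.comm a b }
  exact IsSimpleGroup.prime_card

/-- conjugation of centralizers -/
noncomputable def centConj {G : Type*} [Group G] (g x : G) :
    ↥(centralizer ({x} : Set G)) ≃* ↥(centralizer ({g * x * g⁻¹} : Set G)) :=
  ((centralizer ({x} : Set G)).equivMapOfInjective _ (MulAut.conj g).injective).trans
    (MulEquiv.subgroupCongr (CoZero.map_centralizer g x))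

instance : Finite Om8 := (Nat.card_pos_iff.1 (by rw [card_om8]; norm_num)).2

/-- **`C(mk (signCo0 o)) → Ω⁺(8, 2)`** -/
theorem exists_oct {o : golayCode} (ho : wt o = 8) :
    ∃ π : ↥(centralizer ({mk (signCo0 o)} : Set Spor.Co1)) →* Om8, Function.Surjective π ∧
      Nat.card ↥π.ker = 2 ^ 9 := by
  have hfin := H813.CoLarge.finite_co1
  obtain ⟨L, hL⟩ := H813.CoLarge.exists_L
  have hn := H813.CoLarge.normal
  obtain ⟨e⟩ := H813.OmegaCent.nonempty_equiv H813.CoLarge.large L hL H813.CoLarge.perfect H813.CoLarge.card_Q'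
    H813.CoLarge.card_le
  have hz : IsConj (mk (signCo0 o)) StdG24.ExInst.z := by
    rw [StdG24.ExCent.z_eq]
    exact isConj_octad ho StdG24.ExCent.wt_oM
  obtain ⟨g, hg⟩ := isConj_iff.1 hz
  have c : ↥(centralizer ({mk (signCo0 o)} : Set Spor.Co1)) ≃* ↥(centralizer ({StdG24.ExInst.z} : Set Spor.Co1)) :=
    (centConj g _).trans (MulEquiv.subgroupCongr (by rw [hg]))
  let q : ↥(centralizer ({StdG24.ExInst.z} : Set Spor.Co1)) →*
      ↥(centralizer ({StdG24.ExInst.z} : Set Spor.Co1)) ⧸
        (StdG24.ExInst.Q.subgroupOf (centralizer ({StdG24.ExInst.z} : Set Spor.Co1))) := QuotientGroup.mk' _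
  obtain ⟨π, hπ⟩ : ∃ π : ↥(centralizer ({mk (signCo0 o)} : Set Spor.Co1)) →* Om8, Function.Surjective π :=
    ⟨e.toMonoidHom.comp (q.comp c.toMonoidHom),
      e.surjective.comp ((QuotientGroup.mk'_surjective _).comp c.surjective)⟩
  refine ⟨π, hπ, ?_⟩
  have h1 := Subgroup.card_mul_index π.ker
  rw [Subgroup.index_ker, MonoidHom.range_eq_top.2 hπ, Subgroup.card_top, Nat.card_congr c.toEquiv,
    Subgroup.card_eq_card_quotient_mul_card_subgroup
      (StdG24.ExInst.Q.subgroupOf (centralizer ({StdG24.ExInst.z} : Set Spor.Co1))), Nat.card_congr e.toEquiv,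
    Nat.card_congr (Subgroup.subgroupOfEquivOfLe (LargeExtra.Nine.ToCent.le_cent H813.CoLarge.large)).toEquiv,
    H813.CoLarge.card_Q', card_om8] at h1
  omega

/-- a normal 2-subgroup lies in the kernel -/
theorem normal_le_ker {C : Type*} [Group C] [Finite C] {π : C →* Om8} (hπ : Function.Surjective π) {R : Subgroup C}
    (hR : R.Normal) (h2 : IsPGroup 2 ↥R) : R ≤ π.ker := by
  have hs := simple_om8
  have h1 : (R.map π).Normal := hR.map π hπ
  rcases h1.eq_bot_or_eq_top with h | h
  · intro x hx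
    have h3 : π x ∈ R.map π := ⟨x, hx, rfl⟩
    rwa [h, Subgroup.mem_bot] at h3
  · exfalso
    have h3 : IsPGroup 2 ↥(R.map π) := h2.map π
    rw [h] at h3
    have h4 : IsPGroup 2 Om8 := h3.of_equiv Subgroup.topEquiv
    obtain ⟨k, hk⟩ := IsPGroup.iff_card.mp h4
    rw [card_om8] at hk
    have h5 : 3 ∣ 2 ^ k := by rw [← hk]; norm_num
    have h6 := (Nat.Prime.dvd_of_dvd_pow Nat.prime_three h5)
    omega

end Cfsg.Agent.H831.SmallCo
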