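import Cfsg.Agent.H831.SmallCoOct
import Cfsg.Agent.CTwoTab.Co1
import Cfsg.Agent.H813.CoSevenCard
import Cfsg.Agent.SporadicStructure.DodecadStab

/-!
# Orders of nilpotent subgroups: `Co1` (helper831, for S2242)
-/

set_option autoImplicit false

namespace Cfsg.Agent.H831.SmallCo

open Subgroup Cfsg Cfsg.Spor
open scoped Pointwise
open Cfsg.Agent.H972.NSm
open Cfsg.Agent.CpAutBig
open Cfsg.Agent.SporadicA.Co0Mono (signCo0 permCo0 wordPerm signCo0_smul permCo0_smul signMap_apply permMap_apply)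
open Cfsg.Agent.SporadicA.Co1Simple (exists_sign_perm allOne)
open Cfsg.Agent.CoOneType.SignFacts (sup wt notMem_sup mem_sup)
open Cfsg.Agent.CoOneType.ClosingFacts (mk mk_mul mk_inv exists_mk mk_eq_one mk_eq isConj_octad)
open Cfsg.Agent.CoOneNWC.OmFacts (Om8 simple_om8 card_om8)

universe u

namespace One

theorem card_co1 : Nat.card Spor.Co1 = 4157776806543360000 := BpSpor.MBigCo.card_co1

/-- the centralizer of an element of odd order is the image of the centralizer of a lift -/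
theorem card_cent_mk_dvd {a : Co0} {n : ℕ} (hn : Odd n) (ha : a ^ n = 1) :
    Nat.card ↥(centralizer ({mk a} : Set Spor.Co1)) ∣ Nat.card ↥(centralizer ({a} : Set Co0)) := by
  have h1 : centralizer ({mk a} : Set Spor.Co1) = (centralizer ({a} : Set Co0)).map
      (QuotientGroup.mk' (Subgroup.center Co0)) := by
    apply le_antisymm
    · intro s hs
      obtain ⟨b, rfl⟩ := exists_mk s
      have h2 : mk a * mk b = mk b * mk a := (mem_centralizer_singleton_iff.1 hs).symm
      have h3 := LThreeBX.NoSeven.comm_of_mk hn ha h2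
      exact ⟨b, mem_centralizer_singleton_iff.2 h3.symm, rfl⟩
    · rintro _ ⟨b, hb, rfl⟩
      rw [mem_centralizer_singleton_iff]
      have h2 := mem_centralizer_singleton_iff.1 hb
      show mk (b * a) = mk (a * b)
      rw [h2]
  rw [h1]
  exact card_map_dvd _ _

theorem card_seven {s : Spor.Co1} (hs : orderOf s = 7) : Nat.card ↥(centralizer ({s} : Set Spor.Co1)) ≤ 35280 := by
  have hfin := CoZero.finite_co0
  obtain ⟨a, ha, rfl⟩ := CpAutMSeven.RanksH.exists_lift hs
  have h1 : Nat.card ↥(centralizer ({(QuotientGroup.mk a : Spor.Co1)} : Set Spor.Co1)) ∣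
      Nat.card ↥(centralizer ({a} : Set Co0)) :=
    card_cent_mk_dvd (n := 7) (by decide) (by rw [← ha, pow_orderOf_eq_one])
  refine (Nat.le_of_dvd Nat.card_pos h1).trans ?_
  by_cases h : ∀ v : leechLattice, a • v = v → v = 0
  · exact Nat.le_of_dvd (by norm_num) (H813.CoSevenCard.card_dvd ha h)
  · push Not at h
    obtain ⟨v, hv, hv0⟩ := h
    obtain ⟨g, hg⟩ := SevenFix.conj_seven ha hv0 hv
    rw [CoZero.card_centralizer_of_conj (by norm_num) ha SevenFix.orderOf_r7 hg]
    exact SevenFix.card_le_r7.trans (by norm_num)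

/-- the stabilizer of a pair of complementary dodecads -/
theorem ncard_dod {d : Finset GolayPt} (hd : d ∈ dodecads) :
    {σ : Equiv.Perm GolayPt | σ ∈ M24 ∧ (σ • d = d ∨ σ • d = dᶜ)}.ncard ≤ 190080 := by
  have hc := SporadicStructure.DodecadStab.card_DFix hd [] (by simp) (by simp) (by simp)
  have hA : ((SporadicStructure.DodecadStab.DFix d [] : Subgroup (Equiv.Perm GolayPt)) :
      Set (Equiv.Perm GolayPt)).ncard = 95040 := by
    rw [← Nat.card_coe_set_eq]
    exact hc.trans (by decide)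
  have hsub : ∃ τ : Equiv.Perm GolayPt, {σ : Equiv.Perm GolayPt | σ ∈ M24 ∧ (σ • d = d ∨ σ • d = dᶜ)} ⊆
      ((SporadicStructure.DodecadStab.DFix d [] : Subgroup (Equiv.Perm GolayPt)) :
        Set (Equiv.Perm GolayPt)) ∪
      (fun x => τ * x) '' ((SporadicStructure.DodecadStab.DFix d [] : Subgroup (Equiv.Perm GolayPt)) :
        Set (Equiv.Perm GolayPt)) := by
    by_cases h : ∃ τ : Equiv.Perm GolayPt, τ ∈ M24 ∧ τ • d = dᶜ
    · obtain ⟨τ, hτ, hτd⟩ := h
      refine ⟨τ, ?_⟩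
      rintro σ ⟨hσ, hσd | hσd⟩
      · left
        exact ⟨hσ, hσd, by simp⟩
      · right
        refine ⟨τ⁻¹ * σ, ⟨mul_mem (inv_mem hτ) hσ, ?_, by simp⟩, ?_⟩
        · rw [mul_smul, hσd, inv_smul_eq_iff, hτd]
        · show τ * (τ⁻¹ * σ) = σ
          group
    · refine ⟨1, ?_⟩
      rintro σ ⟨hσ, hσd | hσd⟩
      · left
        exact ⟨hσ, hσd, by simp⟩
      · exact absurd ⟨σ, hσ, hσd⟩ h
  obtain ⟨τ, hτ⟩ := hsub
  have h2 := Set.ncard_le_ncard hτ (Set.toFinite _)
  have h3 := Set.ncard_union_le ((SporadicStructure.DodecadStab.DFix d [] :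
    Subgroup (Equiv.Perm GolayPt)) : Set (Equiv.Perm GolayPt)) ((fun x => τ * x) ''
      ((SporadicStructure.DodecadStab.DFix d [] : Subgroup (Equiv.Perm GolayPt)) :
        Set (Equiv.Perm GolayPt)))
  have h4 := Set.ncard_image_le (f := fun x => τ * x) (Set.toFinite
    ((SporadicStructure.DodecadStab.DFix d [] : Subgroup (Equiv.Perm GolayPt)) :
        Set (Equiv.Perm GolayPt)))
  omega

/-- `C(2C)` -/
theorem card_dod {o : golayCode} (ho : wt o = 12) :
    Nat.card ↥(centralizer ({mk (signCo0 o)} : Set Spor.Co1)) ≤ 778567680 := by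
  have hfin := BpSpor.MBigCo.finite_co1
  have hd : sup o ∈ dodecads := ⟨CoOneType.SignFacts.sup_mem _, ho⟩
  let A : Set (Equiv.Perm GolayPt) := {σ | σ ∈ M24 ∧ (σ • sup o = sup o ∨ σ • sup o = (sup o)ᶜ)}
  have hA : Nat.card A ≤ 190080 := by
    rw [Nat.card_coe_set_eq]
    exact ncard_dod hd
  have hex : ∀ k : ↥(centralizer ({mk (signCo0 o)} : Set Spor.Co1)), ∃ x : golayCode × A,
      ∃ hx : ((x.2 : Equiv.Perm GolayPt) ∈ M24),
        (k : Spor.Co1) = mk (signCo0 x.1 * permCo0 ⟨(x.2 : Equiv.Perm GolayPt), hx⟩) := by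
    rintro ⟨k, hk⟩
    obtain ⟨g, rfl⟩ := exists_mk k
    obtain ⟨a, σ, rfl⟩ := exists_sign_perm (KFacts.Co1D4.DodBal.mem_N ho (mem_centralizer_singleton_iff.1 hk))
    have h1 := CTwoTab.Co1.conj_sign a o σ
    rw [mem_centralizer_singleton_iff.1 hk, mul_inv_cancel_right] at h1
    refine ⟨⟨a, ⟨(σ : Equiv.Perm GolayPt), σ.2, ?_⟩⟩, σ.2, rfl⟩
    rcases KFacts.Co1D4.DodBal.mk_sign_eq h1.symm with h8 | h8
    · left
      show (σ : Equiv.Perm GolayPt) • sup o = sup o
      rw [← KFacts.Co1.OctPts.sup_wordPerm, h8]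
    · right
      show (σ : Equiv.Perm GolayPt) • sup o = (sup o)ᶜ
      rw [← KFacts.Co1.OctPts.sup_wordPerm, h8, CoOneType.SignFacts.sup_add_allOne]
  choose f hf hf' using hex
  have hinj : Function.Injective f := by
    intro a b hab
    apply Subtype.ext
    rw [hf', hf']
    congr 2
    · rw [hab]
    · congr 1
      exact Subtype.ext (congrArg (fun x : golayCode × A => (x.2 : Equiv.Perm GolayPt)) hab)
  have h2 := Nat.card_le_card_of_injective f hinj
  rw [Nat.card_prod, S0358.card_golayCode] at h2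
  refine h2.trans ?_
  calc 4096 * Nat.card A ≤ 4096 * 190080 := Nat.mul_le_mul_left _ hA
    _ = 778567680 := by norm_num

theorem nle_oct (h8 : H972.NSm.Small Om8) {o : golayCode} (ho : wt o = 8) :
    NLE 6756864 ↥(centralizer ({mk (signCo0 o)} : Set Spor.Co1)) := by
  have hfin := BpSpor.MBigCo.finite_co1
  obtain ⟨π, hπ, hker⟩ := exists_oct ho
  have h2 : NLE 13197 Om8 := h8.nle (by rw [card_om8]; norm_num)
  have h3 := h2.of_hom π
  rw [hker] at h3
  exact h3.mono (by norm_num)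

theorem at_two (h8 : H972.NSm.Small Om8) : SmallAt 2 Spor.Co1 := by
  have hfin := BpSpor.MBigCo.finite_co1
  refine smallAt_of_cent Nat.prime_two fun x hx => ?_
  obtain ⟨g, s, hs, rfl⟩ := CTwoTab.Co1.exists_rep x hx
  rcases hs with ⟨o, ho, rfl⟩ | ⟨o, ho, rfl⟩ | rfl
  · exact ⟨6756864, nle_conj _ _ (nle_oct h8 ho), by rw [card_co1]; norm_num⟩
  · exact ⟨778567680, nle_conj _ _ (nle_of_card (card_dod ho)), by rw [card_co1]; norm_num⟩
  · refine ⟨2012774400, nle_conj _ _ (nle_of_card ?_), by rw [card_co1]; norm_num⟩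
    refine KFacts.Co1D4.Main.setup.card.trans ?_
    rw [KFacts.Co1D4.GTwo.card_L]

theorem at_thirteen (h2 : SmallAt 2 Spor.Co1) : SmallAt 13 Spor.Co1 := by
  have hfin := BpSpor.MBigCo.finite_co1
  intro N hN h13
  by_cases he : 2 ∣ Nat.card ↥N
  · exact h2 N hN he
  have hp13 : Nat.Prime 13 := by norm_num
  obtain ⟨x, hx, -, hle⟩ := exists_le_centralizer hN hp13 h13
  obtain ⟨a, rfl, ha, hao⟩ := BpSpor.MBigCo.exists_lift_thirteen hx
  have h3 : Nat.card ↥N ∣ Nat.card ↥(centralizer ({a} : Set Co0)) :=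
    (card_dvd_of_le hle).trans (card_cent_mk_dvd (n := 13) (by decide) ha)
  have hc : ∀ q : ℕ, q.Prime → (q = 2 ∨ (5 ≤ q ∧ q ≠ 13)) → (Nat.card ↥N).Coprime q := by
    rintro q hq (rfl | ⟨h5, h13'⟩)
    · exact ((Nat.Prime.coprime_iff_not_dvd hq).2 he).symm
    · exact ((Nat.Prime.coprime_iff_not_dvd hq).2 fun h =>
        BpSpor.MBigCo.not_dvd_thirteen hao hq h5 h13' (h.trans h3)).symm
  have h4 : Nat.card ↥N ∣ 3 ^ 9 * 13 * 2 ^ 21 * 5 ^ 4 * 7 ^ 2 * 11 * 23 := by
    refine (card_subgroup_dvd_card N).trans (dvd_of_eq ?_)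
    rw [card_co1]; norm_num
  have h5 := (hc 23 (by norm_num) (by norm_num)).dvd_of_dvd_mul_right h4
  have h6 := (hc 11 (by norm_num) (by norm_num)).dvd_of_dvd_mul_right h5
  have h7 := ((hc 7 (by norm_num) (by norm_num)).pow_right 2).dvd_of_dvd_mul_right h6
  have h8 := ((hc 5 (by norm_num) (by norm_num)).pow_right 4).dvd_of_dvd_mul_right h7
  have h9 := ((hc 2 (by norm_num) (by norm_num)).pow_right 21).dvd_of_dvd_mul_right h8
  have h10 := Nat.le_of_dvd (by norm_num) h9
  calc Nat.card ↥N ^ 2 ≤ (3 ^ 9 * 13) ^ 2 := Nat.pow_le_pow_left h10 2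
    _ < Nat.card Spor.Co1 := by rw [card_co1]; norm_num

theorem small (h8 : H972.NSm.Small Om8) : H972.NSm.Small Spor.Co1 := by
  have hfin := BpSpor.MBigCo.finite_co1
  have hc := card_co1
  refine small_of_smallAt {2, 7, 11, 13} (3 ^ 9 * 5 ^ 4 * 23) (2 ^ 21 * (7 ^ 2 * (11 * 13))) (by rw [hc]; norm_num) ?_
    (by rw [hc]; norm_num) ?_
  · intro p hp hd
    rw [hp.dvd_mul, hp.dvd_mul, hp.dvd_mul] at hd
    simp only [Finset.mem_insert, Finset.mem_singleton]
    rcases hd with h | h | h | h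
    · exact Or.inl ((Nat.prime_dvd_prime_iff_eq hp Nat.prime_two).1 (hp.dvd_of_dvd_pow h))
    · exact Or.inr (Or.inl ((Nat.prime_dvd_prime_iff_eq hp (by norm_num)).1 (hp.dvd_of_dvd_pow h)))
    · exact Or.inr (Or.inr (Or.inl ((Nat.prime_dvd_prime_iff_eq hp (by norm_num)).1 h)))
    · exact Or.inr (Or.inr (Or.inr ((Nat.prime_dvd_prime_iff_eq hp (by norm_num)).1 h)))
  · intro p hp hpr
    simp only [Finset.mem_insert, Finset.mem_singleton] at hp
    rcases hp with rfl | rfl | rfl | rfl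
    · exact at_two h8
    · exact smallAt_of_card hpr 35280 (by rw [hc]; norm_num) fun x hx => card_seven hx
    · exact smallAt_of_card hpr 132 (by rw [hc]; norm_num) fun x hx => BpSpor.MBigCo.card_cent hx
    · exact at_thirteen (at_two h8)

end One

/-- **The row `Co1`.** -/
theorem small_Co1 {G : Type u} [Group G] [Finite G] (h : Cfsg.Spor.IsoCo1 G)
    (hI : ∀ (H : Type u) [Group H] [Finite H], IsSimpleGroup H → ¬ IsMulCommutative H → Nat.card H < Nat.card G →
      Cfsg.Agent.H972.NSm.Small H) : Cfsg.Agent.H972.NSm.Small G := by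
  obtain ⟨e⟩ := h
  have hG : Nat.card G = 4157776806543360000 := (Nat.card_congr e.toEquiv).trans One.card_co1
  have hs8 := simple_om8
  refine (One.small (small_of_hI hI hs8 (not_comm_of_card ?_) ?_)).congr e.symm
  · rw [card_om8]; norm_num
  · rw [card_om8, hG]; norm_num

end Cfsg.Agent.H831.SmallCo
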