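import Cfsg.Agent.H831.SmallCoOct
import Cfsg.Agent.KFacts.CoTwo.QuotInst
import Cfsg.Agent.SevenCases.SporCo2
import Cfsg.Agent.KFacts.CoInv.TwoMono
import Cfsg.Agent.SporadicStructure.DodecadStab
import Cfsg.Agent.Co2Type.Setup

/-!
# Orders of nilpotent subgroups: `Co2` (helper831, for S2242)

* `nle_z` : `C(2A) / R ≅ Sp₆(2)`; `nle_y` : `C(2B)` is contained in the centralizer `2^(1+8).Ω⁺(8,2)` of an octad
  sign change in `Co1`; `card_v` : `C(2C)` is monomial.
-/

set_option autoImplicit false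

namespace Cfsg.Agent.H831.SmallCo

open Subgroup Cfsg Cfsg.Spor
open scoped Pointwise
open Cfsg.Agent.H972.NSm
open Cfsg.Agent.CpAutBig
open Cfsg.Agent.SporadicA.Co0Mono (signCo0 permCo0 wordPerm signCo0_smul permCo0_smul signMap_apply permMap_apply)
open Cfsg.Agent.CoOneType.SignFacts (sup wt notMem_sup mem_sup)
open Cfsg.Agent.CoOneType.ClosingFacts (mk mk_mul mk_inv exists_mk mk_eq_one mk_eq isConj_octad)
open Cfsg.Agent.CoOneNWC.OmFacts (Om8 simple_om8 card_om8)
open Cfsg.Agent.Co2Type.Mono Cfsg.Agent.Co2Type.TGroup Cfsg.Agent.Co2Type.TData Cfsg.Agent.Co2Type.FactsD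
open Cfsg.Agent.KFacts.Co1.OctPts (Fo mem_Fo fo_trans)
open Cfsg.Agent.KFacts.Co1.RHat (Rh perm_mem_Rh)

universe u

namespace Two

theorem card_co2 : Nat.card Spor.Co2 = 42305421312000 := Schreier.CoTwoStab.card

/-- `C(z)`, with the bound for `Sp₆(2)` -/
theorem nle_z (h6 : H972.NSm.Small KFacts.CoTwo.Quot.Sp62) : NLE 616448 ↥(centralizer ({ge mz} : Set Spor.Co2)) := by
  have hfin : Finite Spor.Co2 := Schreier.CoTwoStab.finite
  have D := KFacts.CoTwo.QuotInst.dataT
  obtain ⟨π, hs, hker⟩ := D.quot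
  have h1 : NLE 1204 KFacts.CoTwo.Quot.Sp62 := h6.nle (by
    have h : Nat.card KFacts.CoTwo.Quot.Sp62 = 1451520 := Co2Type.Setup.card_sp6
    rw [h]; norm_num)
  have h2 := h1.of_hom π
  have h3 : Nat.card ↥π.ker = 2 ^ 9 := by
    have h4 : π.ker = KFacts.CoTwo.RSub.R.subgroupOf (centralizer ({ge mz} : Set Spor.Co2)) := by
      ext c
      rw [MonoidHom.mem_ker, hker, mem_subgroupOf]
    have hle : KFacts.CoTwo.RSub.R ≤ centralizer ({ge mz} : Set Spor.Co2) := fun x hx =>
      mem_centralizer_singleton_iff.2 (D.large.comm_z x hx)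
    rw [h4, Nat.card_congr (subgroupOfEquivOfLe hle).toEquiv, KFacts.CoTwo.RLarge.card_R]
  rw [h3] at h2
  exact h2.mono (by norm_num)

theorem exists_third {o : golayCode} (ho : wt o = 8) : ∃ p : GolayPt, p ∉ sup o ∧ p ≠ none ∧ p ≠ some 0 := by
  by_contra hcon
  push Not at hcon
  have h1 : (Finset.univ : Finset GolayPt) ⊆ sup o ∪ {none, some 0} := by
    intro p _
    rw [Finset.mem_union]
    by_cases hp : p ∈ sup o
    · exact Or.inl hp
    · right
      rw [Finset.mem_insert, Finset.mem_singleton]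
      by_cases hp0 : p = none
      · exact Or.inl hp0
      · exact Or.inr (hcon p hp hp0)
  have h2 := Finset.card_le_card h1
  have h3 := Finset.card_union_le (sup o) {(none : GolayPt), some 0}
  have h4 : ({(none : GolayPt), some 0} : Finset GolayPt).card ≤ 2 := Finset.card_le_two
  have h5 : (sup o).card = 8 := ho
  have h6 : (Finset.univ : Finset GolayPt).card = 24 := by decide
  omega

/-- the extraspecial group does not lie in `Co2` -/
theorem not_le {o : golayCode} (ho : wt o = 8) (h1 : none ∉ sup o) :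
    ∃ r ∈ Rh o, ∀ g : Spor.Co2, mk (toCo0 g) ≠ mk r := by
  obtain ⟨p, hp, hp1, hp2⟩ := exists_third ho
  obtain ⟨σ, hσ, hσp⟩ := fo_trans ho h1 hp
  refine ⟨permCo0 σ, perm_mem_Rh hσ, fun g hg => ?_⟩
  have hval : ((permCo0 σ • leechU : leechLattice) : GolayPt → ℤ) p = 4 := by
    rw [permCo0_smul, permMap_apply, ← hσp, Equiv.symm_apply_apply]
    rfl
  have hU : ((leechU : leechLattice) : GolayPt → ℤ) p = 0 := by
    show (if p = none ∨ p = some 0 then (4 : ℤ) else 0) = 0
    rw [if_neg (by push Not; exact ⟨hp1, hp2⟩)]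
  have hg1 : toCo0 g • leechU = leechU := toCo0_smul g
  rcases (mk_eq _ _).1 hg with h | h
  · rw [h] at hg1
    rw [hg1, hU] at hval
    norm_num at hval
  · rw [h, mul_smul, SporadicA.Co1Simple.allOne_smul, SporadicA.Co0Mono.smul_neg] at hg1
    have h2 := congrArg (fun u : leechLattice => (u : GolayPt → ℤ) p) hg1
    change -((permCo0 σ • leechU : leechLattice) : GolayPt → ℤ) p = (leechU : GolayPt → ℤ) p at h2
    rw [hval, hU] at h2
    norm_num at h2

/-- `C(y)`, with the bound for `Ω⁺(8, 2)` -/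
theorem nle_oct (h8 : H972.NSm.Small Om8) {o : golayCode} (ho : wt o = 8) (h1 : none ∉ sup o) {y : Spor.Co2}
    (hy : toCo0 y = signCo0 o) : NLE 3378432 ↥(centralizer ({y} : Set Spor.Co2)) := by
  have hfin : Finite Spor.Co2 := Schreier.CoTwoStab.finite
  have hfin1 := BpSpor.MBigCo.finite_co1
  let φ : Spor.Co2 →* Spor.Co1 := (QuotientGroup.mk' (Subgroup.center Co0)).comp toCo0
  have hφ : Function.Injective φ := mk_injective toCo0_injective PreUniqCo.Rows.leechU_ne toCo0_smul
  have hφy : φ y = mk (signCo0 o) := by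
    show mk (toCo0 y) = _
    rw [hy]
  obtain ⟨π, hπ, hker⟩ := exists_oct ho
  let ψ : ↥(centralizer ({y} : Set Spor.Co2)) →* ↥(centralizer ({mk (signCo0 o)} : Set Spor.Co1)) :=
    (MulEquiv.subgroupCongr (show centralizer ({φ y} : Set Spor.Co1) = centralizer ({mk (signCo0 o)} : Set Spor.Co1) by
      rw [hφy])).toMonoidHom.comp (centHom φ y)
  have hψ : Function.Injective ψ := by
    intro a b hab
    have h2 : ((ψ a : ↥(centralizer ({mk (signCo0 o)} : Set Spor.Co1))) : Spor.Co1) = ψ b := congrArg Subtype.val hab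
    exact centHom_injective hφ y (Subtype.ext h2)
  have hψv : ∀ c, ((ψ c : ↥(centralizer ({mk (signCo0 o)} : Set Spor.Co1))) : Spor.Co1) = mk (toCo0 c) := fun c => rfl
  -- the kernel
  have hL := KFacts.Co1.InCo1.large ho
  have hR : KFacts.Co1.InCo1.RCo1 o ≤ centralizer ({mk (signCo0 o)} : Set Spor.Co1) := fun x hx =>
    mem_centralizer_singleton_iff.2 (hL.comm_z x hx)
  have hRn : ((KFacts.Co1.InCo1.RCo1 o).subgroupOf (centralizer ({mk (signCo0 o)} : Set Spor.Co1))).Normal := by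
    constructor
    intro r hr c
    rw [mem_subgroupOf] at hr ⊢
    exact hL.conj_mem c (mem_centralizer_singleton_iff.1 c.2) r hr
  have hR2 : IsPGroup 2 ↥((KFacts.Co1.InCo1.RCo1 o).subgroupOf (centralizer ({mk (signCo0 o)} : Set Spor.Co1))) :=
    (LargeExtra.Base.isPGroup hL).of_equiv (subgroupOfEquivOfLe hR).symm
  have hRk := normal_le_ker hπ hRn hR2
  let K : Subgroup ↥(centralizer ({mk (signCo0 o)} : Set Spor.Co1)) := (π.comp ψ).ker.map ψ
  have hK : K ≤ π.ker := by
    rintro _ ⟨c, hc, rfl⟩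
    exact hc
  have hKne : K ≠ π.ker := by
    intro h
    obtain ⟨r, hr, hne⟩ := not_le ho h1
    have h2 : mk r ∈ KFacts.Co1.InCo1.RCo1 o := ⟨r, hr, rfl⟩
    have h3 : (⟨mk r, hR h2⟩ : ↥(centralizer ({mk (signCo0 o)} : Set Spor.Co1))) ∈ K := by
      rw [h]
      exact hRk (mem_subgroupOf.2 h2)
    obtain ⟨c, -, hc⟩ := h3
    exact hne c ((hψv c).symm.trans (congrArg Subtype.val hc))
  have hcard : Nat.card ↥(π.comp ψ).ker ≤ 256 := by
    have h2 : Nat.card ↥(π.comp ψ).ker = Nat.card ↥K :=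
      Nat.card_congr ((π.comp ψ).ker.equivMapOfInjective ψ hψ).toEquiv
    have h3 : Nat.card ↥K ∣ Nat.card ↥π.ker := card_dvd_of_le hK
    have h4 : Nat.card ↥K ≠ Nat.card ↥π.ker := fun h => hKne (eq_of_le_of_card_ge hK h.ge)
    rw [hker] at h3 h4
    obtain ⟨k, hk, hk'⟩ := (Nat.dvd_prime_pow Nat.prime_two).1 h3
    rw [h2, hk']
    rw [hk'] at h4
    have h5 : k ≠ 9 := by rintro rfl; exact h4 rfl
    calc 2 ^ k ≤ 2 ^ 8 := Nat.pow_le_pow_right (by norm_num) (by omega)
      _ = 256 := by norm_num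
  have h2 : NLE 13197 Om8 := h8.nle (by rw [card_om8]; norm_num)
  have h3 := h2.of_hom (π.comp ψ)
  refine h3.mono ?_
  calc Nat.card ↥(π.comp ψ).ker * 13197 ≤ 256 * 13197 := Nat.mul_le_mul_right _ hcard
    _ = 3378432 := by norm_num

/-! ### dodecads -/

/-- the stabilizer of a dodecad and of a pair of points of it -/
theorem ncard_pair {d : Finset GolayPt} (hd : d ∈ dodecads) (h0 : none ∈ d) (h1 : some 0 ∈ d) :
    {σ : Equiv.Perm GolayPt | σ ∈ M24 ∧ σ • d = d ∧ (σ none = none ∧ σ (some 0) = some 0 ∨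
      σ none = some 0 ∧ σ (some 0) = none)}.ncard ≤ 1440 := by
  have hc := SporadicStructure.DodecadStab.card_DFix hd [none, some 0] (by simp) (by simp [h0, h1]) (by simp)
  have hA : ((SporadicStructure.DodecadStab.DFix d [none, some 0] : Subgroup (Equiv.Perm GolayPt)) :
      Set (Equiv.Perm GolayPt)).ncard = 720 := by
    rw [← Nat.card_coe_set_eq]
    exact hc.trans (by decide)
  have hsub : ∃ τ : Equiv.Perm GolayPt, {σ : Equiv.Perm GolayPt | σ ∈ M24 ∧ σ • d = d ∧
      (σ none = none ∧ σ (some 0) = some 0 ∨ σ none = some 0 ∧ σ (some 0) = none)} ⊆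
      ((SporadicStructure.DodecadStab.DFix d [none, some 0] : Subgroup (Equiv.Perm GolayPt)) :
        Set (Equiv.Perm GolayPt)) ∪
      (fun x => τ * x) '' ((SporadicStructure.DodecadStab.DFix d [none, some 0] : Subgroup (Equiv.Perm GolayPt)) :
        Set (Equiv.Perm GolayPt)) := by
    by_cases h : ∃ τ : Equiv.Perm GolayPt, τ ∈ M24 ∧ τ • d = d ∧ τ none = some 0 ∧ τ (some 0) = none
    · obtain ⟨τ, hτ, hτd, hτ0, hτ1⟩ := h
      refine ⟨τ, ?_⟩
      rintro σ ⟨hσ, hσd, ⟨ha, hb⟩ | ⟨ha, hb⟩⟩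
      · left
        refine ⟨hσ, hσd, ?_⟩
        simp [ha, hb]
      · right
        refine ⟨τ⁻¹ * σ, ⟨mul_mem (inv_mem hτ) hσ, ?_, ?_⟩, ?_⟩
        · rw [mul_smul, hσd, inv_smul_eq_iff, hτd]
        · intro p hp
          simp only [List.mem_cons, List.not_mem_nil, or_false] at hp
          rcases hp with rfl | rfl
          · rw [Equiv.Perm.mul_apply, ha, Equiv.Perm.inv_eq_iff_eq, hτ0]
          · rw [Equiv.Perm.mul_apply, hb, Equiv.Perm.inv_eq_iff_eq, hτ1]
        · show τ * (τ⁻¹ * σ) = σ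
          group
    · refine ⟨1, ?_⟩
      rintro σ ⟨hσ, hσd, ⟨ha, hb⟩ | ⟨ha, hb⟩⟩
      · left
        refine ⟨hσ, hσd, ?_⟩
        simp [ha, hb]
      · exact absurd ⟨σ, hσ, hσd, ha, hb⟩ h
  obtain ⟨τ, hτ⟩ := hsub
  have h2 := Set.ncard_le_ncard hτ (Set.toFinite _)
  have h3 := Set.ncard_union_le ((SporadicStructure.DodecadStab.DFix d [none, some 0] :
    Subgroup (Equiv.Perm GolayPt)) : Set (Equiv.Perm GolayPt)) ((fun x => τ * x) ''
      ((SporadicStructure.DodecadStab.DFix d [none, some 0] : Subgroup (Equiv.Perm GolayPt)) :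
        Set (Equiv.Perm GolayPt)))
  have h4 := Set.ncard_image_le (f := fun x => τ * x) (Set.toFinite
    ((SporadicStructure.DodecadStab.DFix d [none, some 0] : Subgroup (Equiv.Perm GolayPt)) :
        Set (Equiv.Perm GolayPt)))
  omega

/-- the stabilizer of `U` among the monomial elements -/
theorem pair_of_smul {c : golayCode} {σ : M24} (h : (signCo0 c * permCo0 σ) • leechU = leechU) :
    (σ : Equiv.Perm GolayPt) none = none ∧ (σ : Equiv.Perm GolayPt) (some 0) = some 0 ∨
      (σ : Equiv.Perm GolayPt) none = some 0 ∧ (σ : Equiv.Perm GolayPt) (some 0) = none := by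
  have key : ∀ i : GolayPt, (i = none ∨ i = some 0) → ((σ : Equiv.Perm GolayPt).symm i = none ∨
      (σ : Equiv.Perm GolayPt).symm i = some 0) := by
    intro i hi
    by_contra hcon
    have h1 := congrArg (fun u : leechLattice => (u : GolayPt → ℤ) i) h
    change (((signCo0 c * permCo0 σ) • leechU : leechLattice) : GolayPt → ℤ) i = if i = none ∨ i = some 0 then 4 else 0
      at h1
    rw [if_pos hi, mul_smul, signCo0_smul, signMap_apply, permCo0_smul, permMap_apply] at h1
    have h2 : ((leechU : leechLattice) : GolayPt → ℤ) ((σ : Equiv.Perm GolayPt).symm i) = 0 := by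
      show (if _ ∨ _ then (4 : ℤ) else 0) = 0
      rw [if_neg hcon]
    rw [h2, mul_zero] at h1
    norm_num at h1
  have hne : (none : GolayPt) ≠ some 0 := by simp
  rcases key none (Or.inl rfl) with h1 | h1 <;> rcases key (some 0) (Or.inr rfl) with h2 | h2
  · exact absurd ((σ : Equiv.Perm GolayPt).symm.injective (h1.trans h2.symm)) hne
  · left
    rw [Equiv.symm_apply_eq] at h1 h2
    exact ⟨h1.symm, h2.symm⟩
  · right
    rw [Equiv.symm_apply_eq] at h1 h2
    exact ⟨h2.symm, h1.symm⟩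
  · exact absurd ((σ : Equiv.Perm GolayPt).symm.injective (h1.trans h2.symm)) hne

/-- `C(v)` -/
theorem card_dod {o : golayCode} (ho : wt o = 12) (h0 : none ∉ sup o) (h1 : some 0 ∉ sup o) {v : Spor.Co2}
    (hv : toCo0 v = signCo0 o)
    (hmono : ∀ g : Spor.Co2, g * v = v * g → ∃ (c : golayCode) (σ : M24), toCo0 g = signCo0 c * permCo0 σ) :
    Nat.card ↥(centralizer ({v} : Set Spor.Co2)) ≤ 5898240 := by
  have hfin : Finite Spor.Co2 := Schreier.CoTwoStab.finite
  let d : Finset GolayPt := sup (o + SporadicA.Co1Simple.allOne)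
  have hds : d = (sup o)ᶜ := CoOneType.SignFacts.sup_add_allOne o
  have hd : d ∈ dodecads := by
    refine ⟨CoOneType.SignFacts.sup_mem _, ?_⟩
    have h2 := CoOneType.SignFacts.wt_add_allOne o
    show wt (o + SporadicA.Co1Simple.allOne) = 12
    omega
  have hd0 : none ∈ d := by rw [hds, Finset.mem_compl]; exact h0
  have hd1 : some 0 ∈ d := by rw [hds, Finset.mem_compl]; exact h1
  let A : Set (Equiv.Perm GolayPt) := {σ | σ ∈ M24 ∧ σ • d = d ∧ (σ none = none ∧ σ (some 0) = some 0 ∨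
      σ none = some 0 ∧ σ (some 0) = none)}
  have hA : Nat.card A ≤ 1440 := by
    rw [Nat.card_coe_set_eq]
    exact ncard_pair hd hd0 hd1
  have hex : ∀ g : ↥(centralizer ({v} : Set Spor.Co2)), ∃ x : golayCode × A,
      ∃ hx : ((x.2 : Equiv.Perm GolayPt) ∈ M24), toCo0 g = signCo0 x.1 * permCo0 ⟨(x.2 : Equiv.Perm GolayPt), hx⟩ := by
    intro g
    have hg := mem_centralizer_singleton_iff.1 g.2
    obtain ⟨c, σ, hcσ⟩ := hmono g hg
    have hσo : wordPerm σ o = o := by
      have h2 : toCo0 (g * v) = toCo0 (v * g) := congrArg _ hg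
      rw [map_mul, map_mul, hv, hcσ, mul_assoc, SporadicA.Co0Mono.perm_mul_sign, ← mul_assoc, ← mul_assoc,
        ← SporadicA.Co0Mono.signCo0_add, ← SporadicA.Co0Mono.signCo0_add] at h2
      have h3 := (CoOneType.InvMain.sp_inj h2).1
      rw [add_comm o c] at h3
      exact add_left_cancel h3
    refine ⟨⟨c, ⟨(σ : Equiv.Perm GolayPt), σ.2, ?_, ?_⟩⟩, σ.2, hcσ⟩
    · show (σ : Equiv.Perm GolayPt) • sup (o + SporadicA.Co1Simple.allOne) = sup (o + SporadicA.Co1Simple.allOne)
      rw [← KFacts.Co1.OctPts.sup_wordPerm, KFacts.Co1.OctPts.wordPerm_add, hσo]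
      rfl
    · apply pair_of_smul (c := c)
      rw [← hcσ]
      exact toCo0_smul _
  choose f hf hf' using hex
  have hinj : Function.Injective f := by
    intro a b hab
    apply Subtype.ext
    apply toCo0_injective
    rw [hf', hf']
    congr 2
    · rw [hab]
    · exact Subtype.ext (congrArg (fun x : golayCode × A => (x.2 : Equiv.Perm GolayPt)) hab)
  have h2 := Nat.card_le_card_of_injective f hinj
  rw [Nat.card_prod, S0358.card_golayCode] at h2
  refine h2.trans ?_
  calc 4096 * Nat.card A ≤ 4096 * 1440 := Nat.mul_le_mul_left _ hA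
    _ = 5898240 := by norm_num

theorem notMem_sup_cd {m : ℕ} (hm : inE m = true) : none ∉ sup (cd m) ∧ some 0 ∉ sup (cd m) := by
  obtain ⟨hc, h0, h23⟩ := inE_iff.1 hm
  constructor
  · rw [notMem_sup, coe_cd hc, SporadicA.GolayBase.word_apply,
      show SporadicA.GolayBase.idx (none : GolayPt) = 23 by decide, h23]
    rfl
  · rw [notMem_sup, coe_cd hc, SporadicA.GolayBase.word_apply,
      show SporadicA.GolayBase.idx (some 0 : GolayPt) = 0 by decide, h0]
    rfl

theorem at_two (h6 : H972.NSm.Small KFacts.CoTwo.Quot.Sp62) (h8 : H972.NSm.Small Om8) : SmallAt 2 Spor.Co2 := by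
  have hfin : Finite Spor.Co2 := Schreier.CoTwoStab.finite
  refine smallAt_of_cent Nat.prime_two fun x hx => ?_
  have hxx : x * x = 1 := by rw [← pow_two, ← hx, pow_orderOf_eq_one]
  have hx1 : x ≠ 1 := by
    intro h
    rw [h, orderOf_one] at hx
    omega
  rcases Co2Type.FactsClass.classes hxx hx1 with h | h | h
  · obtain ⟨g, rfl⟩ := isConj_iff.1 h
    exact ⟨616448, nle_conj _ _ (nle_z h6), by rw [card_co2]; norm_num⟩
  · obtain ⟨g, rfl⟩ := isConj_iff.1 h
    refine ⟨3378432, nle_conj _ _ (nle_oct h8 (o := cd my) ?_ (notMem_sup_cd iy).1 (KFacts.CoTwo.RLarge.toCo0_ge iy)),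
      by rw [card_co2]; norm_num⟩
    rw [KFacts.CoInv.TwoMono.wt_cd (isCode_of_inE iy)]
    decide +kernel
  · obtain ⟨g, rfl⟩ := isConj_iff.1 h
    refine ⟨5898240, nle_conj _ _ (nle_of_card (card_dod (o := cd mv) ?_ (notMem_sup_cd iv).1 (notMem_sup_cd iv).2
      (KFacts.CoTwo.RLarge.toCo0_ge iv) ?_)), by rw [card_co2]; norm_num⟩
    · rw [KFacts.CoInv.TwoMono.wt_cd (isCode_of_inE iv)]
      decide +kernel
    · intro g hg
      obtain ⟨m, Q, hm, hQ, -, rfl⟩ := SevenCases.Co2V.exists_mo2 hg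
      exact ⟨cd m, SporadicStructure.M24El.el Q, toCo0_mo2 hm hQ⟩

theorem small (h6 : H972.NSm.Small KFacts.CoTwo.Quot.Sp62) (h8 : H972.NSm.Small Om8) : H972.NSm.Small Spor.Co2 := by
  have hfin : Finite Spor.Co2 := Schreier.CoTwoStab.finite
  have hc := card_co2
  have hφ := toCo0_injective
  have hv := PreUniqCo.Rows.leechU_ne
  have hfix : ∀ x, toCo0 x • leechU = leechU := toCo0_smul
  refine small_of_smallAt {2, 7, 11} (3 ^ 6 * 5 ^ 3 * 23) (2 ^ 18 * (7 * 11)) (by rw [hc]; norm_num) ?_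
    (by rw [hc]; norm_num) ?_
  · intro p hp hd
    rw [hp.dvd_mul, hp.dvd_mul] at hd
    simp only [Finset.mem_insert, Finset.mem_singleton]
    rcases hd with h | h | h
    · exact Or.inl ((Nat.prime_dvd_prime_iff_eq hp Nat.prime_two).1 (hp.dvd_of_dvd_pow h))
    · exact Or.inr (Or.inl ((Nat.prime_dvd_prime_iff_eq hp (by norm_num)).1 h))
    · exact Or.inr (Or.inr ((Nat.prime_dvd_prime_iff_eq hp (by norm_num)).1 h))
  · intro p hp hpr
    simp only [Finset.mem_insert, Finset.mem_singleton] at hp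
    rcases hp with rfl | rfl | rfl
    · exact at_two h6 h8
    · exact smallAt_of_card hpr 4704 (by rw [hc]; norm_num) fun x hx => card_seven hφ hv hfix hx
    · exact smallAt_of_card hpr 132 (by rw [hc]; norm_num) fun x hx => card_eleven hφ hv hfix hx

end Two

/-- **The row `Co2`.** -/
theorem small_Co2 {G : Type u} [Group G] [Finite G] (h : Cfsg.Spor.IsoCo2 G)
    (hI : ∀ (H : Type u) [Group H] [Finite H], IsSimpleGroup H → ¬ IsMulCommutative H → Nat.card H < Nat.card G →
      Cfsg.Agent.H972.NSm.Small H) : Cfsg.Agent.H972.NSm.Small G := by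
  obtain ⟨e⟩ := h
  have hG : Nat.card G = 42305421312000 := (Nat.card_congr e.toEquiv).trans Two.card_co2
  have hc6 : Nat.card KFacts.CoTwo.Quot.Sp62 = 1451520 := Co2Type.Setup.card_sp6
  have hf6 : Finite KFacts.CoTwo.Quot.Sp62 := Nat.finite_of_card_ne_zero (by rw [hc6]; norm_num)
  have hs6 : IsSimpleGroup KFacts.CoTwo.Quot.Sp62 := inferInstance
  have hs8 := simple_om8
  refine (Two.small (small_of_hI hI hs6 (not_comm_of_card ?_) ?_) (small_of_hI hI hs8 (not_comm_of_card ?_) ?_)).congr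
    e.symm
  · rw [hc6]; norm_num
  · rw [hc6, hG]; norm_num
  · rw [card_om8]; norm_num
  · rw [card_om8, hG]; norm_num

end Cfsg.Agent.H831.SmallCo
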