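import Mathlib

set_option autoImplicit false
set_option linter.style.haveILetI false

/-!
# The action of a group on a quotient of a normal subgroup
-/

namespace Cfsg.Agent.H831.ConjAut

variable {C S : Type*} [Group C] [Group S] {K : Subgroup C}

/-- conjugation as an action on a quotient `S` of the normal subgroup `K` -/
theorem exists_conj (hK : K.Normal) (ρ : K →* S) (hρ : Function.Surjective ρ)
    (hker : ∀ (c : C) (k : K), ρ k = 1 → ρ ⟨c * k * c⁻¹, hK.conj_mem k k.2 c⟩ = 1) :
    ∃ Φ : C →* MulAut S, ∀ (c : C) (k : K),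
      Φ c (ρ k) = ρ ⟨c * k * c⁻¹, hK.conj_mem k k.2 c⟩ := by
  haveI := hK
  let g : C → (K →* S) := fun c => ρ.comp (MulAut.conjNormal c : MulAut K).toMonoidHom
  have hcn : ∀ (c : C) (k : K), g c k = ρ ⟨c * k * c⁻¹, hK.conj_mem k k.2 c⟩ := by
    intro c k
    show ρ (MulAut.conjNormal c k) = _
    congr 1
  have hg : ∀ c, ρ.ker ≤ (g c).ker := by
    intro c k hk
    rw [MonoidHom.mem_ker] at hk ⊢
    rw [hcn]
    exact hker c k hk
  let φ : C → (S →* S) := fun c => ρ.liftOfSurjective hρ ⟨g c, hg c⟩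
  have hφ : ∀ (c : C) (k : K), φ c (ρ k) = ρ ⟨c * k * c⁻¹, hK.conj_mem k k.2 c⟩ := by
    intro c k
    rw [← hcn]
    exact MonoidHom.liftOfRightInverse_comp_apply ρ _ _ ⟨g c, hg c⟩ k
  have hmul : ∀ (a b : C) (s : S), φ (a * b) s = φ a (φ b s) := by
    intro a b s
    obtain ⟨k, rfl⟩ := hρ s
    rw [hφ, hφ, hφ]
    congr 1
    apply Subtype.ext
    show a * b * (k : C) * (a * b)⁻¹ = a * (b * (k : C) * b⁻¹) * a⁻¹
    group
  have hone : ∀ s : S, φ 1 s = s := by
    intro s
    obtain ⟨k, rfl⟩ := hρ s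
    rw [hφ]
    congr 1
    apply Subtype.ext
    show 1 * (k : C) * 1⁻¹ = k
    group
  refine ⟨{ toFun := fun c =>
              { toFun := φ c
                invFun := φ c⁻¹
                left_inv := fun s => by rw [← hmul, inv_mul_cancel, hone]
                right_inv := fun s => by rw [← hmul, mul_inv_cancel, hone]
                map_mul' := map_mul (φ c) }
            map_one' := MulEquiv.ext fun s => hone s
            map_mul' := fun a b => MulEquiv.ext fun s => hmul a b s }, fun c k => hφ c k⟩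

/-- the kernel of the action for a perfect central extension -/
theorem eq_one_iff (hK : K.Normal) (ρ : K →* S) (hρ : Function.Surjective ρ)
    (Φ : C →* MulAut S) (hΦ : ∀ (c : C) (k : K),
      Φ c (ρ k) = ρ ⟨c * k * c⁻¹, hK.conj_mem k k.2 c⟩)
    (hperf : commutator K = ⊤) (hcen : ρ.ker ≤ Subgroup.center K) (c : C) :
    Φ c = 1 ↔ ∀ k ∈ K, c * k = k * c := by
  constructor
  · intro h1
    have h2 : ∀ k : K, (⟨c * k * c⁻¹, hK.conj_mem k k.2 c⟩ * k⁻¹ : K) ∈ Subgroup.center K := by
      intro k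
      apply hcen
      rw [MonoidHom.mem_ker, map_mul, ← hΦ, h1, map_inv]
      exact mul_inv_cancel _
    let δ : K →* Subgroup.center K :=
      { toFun := fun k => ⟨⟨c * k * c⁻¹, hK.conj_mem k k.2 c⟩ * k⁻¹, h2 k⟩
        map_one' := by
          apply Subtype.ext
          apply Subtype.ext
          show c * 1 * c⁻¹ * 1⁻¹ = 1
          group
        map_mul' := by
          intro a b
          apply Subtype.ext
          apply Subtype.ext
          have h3 := Subgroup.mem_center_iff.1 (h2 b) a⁻¹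
          have h4 : (a : C)⁻¹ * (c * b * c⁻¹ * (b : C)⁻¹) = (c * b * c⁻¹ * (b : C)⁻¹) * (a : C)⁻¹ :=
            congrArg Subtype.val h3
          show c * ((a : C) * b) * c⁻¹ * ((a : C) * b)⁻¹ =
            (c * a * c⁻¹ * (a : C)⁻¹) * (c * b * c⁻¹ * (b : C)⁻¹)
          calc c * ((a : C) * b) * c⁻¹ * ((a : C) * b)⁻¹
              = c * a * c⁻¹ * ((c * b * c⁻¹ * (b : C)⁻¹) * (a : C)⁻¹) := by group
            _ = c * a * c⁻¹ * ((a : C)⁻¹ * (c * b * c⁻¹ * (b : C)⁻¹)) := by rw [h4]
            _ = _ := by group }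
    have h3' : commutator K ≤ δ.ker := by
      rw [commutator_def, Subgroup.commutator_le]
      intro a _ b _
      rw [MonoidHom.mem_ker, map_commutatorElement, commutatorElement_eq_one_iff_mul_comm]
      apply Subtype.ext
      exact Subgroup.mem_center_iff.1 (δ b).2 (δ a : K)
    have h3 : ∀ k : K, δ k = 1 := by
      intro k
      have h4 : k ∈ commutator K := by rw [hperf]; trivial
      exact h3' h4
    intro k hk
    have h4 : c * k * c⁻¹ * k⁻¹ = 1 :=
      congrArg Subtype.val (congrArg Subtype.val (h3 ⟨k, hk⟩))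
    have h5 := mul_inv_eq_one.1 h4
    exact mul_inv_eq_iff_eq_mul.1 h5
  · intro h1
    ext s
    obtain ⟨k, rfl⟩ := hρ s
    rw [hΦ]
    show _ = ρ k
    congr 1
    apply Subtype.ext
    show c * (k : C) * c⁻¹ = k
    rw [h1 k k.2, mul_inv_cancel_right]

theorem finite_mulAut (S : Type*) [Group S] [Finite S] : Finite (MulAut S) :=
  Finite.of_injective (fun α : MulAut S => (α : S → S))
    (fun _ _ h => MulEquiv.ext fun x => congrFun h x)

/-- a homomorphism from a large enough group is onto -/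
theorem equiv_of_card [Finite C] [Finite S] (Φ : C →* MulAut S) (N : Subgroup C) [N.Normal]
    (hN : ∀ c, Φ c = 1 ↔ c ∈ N) (hc : Nat.card (MulAut S) * Nat.card N ≤ Nat.card C) :
    Nonempty (C ⧸ N ≃* MulAut S) := by
  have hker : Φ.ker = N := by
    ext c
    rw [MonoidHom.mem_ker, hN]
  haveI := finite_mulAut S
  have h1 : Nat.card C = Nat.card Φ.range * Nat.card N := by
    rw [← hker, ← Nat.card_congr (QuotientGroup.quotientKerEquivRange Φ).toEquiv]
    exact Subgroup.card_eq_card_quotient_mul_card_subgroup Φ.ker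
  have h2 : Nat.card (MulAut S) ≤ Nat.card Φ.range := by
    rw [h1] at hc
    exact Nat.le_of_mul_le_mul_right hc Nat.card_pos
  have h3 : Φ.range = ⊤ :=
    Subgroup.eq_top_of_card_eq _ (le_antisymm (Subgroup.card_le_card_group _) h2)
  have hsurj : Function.Surjective Φ := MonoidHom.range_eq_top.1 h3
  exact ⟨(QuotientGroup.quotientMulEquivOfEq hker.symm).trans
    (QuotientGroup.quotientKerEquivOfSurjective Φ hsurj)⟩

/-- if products of outer automorphisms are inner then `|Aut S| ≤ 2 |S|` -/
theorem card_mulAut_le [Finite S] (h : ∀ α β : MulAut S, (∀ x : S, α ≠ MulAut.conj x) →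
    (∀ x : S, β ≠ MulAut.conj x) → ∃ x : S, α * β = MulAut.conj x) :
    Nat.card (MulAut S) ≤ 2 * Nat.card S := by
  classical
  haveI := finite_mulAut S
  set I : Subgroup (MulAut S) := (MulAut.conj : S →* MulAut S).range with hI
  have hIc : Nat.card I ≤ Nat.card S :=
    Nat.card_le_card_of_surjective _ (MonoidHom.rangeRestrict_surjective _)
  by_cases htop : I = ⊤
  · rw [htop, Subgroup.card_top] at hIc
    omega
  · obtain ⟨α, hα⟩ : ∃ α, α ∉ I := by
      by_contra hcon
      push Not at hcon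
      exact htop (eq_top_iff.2 fun x _ => hcon x)
    have hα' : ∀ x : S, α ≠ MulAut.conj x := fun x hx => hα ⟨x, hx.symm⟩
    have h1 : (Set.univ : Set (MulAut S)) ⊆ (I : Set (MulAut S)) ∪
        (fun y => α⁻¹ * y) '' (I : Set (MulAut S)) := by
      intro β _
      by_cases hβ : β ∈ I
      · exact Or.inl hβ
      · right
        obtain ⟨x, hx⟩ := h α β hα' (fun x hx => hβ ⟨x, hx.symm⟩)
        exact ⟨α * β, ⟨x, hx.symm⟩, inv_mul_cancel_left α β⟩
    have h2 := Set.ncard_le_ncard h1 (Set.toFinite _)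
    rw [Set.ncard_univ] at h2
    have h3 := h2.trans (Set.ncard_union_le _ _)
    rw [Set.ncard_image_of_injective _ (mul_right_injective α⁻¹)] at h3
    have h4 : (I : Set (MulAut S)).ncard = Nat.card I := rfl
    rw [h4] at h3
    omega

end Cfsg.Agent.H831.ConjAut
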