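import Mathlib
import Cfsg.Agent.H831.Short
import Cfsg.Agent.R01.Assembly23

set_option autoImplicit false
set_option linter.style.haveILetI false
set_option linter.unusedSectionVars false

/-!
# The centralizer of a transposition, general facts

For a Fischer group `(G, D)` with `Theta D` and `CLD D` (`C(x)` generated by transpositions): if `x` is a
product of an even number of members of `D_x` and `⟨D_x⟩ / Z` is perfect, then `C(x) = ⟨D_x⟩` is perfect.
-/

namespace Cfsg.Agent.H831.Cent

open Cfsg Cfsg.Agent.SporadicStructure.FischerSpace Cfsg.Agent.ThreeTransPolar.Basic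
open Cfsg.Agent.ThreeTransPolar.Lines
open Cfsg.Agent.Fischer160.Inherit hiding Dx
open Cfsg.Agent.Fischer480.Defs hiding FGroup
open Cfsg.Agent.TSp.Perp Cfsg.Agent.TSp.LTrans
open Cfsg.Agent.TSp.CL Cfsg.Agent.TSp.Orders Cfsg.Agent.TSp.OrdersT
open Cfsg.Agent.R01.Lifts (Ext)
open Cfsg.Agent.R01.Start (zel)

universe u

variable {G : Type u} [Group G] {D : Set G}

section Basic

variable [Finite G] (F : FGroup D) {x : G} (hx : x ∈ D)
include F hx

theorem exists_E : (E D x).Nonempty := by
  obtain ⟨y, hy, hyx, hc⟩ := (rk_of_FGroup F).exPerp x hx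
  exact ⟨⟨y, mem_HH_of ⟨hy, hyx, hc⟩⟩, ⟨hy, hyx, hc⟩⟩

/-- products of members of `D_x` modulo the derived subgroup of `⟨D_x⟩` -/
theorem abel_of_list {e0 : HH D x} (he0 : e0 ∈ E D x) (m : List G) (hm : ∀ b ∈ m, b ∈ Loc D x)
    (z : HH D x) (hz : (z : G) = m.prod) :
    Abelianization.of z = Abelianization.of e0 ^ m.length := by
  have key : ∀ a b : HH D x, a ∈ E D x → b ∈ E D x →
      Abelianization.of a = Abelianization.of b := by
    intro a b ha hb
    obtain ⟨g, hg⟩ := single_E F hx ha hb
    rw [← hg, map_mul, map_mul, map_inv, mul_comm (Abelianization.of g), mul_inv_cancel_right]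
  induction m generalizing z with
  | nil =>
    have : z = 1 := Subtype.ext (by rw [hz, List.prod_nil]; rfl)
    rw [this, map_one, List.length_nil, pow_zero]
  | cons b m ih =>
    have hb := hm b List.mem_cons_self
    let b' : HH D x := ⟨b, mem_HH_of hb⟩
    have h1 := ih (fun c hc => hm c (List.mem_cons_of_mem _ hc)) (b'⁻¹ * z) (by
      rw [Subgroup.coe_mul, Subgroup.coe_inv, hz, List.prod_cons]
      show b⁻¹ * (b * m.prod) = m.prod
      group)
    have h2 : z = b' * (b'⁻¹ * z) := by group
    rw [h2, map_mul, h1, key b' e0 hb he0, List.length_cons, pow_succ']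

/-- products of an even number of members of `D_x` lie in the derived subgroup of `⟨D_x⟩` -/
theorem mem_commutator_of_list (l : List G) (hl : ∀ b ∈ l, b ∈ Loc D x) (hev : Even l.length)
    (z : HH D x) (hz : (z : G) = l.prod) : z ∈ commutator (HH D x) := by
  obtain ⟨e0, he0⟩ := exists_E F hx
  have hsq : Abelianization.of e0 * Abelianization.of e0 = 1 := by
    rw [← map_mul, sq_E F.fd he0, map_one]
  have h1 := abel_of_list F hx he0 l hl z hz
  obtain ⟨k, hk⟩ := hev
  rw [hk, ← two_mul, pow_mul, pow_two, hsq, one_pow] at h1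
  have h2 : z ∈ (Abelianization.of : HH D x →* Abelianization (HH D x)).ker := h1
  rwa [Abelianization.ker_of] at h2

theorem HH_eq (hCL : CLD D) (hxH : x ∈ HH D x) : HH D x = Subgroup.centralizer ({x} : Set G) := by
  rw [← LL_eq_centralizer hCL hx]
  refine le_antisymm (HH_le_LL x) ?_
  rw [LL, Subgroup.closure_le]
  rintro d ⟨hd, hdx⟩
  by_cases hd' : d = x
  · rw [hd']; exact hxH
  · exact mem_HH_of ⟨hd, hd', hdx.symm⟩

/-- the derived subgroup of `⟨D_x⟩` covers `⟨D_x⟩ / Z` -/
theorem exists_mem_commutator (hK : commutator (KK D x) = ⊤) (g : HH D x) :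
    ∃ k ∈ commutator (HH D x), k⁻¹ * g ∈ Subgroup.center (HH D x) := by
  have h1 : (QuotientGroup.mk' (Subgroup.center (HH D x))) g ∈ commutator (KK D x) := by
    rw [hK]; trivial
  rw [commutator_def, ← Subgroup.map_top_of_surjective _
    (QuotientGroup.mk'_surjective (Subgroup.center (HH D x))), ← Subgroup.map_commutator,
    ← commutator_def] at h1
  obtain ⟨k, hk, hkg⟩ := h1
  exact ⟨k, hk, by rw [← QuotientGroup.eq]; exact hkg⟩

theorem perfect_HH (hθ : Theta D) (hK : commutator (KK D x) = ⊤)
    (hxc : ∀ z : HH D x, (z : G) = x → z ∈ commutator (HH D x)) :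
    commutator (HH D x) = ⊤ := by
  rw [eq_top_iff]
  intro g _
  obtain ⟨k, hk, h2⟩ := exists_mem_commutator F hx hK g
  have h3 : k⁻¹ * g ∈ commutator (HH D x) := by
    rcases (mem_center_HH F hθ hx).1 h2 with h3 | h3
    · have : k⁻¹ * g = 1 := Subtype.ext h3
      rw [this]; exact one_mem _
    · exact hxc _ h3
  have := mul_mem hk h3
  rwa [mul_inv_cancel_left] at this

/-- The projection of the centralizer of `x`. -/
theorem exists_ext (hθ : Theta D) (hE : HH D x = Subgroup.centralizer ({x} : Set G))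
    {Q : Type*} [Group Q] (e : KK D x ≃* Q) :
    ∃ π : Subgroup.centralizer ({x} : Set G) →* Q, Ext π (zel x) ∧
      ∀ (g : Subgroup.centralizer ({x} : Set G)), π g = e (β D x (g : G)) := by
  let π₀ : HH D x →* Q :=
    e.toMonoidHom.comp (QuotientGroup.mk' (Subgroup.center (HH D x)))
  let c : Subgroup.centralizer ({x} : Set G) ≃* HH D x := MulEquiv.subgroupCongr hE.symm
  refine ⟨π₀.comp c.toMonoidHom, ⟨?_, ?_, ?_, ?_, ?_⟩, ?_⟩
  · exact (e.surjective.comp (QuotientGroup.mk'_surjective _)).comp c.surjective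
  · apply Subtype.ext
    exact F.fd.sq x hx
  · intro h1
    exact F.fd.ne_one x hx (congrArg Subtype.val h1)
  · intro y
    have h1 : (π₀.comp c.toMonoidHom) y = 1 ↔ c y ∈ Subgroup.center (HH D x) := by
      rw [← QuotientGroup.eq_one_iff]
      show e _ = 1 ↔ _
      exact map_eq_one_iff e e.injective
    rw [h1, mem_center_HH F hθ hx]
    constructor
    · rintro (h2 | h2)
      · left; exact Subtype.ext h2
      · right; exact Subtype.ext h2
    · rintro (rfl | rfl)
      · left; rfl
      · right; rfl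
  · intro y
    apply Subtype.ext
    exact Subgroup.mem_centralizer_singleton_iff.1 y.2
  · intro g
    have hg : (g : G) ∈ HH D x := (c g).2
    rw [β_of hg]
    rfl

end Basic

/-! ### Lifting relations from `⟨D_x⟩ / Z` -/

section Lift

variable [Finite G] (F : FGroup D) {x : G} (hx : x ∈ D) (hθ : Theta D) (ht : ThinLines D)
include F hx hθ ht

/-- Lifting of a list of commuting members. -/
theorem exists_lift_list (l : List (KK D x)) (hl : ∀ a ∈ l, a ∈ Eb D x) (hnd : l.Nodup)
    (hc : ∀ a ∈ l, ∀ b ∈ l, Commute a b) :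
    ∃ l' : List G, l'.length = l.length ∧ (∀ b ∈ l', b ∈ Loc D x) ∧ l'.Nodup ∧
      (∀ a ∈ l', ∀ b ∈ l', Commute a b) ∧ l'.map (β D x) = l ∧
      (l.prod = 1 → l'.prod = 1 ∨ l'.prod = x) := by
  classical
  have hth := thin_of_thinLines ht hx
  choose! s hs1 hs2 using fun (c : KK D x) (hc : c ∈ Eb D x) => β_surj hc
  refine ⟨l.map s, by simp, ?_, ?_, ?_, ?_, ?_⟩
  · intro b hb
    obtain ⟨a, ha, rfl⟩ := List.mem_map.1 hb
    exact hs1 a (hl a ha)
  · rw [List.nodup_map_iff_inj_on hnd]
    intro a ha b hb hab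
    rw [← hs2 a (hl a ha), ← hs2 b (hl b hb), hab]
  · intro a' ha' b' hb'
    obtain ⟨a, ha, rfl⟩ := List.mem_map.1 ha'
    obtain ⟨b, hb, rfl⟩ := List.mem_map.1 hb'
    rw [← β_commute F.fd hth (hs1 a (hl a ha)) (hs1 b (hl b hb)), hs2 a (hl a ha),
      hs2 b (hl b hb)]
    exact hc a ha b hb
  · rw [List.map_map]
    conv_rhs => rw [← List.map_id l]
    apply List.map_congr_left
    intro a ha
    exact hs2 a (hl a ha)
  · intro hp
    have hmem : ∀ m : List (KK D x), (∀ a ∈ m, a ∈ Eb D x) →
        (m.map s).prod ∈ HH D x ∧ β D x (m.map s).prod = m.prod := by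
      intro m
      induction m with
      | nil =>
        intro _
        simp only [List.map_nil, List.prod_nil]
        exact ⟨one_mem _, by rw [β_of (one_mem _)]; rfl⟩
      | cons a m ih =>
        intro hm
        obtain ⟨h1, h2⟩ := ih (fun b hb => hm b (List.mem_cons_of_mem _ hb))
        have h3 := mem_HH_of (hs1 a (hm a List.mem_cons_self))
        simp only [List.map_cons, List.prod_cons]
        exact ⟨mul_mem h3 h1, by
          rw [β_mul h3 h1, h2, hs2 a (hm a List.mem_cons_self)]⟩
    obtain ⟨h1, h2⟩ := hmem l hl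
    rw [hp, β_of h1, QuotientGroup.eq_one_iff] at h2
    exact (mem_center_HH F hθ hx).1 h2

end Lift

end Cfsg.Agent.H831.Cent
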