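import Mathlib
import Cfsg.Agent.H831.T7Iso
import Cfsg.Agent.H831.Eight
import Cfsg.Agent.Fischer545.TEight

set_option autoImplicit false
set_option linter.style.haveILetI false
set_option linter.unusedSectionVars false
set_option linter.constructorNameAsVariable false

/-!
# A Fischer group of type `T8`

`|G| = 2 |Fi24'|`, `G'` has index 2 and contains no transpositions, `C(x)` maps onto `Fi23` with the kernel
`⟨x⟩`, and `C(x) ∩ G'` is isomorphic to `Fi23`.
-/

namespace Cfsg.Agent.H831.T8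

open Cfsg Cfsg.Agent.SporadicStructure.FischerSpace Cfsg.Agent.ThreeTransPolar.Basic
open Cfsg.Agent.ThreeTransPolar.Lines
open Cfsg.Agent.Fischer160.Inherit hiding Dx
open Cfsg.Agent.Fischer480.Defs hiding FGroup
open Cfsg.Agent.TSp.Perp Cfsg.Agent.TSp.LTrans
open Cfsg.Agent.TSp.CL Cfsg.Agent.TSp.Orders Cfsg.Agent.TSp.OrdersT
open Cfsg.Agent.R01.Lifts (Ext)
open Cfsg.Agent.R01.Start (zel)
open Cfsg.Agent.H831.Types Cfsg.Agent.H831.Short Cfsg.Agent.H831.Cent Cfsg.Agent.H831.Eight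
open Cfsg.Agent.Fischer.Fi23Z (z0)

universe u

variable {G : Type u} [Group G] {D : Set G}

/-! ### The derived subgroup -/

section Comm

variable [Finite G] (F : FGroup D)
include F

theorem mul_mem_commutator {a b : G} (ha : a ∈ D) (hb : b ∈ D) : a * b ∈ commutator G :=
  prods_le_commutator (fun e he => F.fd.sq e he)
    (fun e he f hf => F.fd.single e he f hf) (mul_mem_prods ha hb)

theorem mem_or {x : G} (hx : x ∈ D) (g : G) : g ∈ commutator G ∨ g * x ∈ commutator G := by
  have hle : prods D ≤ commutator G := prods_le_commutator (fun e he => F.fd.sq e he)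
    (fun e he f hf => F.fd.single e he f hf)
  rcases mem_prods_or (fun g e he => F.fd.conj g e he) (fun e he => F.fd.sq e he) F.fd.gen hx g
    with h | h
  · exact Or.inl (hle h)
  · exact Or.inr (hle h)

end Comm

/-- seven commuting transpositions with product one in type `T7` -/
theorem exists_heptad [Finite G] (F : FGroup D) (h : IsT7 D) {x : G} (hx : x ∈ D) :
    ∃ l : List G, l.length = 7 ∧ l.Nodup ∧
      (∀ a ∈ l, a ∈ D) ∧ (∀ a ∈ l, ∀ b ∈ l, Commute a b) ∧ l.prod = 1 := by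
  obtain ⟨l, h1, h2, h3, h4, h5⟩ := T7Iso.exists_six F h hx
  refine ⟨x :: l, by rw [List.length_cons, h1], ?_, ?_, ?_, ?_⟩
  · rw [List.nodup_cons]
    exact ⟨fun hxl => (h3 x hxl).2.1 rfl, h2⟩
  · intro a ha
    rcases List.mem_cons.1 ha with rfl | ha
    · exact hx
    · exact (h3 a ha).1
  · intro a ha b hb
    rcases List.mem_cons.1 ha with ha' | ha' <;> rcases List.mem_cons.1 hb with hb' | hb'
    · rw [ha', hb']
    · rw [ha']; exact (h3 b hb').2.2
    · rw [hb']; exact (h3 a ha').2.2.symm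
    · exact h4 a ha' b hb'
  · rw [List.prod_cons, h5, F.fd.sq x hx]

section Eight

variable [Finite G] (F : FGroup D) (h : IsT8 D)
include F h

theorem not_mem_commutator {x : G} (hx : x ∈ D) : x ∉ commutator G := by
  intro h1
  apply Cfsg.Agent.Fischer545.TEight.commutator_ne_top (isThree_of_fdata F.fd) h
  rw [eq_top_iff]
  intro g _
  rcases mem_or F hx g with h2 | h2
  · exact h2
  · have := mul_mem h2 h1
    rwa [mul_assoc, F.fd.sq x hx, mul_one] at this

theorem index_commutator : (commutator G).index = 2 := by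
  obtain ⟨x, hx⟩ := F.fd.nonempty
  rw [Subgroup.index_eq_two_iff]
  refine ⟨x, fun b => ?_⟩
  rcases mem_or F hx b with h1 | h1
  · right
    refine ⟨h1, fun h2 => not_mem_commutator F h hx ?_⟩
    have := mul_mem (inv_mem h1) h2
    rwa [inv_mul_cancel_left] at this
  · left
    refine ⟨h1, fun h2 => not_mem_commutator F h hx ?_⟩
    have := mul_mem (inv_mem h2) h1
    rwa [inv_mul_cancel_left] at this

theorem card_commutator : Nat.card (commutator G) = 1255205709190661721292800 := by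
  have h1 := Subgroup.card_mul_index (commutator G)
  rw [index_commutator F h, card_N8 F (n8_of_isT8 h)] at h1
  omega

theorem theta : Theta D :=
  theta_N8 F.fd subset_rfl (Cfsg.Agent.TSp.Basic.tset_of_fdata F.fd) (n8_of_isT8 h)

theorem thin : ThinLines D := thin_N8 (Cfsg.Agent.TSp.Basic.tset_of_fdata F.fd) (n8_of_isT8 h)

theorem cld : CLD D := cl_eight F (n8_of_isT8 h)

variable {x : G} (hx : x ∈ D)
include hx

/-- the quotient is a Fischer group of type `T7` -/
theorem sub : FGroup (Eb D x) ∧ IsT7 (Eb D x) :=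
  ⟨inherit_N8 F (n8_of_isT8 h) hx, Fischer480.Transport.isT7
    (Fischer480.Transport.CIso.symm (cIso_Eb F.fd (thin F h) hx)) (h.2.1 x hx)⟩

theorem exists_seven : ∃ l : List G, l.length = 7 ∧ l.Nodup ∧ (∀ b ∈ l, b ∈ Loc D x) ∧
    (∀ a ∈ l, ∀ b ∈ l, Commute a b) ∧ l.prod = x := by
  obtain ⟨FE, hE⟩ := sub F h hx
  obtain ⟨y, hy⟩ := FE.fd.nonempty
  obtain ⟨l, hlen, hnd, hl, hc, hp⟩ := exists_heptad FE hE hy
  obtain ⟨l', h1, h2, h3, h4, -, h5⟩ := exists_lift_list F hx (theta F h) (thin F h)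
    l hl hnd hc
  rw [hlen] at h1
  refine ⟨l', h1, h3, h2, h4, ?_⟩
  rcases h5 hp with h6 | h6
  · exfalso
    have := noRel_eight (isThree_of_fdata F.fd).1 h l' h3 (fun a ha => (h2 a ha).1) h4 h6
      (by rw [h1])
    rw [this] at h1
    simp at h1
  · exact h6

theorem mem_HH_self : x ∈ HH D x := by
  obtain ⟨l, -, -, hl, -, hp⟩ := exists_seven F h hx
  have h1 : l.prod ∈ HH D x := Subgroup.list_prod_mem _ fun b hb => mem_HH_of (hl b hb)
  rwa [hp] at h1

theorem HH_eq : HH D x = Subgroup.centralizer ({x} : Set G) :=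
  Cent.HH_eq F hx (cld F h) (mem_HH_self F h hx)

theorem mem_HH_iff {g : G} : g ∈ HH D x ↔ Commute g x := by
  rw [HH_eq F h hx, Subgroup.mem_centralizer_singleton_iff]
  exact Iff.rfl

theorem β_self : β D x x = 1 := by
  rw [β_of (mem_HH_self F h hx), QuotientGroup.eq_one_iff]
  exact (mem_center_HH F (theta F h) hx).2 (Or.inr rfl)

theorem β_eq_one {g : G} (hg : Commute g x) : β D x g = 1 ↔ g = 1 ∨ g = x := by
  rw [β_of ((mem_HH_iff F h hx).2 hg), QuotientGroup.eq_one_iff,
    mem_center_HH F (theta F h) hx]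

theorem exists_iso_KK {f : KK D x} (hf : f ∈ Eb D x) : ∃ e : Cfsg.Spor.Fi23 ≃* KK D x,
    e z0 = f ∧ (∀ y, e y ∈ Eb D x ↔ IsConj z0 y) ∧
      ∀ g : Cfsg.Spor.Fi23.Gen, e (PresentedGroup.of g) ∈ Eb D x := by
  obtain ⟨FE, hE⟩ := sub F h hx
  exact T7Iso.exists_iso (defs_of_inh FE) hE hf

theorem simple_KK : IsSimpleGroup (KK D x) := by
  obtain ⟨FE, hE⟩ := sub F h hx
  obtain ⟨y, hy⟩ := FE.fd.nonempty
  obtain ⟨e, -⟩ := exists_iso_KK F h hx hy
  haveI : IsSimpleGroup Spor.Fi23 := Cfsg.Agent.S1697.result.1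
  exact e.symm.isSimpleGroup

/-- **The projection of `C(x)` onto the presented `Fi23`.** -/
theorem exists_ext {f : KK D x} (hf : f ∈ Eb D x) : ∃ (e : Cfsg.Spor.Fi23 ≃* KK D x)
    (π : Subgroup.centralizer ({x} : Set G) →* Cfsg.Spor.Fi23), Ext π (zel x) ∧
      (∀ g, π g = e.symm (β D x (g : G))) ∧ e z0 = f ∧ (∀ y, e y ∈ Eb D x ↔ IsConj z0 y) := by
  obtain ⟨e, he⟩ := exists_iso_KK F h hx hf
  obtain ⟨π, hπ, h1⟩ := Cent.exists_ext F hx (theta F h) (HH_eq F h hx) e.symm
  exact ⟨e, π, hπ, h1, he.1, he.2.1⟩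

/-- **`C(x) ∩ G'` and centralizers in it are seen in `KK D x`.** -/
theorem exists_mulEquiv_cent (T : Set G) (hT : T ⊆ Loc D x) :
    ∃ μ : ↥(commutator G ⊓ Subgroup.centralizer (insert x T)) ≃*
      ↥(Subgroup.centralizer (β D x '' T)), ∀ g, ((μ g : _) : KK D x) = β D x (g : G) := by
  set S : Subgroup G := commutator G ⊓ Subgroup.centralizer (insert x T) with hS
  have hmem : ∀ {g : G}, g ∈ S ↔ g ∈ commutator G ∧ Commute g x ∧ ∀ t ∈ T, Commute g t := by
    intro g
    rw [hS, Subgroup.mem_inf, Subgroup.mem_centralizer_iff]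
    constructor
    · rintro ⟨h1, h2⟩
      exact ⟨h1, (h2 x (Set.mem_insert _ _)).symm, fun t ht => (h2 t (Set.mem_insert_of_mem _ ht)).symm⟩
    · rintro ⟨h1, h2, h3⟩
      refine ⟨h1, ?_⟩
      intro t ht
      rcases Set.mem_insert_iff.1 ht with rfl | ht
      · exact h2.symm
      · exact (h3 t ht).symm
  have hSH : ∀ {g : G}, g ∈ S → g ∈ HH D x := fun hg => (mem_HH_iff F h hx).2 (hmem.1 hg).2.1
  have hTH : ∀ {t : G}, t ∈ T → t ∈ HH D x := fun ht => mem_HH_of (hT ht)
  let μ₀ : S →* Subgroup.centralizer (β D x '' T) :=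
    { toFun := fun g => ⟨β D x (g : G), by
        rw [Subgroup.mem_centralizer_iff]
        rintro _ ⟨t, ht, rfl⟩
        rw [← β_mul (hTH ht) (hSH g.2), ← β_mul (hSH g.2) (hTH ht),
          ((hmem.1 g.2).2.2 t ht).eq]⟩
      map_one' := Subtype.ext (by
        show β D x (1 : G) = 1
        rw [β_of (one_mem _)]; rfl)
      map_mul' := fun a b => Subtype.ext (β_mul (hSH a.2) (hSH b.2)) }
  have hinj : Function.Injective μ₀ := by
    rw [injective_iff_map_eq_one]
    intro g hg
    have h1 : β D x (g : G) = 1 := congrArg Subtype.val hg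
    obtain ⟨h2, h3, -⟩ := hmem.1 g.2
    rcases (β_eq_one F h hx h3).1 h1 with h4 | h4
    · exact Subtype.ext h4
    · exfalso
      rw [h4] at h2
      exact not_mem_commutator F h hx h2
  have hth := thin_of_thinLines (thin F h) hx
  have hsurj : Function.Surjective μ₀ := by
    rintro ⟨k, hk⟩
    obtain ⟨g, hg, rfl⟩ := β_surj' k
    have hgx := commute_of_mem_HH hg
    have key : ∀ g' : G, g' ∈ HH D x → β D x g' = β D x g → g' ∈ commutator G →
        ∃ a, μ₀ a = ⟨β D x g, hk⟩ := by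
      intro g' hg' h1 h2
      refine ⟨⟨g', hmem.2 ⟨h2, commute_of_mem_HH hg', ?_⟩⟩, Subtype.ext h1⟩
      intro t ht
      have h3 := Subgroup.mem_centralizer_iff.1 hk _ (Set.mem_image_of_mem _ ht)
      have h4 : β D x (g' * t * g'⁻¹) = β D x t := by
        rw [β_conj hg' (hTH ht), h1, ← h3, mul_inv_cancel_right]
      have h5 := β_inj hth (cj_mem_Dx F.fd (commute_of_mem_HH hg') (hT ht)) (hT ht) h4
      exact mul_inv_eq_iff_eq_mul.1 h5
    rcases mem_or F hx g with h1 | h1
    · exact key g hg rfl h1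
    · refine key (g * x) (mul_mem hg (mem_HH_self F h hx)) ?_ h1
      rw [β_mul hg (mem_HH_self F h hx), β_self F h hx, mul_one]
  exact ⟨MulEquiv.ofBijective μ₀ ⟨hinj, hsurj⟩, fun g => rfl⟩

end Eight

end Cfsg.Agent.H831.T8
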