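import Cfsg.Agent.H831.FineUnit

/-!
# `Fine` for `PSU_4(3)` and `PSU_6(2)` (helper831, task 764 for S4881)
-/

set_option autoImplicit false

namespace Cfsg.Agent.H831.FineUSix

universe u

open Cfsg.Agent.H698 Cfsg.Agent.H831.FineBase Cfsg.Agent.H831.FineUnit
open Cfsg.Agent.H674.SUBlock Cfsg.Agent.H674.Explicit Cfsg.Agent.H674.ExplicitCases Cfsg.Agent.H674.TwelvePSU
open Cfsg.Agent.LieClassical Cfsg.Agent.H92

section

variable {F : Type} [Field F] [Fintype F]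

theorem card_psu62 (hF : Fintype.card F = 2 ^ 2) : Nat.card (Cfsg.PSU 6 F 2) = 9196830720 := by
  have h0 := Cfsg.Agent.S0280.result hF 6 (by norm_num)
  have h1 : 9 * Nat.card (Cfsg.PSU 6 F 2) = 9 * 9196830720 := by
    rw [show (Nat.gcd 6 (2 + 1) : ℕ) = 3 by norm_num] at h0
    have h2 : 3 * ((2 + 1) * Nat.card (Cfsg.PSU 6 F 2)) = 9 * Nat.card (Cfsg.PSU 6 F 2) := by ring
    rw [← h2, h0]
    decide
  omega

theorem card_psu52 (hF : Fintype.card F = 2 ^ 2) : Nat.card (Cfsg.PSU 5 F 2) = 13685760 := by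
  have h0 := Cfsg.Agent.S0280.result hF 5 (by norm_num)
  have h1 : 3 * Nat.card (Cfsg.PSU 5 F 2) = 3 * 13685760 := by
    rw [show (Nat.gcd 5 (2 + 1) : ℕ) = 1 by norm_num] at h0
    have h2 : 1 * ((2 + 1) * Nat.card (Cfsg.PSU 5 F 2)) = 3 * Nat.card (Cfsg.PSU 5 F 2) := by ring
    rw [← h2, h0]
    decide
  omega

theorem card_psu43 (hF : Fintype.card F = 3 ^ 2) : Nat.card (Cfsg.PSU 4 F 3) = 3265920 := by
  have h0 := Cfsg.Agent.S0280.result hF 4 (by norm_num)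
  have h1 : 16 * Nat.card (Cfsg.PSU 4 F 3) = 16 * 3265920 := by
    rw [show (Nat.gcd 4 (3 + 1) : ℕ) = 4 by norm_num] at h0
    have h2 : 4 * ((3 + 1) * Nat.card (Cfsg.PSU 4 F 3)) = 16 * Nat.card (Cfsg.PSU 4 F 3) := by ring
    rw [← h2, h0]
    decide
  omega

theorem card_psu33 (hF : Fintype.card F = 3 ^ 2) : Nat.card (Cfsg.PSU 3 F 3) = 6048 := by
  have h0 := Cfsg.Agent.S0280.result hF 3 (by norm_num)
  have h1 : 4 * Nat.card (Cfsg.PSU 3 F 3) = 4 * 6048 := by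
    rw [show (Nat.gcd 3 (3 + 1) : ℕ) = 1 by norm_num] at h0
    have h2 : 1 * ((3 + 1) * Nat.card (Cfsg.PSU 3 F 3)) = 4 * Nat.card (Cfsg.PSU 3 F 3) := by ring
    rw [← h2, h0]
    decide
  omega

theorem card_aut_psu62 (hF : Fintype.card F = 2 ^ 2) : Nat.card (MulAut (Cfsg.PSU 6 F 2)) = 55180984320 := by
  have : Fact (Nat.Prime 2) := ⟨Nat.prime_two⟩
  rw [Cfsg.Agent.S0815.result 2 1 le_rfl (q := 2) (by norm_num) hF 6 (by norm_num) (by norm_num), card_psu62 hF]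
  norm_num

theorem card_aut_psu43 (hF : Fintype.card F = 3 ^ 2) : Nat.card (MulAut (Cfsg.PSU 4 F 3)) = 26127360 := by
  have : Fact (Nat.Prime 3) := ⟨Nat.prime_three⟩
  rw [Cfsg.Agent.S0815.result 3 1 le_rfl (q := 3) (by norm_num) hF 4 (by norm_num) (by norm_num), card_psu43 hF]
  norm_num

end

theorem fine_u62 {T : Type u} [Group T] [Finite T] {F : Type} [Field F] [Fintype F] (hF : Fintype.card F = 2 ^ 2)
    (e : T ≃* Cfsg.PSU 6 F 2) : Fine.{u, u} T := by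
  have : Fact (Nat.Prime 2) := ⟨Nat.prime_two⟩
  have hchar : CharP F 2 := charP_of_card_eq_prime_pow (f := 2) hF
  have hs' : IsSimpleGroup (Cfsg.PSU 6 F 2) := Cfsg.Agent.S0283.result hF 6 (by norm_num) (by norm_num)
  have hs : IsSimpleGroup T := MulEquiv.isSimpleGroup e
  have hcard : Nat.card T = 9196830720 := by rw [Nat.card_congr e.toEquiv, card_psu62 hF]
  have haut : Nat.card (MulAut T) = 55180984320 := by
    rw [Nat.card_congr (autCongr e).toEquiv, card_aut_psu62 hF]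
  have hna : ¬ IsMulCommutative T := not_comm_of_card (by rw [hcard]; norm_num)
  have hc := center_eq_bot hna
  let ψ : Cfsg.PSU 6 F4 2 ≃* T :=
    (FieldTransfer.psuCongr 6 2 (FiniteField.ringEquivOfCardEq (h4.trans hF.symm))).trans e.symm
  refine Fine.of_classes (k := 12) (fun X hX => ?_) fun p m hp h11 hpT hm hR => ?_
  · refine le_trans (by decide) (orders_le hc {1, 2, 3, 4, 5, 6, 8, 9, 11, 12, 15, 18} (fun n hn => ?_) hX)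
    obtain ⟨g, hg⟩ := (ord52' n hn).of_injective _ (pr_ext_injective (d := 5) (k := 1) h4 (by norm_num) (by norm_num))
    exact ⟨ψ g, by rw [MulEquiv.orderOf_eq, hg]⟩
  · rw [haut]
    have h1 := le_of_sub (n := 5) (k := 1) (r := 2) Nat.prime_two hF (by norm_num) (by norm_num) (by norm_num)
      (by norm_num) (by simp) (by rw [card_psu52 hF]; norm_num) (by rw [card_psu52 hF]; norm_num) e hp hpT hR
    exact numeric (B := 35) (d := 7) (by norm_num) (by omega) (by norm_num) (by decide) h11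

/-! ### `PSU_4(3)` -/

def M4 : Matrix (Fin 4) (Fin 4) F9 := !![⟨0, 0⟩, ⟨0, 0⟩, ⟨1, 0⟩, ⟨0, 0⟩; ⟨0, 0⟩, ⟨0, 0⟩, ⟨0, 0⟩, ⟨2, 0⟩; ⟨0, 0⟩, ⟨2, 0⟩, ⟨0, 0⟩, ⟨0, 0⟩; ⟨2, 0⟩, ⟨0, 0⟩, ⟨0, 0⟩, ⟨0, 0⟩]
def M6 : Matrix (Fin 4) (Fin 4) F9 := !![⟨0, 0⟩, ⟨0, 2⟩, ⟨0, 0⟩, ⟨0, 0⟩; ⟨2, 1⟩, ⟨0, 0⟩, ⟨2, 2⟩, ⟨0, 0⟩; ⟨0, 0⟩, ⟨0, 0⟩, ⟨0, 0⟩, ⟨0, 2⟩; ⟨2, 1⟩, ⟨0, 0⟩, ⟨1, 1⟩, ⟨0, 0⟩]
def M8 : Matrix (Fin 4) (Fin 4) F9 := !![⟨1, 1⟩, ⟨0, 0⟩, ⟨2, 1⟩, ⟨0, 0⟩; ⟨0, 0⟩, ⟨0, 0⟩, ⟨0, 0⟩, ⟨2, 0⟩; ⟨0, 0⟩, ⟨2, 0⟩, ⟨0, 0⟩, ⟨0, 0⟩; ⟨1, 1⟩, ⟨0, 0⟩, ⟨1, 2⟩, ⟨0, 0⟩]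
def M9 : Matrix (Fin 4) (Fin 4) F9 := !![⟨0, 0⟩, ⟨2, 2⟩, ⟨0, 2⟩, ⟨1, 0⟩; ⟨0, 0⟩, ⟨0, 0⟩, ⟨2, 2⟩, ⟨2, 1⟩; ⟨0, 0⟩, ⟨2, 2⟩, ⟨0, 1⟩, ⟨2, 0⟩; ⟨0, 1⟩, ⟨0, 0⟩, ⟨0, 0⟩, ⟨0, 0⟩]
def M12 : Matrix (Fin 4) (Fin 4) F9 := !![⟨0, 0⟩, ⟨0, 0⟩, ⟨2, 0⟩, ⟨0, 0⟩; ⟨2, 2⟩, ⟨2, 2⟩, ⟨0, 0⟩, ⟨0, 0⟩; ⟨1, 1⟩, ⟨2, 2⟩, ⟨0, 0⟩, ⟨0, 0⟩; ⟨0, 0⟩, ⟨0, 0⟩, ⟨0, 0⟩, ⟨0, 1⟩]

theorem good_M : good 3 M8 = true ∧ good 3 M9 = true ∧ good 3 M12 = true := by decide +kernel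
theorem sc_M : isSc (M8 ^ 8) = true ∧ isSc (M9 ^ 9) = true ∧ isSc (M12 ^ 12) = true := by decide +kernel
theorem nsc_M8 : ∀ k < 8, 0 < k → isSc (M8 ^ k) = false := by decide +kernel
theorem nsc_M9 : ∀ k < 9, 0 < k → isSc (M9 ^ k) = false := by decide +kernel
theorem nsc_M12 : ∀ k < 12, 0 < k → isSc (M12 ^ k) = false := by decide +kernel

theorem ord43 : ∀ n ∈ ({1, 2, 3, 4, 5, 6, 7, 8, 9, 12} : Finset ℕ), KTools.HasOrd (Cfsg.PSU 4 F9 3) n := by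
  have h8 : KTools.HasOrd (Cfsg.PSU 4 F9 3) 8 := exists_ord h9 (by norm_num) good_M.1 (by norm_num) sc_M.1 nsc_M8
  have h9' : KTools.HasOrd (Cfsg.PSU 4 F9 3) 9 :=
    exists_ord h9 (by norm_num) good_M.2.1 (by norm_num) sc_M.2.1 nsc_M9
  have h12 : KTools.HasOrd (Cfsg.PSU 4 F9 3) 12 :=
    exists_ord h9 (by norm_num) good_M.2.2 (by norm_num) sc_M.2.2 nsc_M12
  intro n hn
  simp only [Finset.mem_insert, Finset.mem_singleton] at hn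
  rcases hn with rfl | rfl | rfl | rfl | rfl | rfl | rfl | rfl | rfl | rfl
  · exact KTools.hasOrd_one _
  · exact h8.of_dvd (by norm_num) (by norm_num)
  · exact h12.of_dvd (by norm_num) (by norm_num)
  · exact h8.of_dvd (by norm_num) (by norm_num)
  · exact KTools.hasOrd_prime (by norm_num) (by rw [card_psu43 h9]; norm_num)
  · exact h12.of_dvd (by norm_num) (by norm_num)
  · exact KTools.hasOrd_prime (by norm_num) (by rw [card_psu43 h9]; norm_num)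
  · exact h8
  · exact h9'
  · exact h12

theorem fine_u43 {T : Type u} [Group T] [Finite T] {F : Type} [Field F] [Fintype F] (hF : Fintype.card F = 3 ^ 2)
    (e : T ≃* Cfsg.PSU 4 F 3) : Fine.{u, u} T := by
  have : Fact (Nat.Prime 3) := ⟨Nat.prime_three⟩
  have hchar : CharP F 3 := charP_of_card_eq_prime_pow (f := 2) hF
  have hs' : IsSimpleGroup (Cfsg.PSU 4 F 3) := Cfsg.Agent.S0283.result hF 4 (by norm_num) (by norm_num)
  have hs : IsSimpleGroup T := MulEquiv.isSimpleGroup e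
  have hcard : Nat.card T = 3265920 := by rw [Nat.card_congr e.toEquiv, card_psu43 hF]
  have haut : Nat.card (MulAut T) = 26127360 := by
    rw [Nat.card_congr (autCongr e).toEquiv, card_aut_psu43 hF]
  have hna : ¬ IsMulCommutative T := not_comm_of_card (by rw [hcard]; norm_num)
  have hc := center_eq_bot hna
  let ψ : Cfsg.PSU 4 F9 3 ≃* T :=
    (FieldTransfer.psuCongr 4 3 (FiniteField.ringEquivOfCardEq (h9.trans hF.symm))).trans e.symm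
  refine Fine.of_classes (k := 10) (fun X hX => ?_) fun p m hp h11 hpT hm hR => ?_
  · refine le_trans (by decide) (orders_le hc {1, 2, 3, 4, 5, 6, 7, 8, 9, 12} (fun n hn => ?_) hX)
    obtain ⟨g, hg⟩ := ord43 n hn
    exact ⟨ψ g, by rw [MulEquiv.orderOf_eq, hg]⟩
  · rw [haut]
    have h1 := le_of_sub (n := 3) (k := 1) (r := 3) Nat.prime_three hF (by norm_num) (by norm_num) (by norm_num)
      (by norm_num) (by simp) (by rw [card_psu33 hF]; norm_num) (by rw [card_psu33 hF]; norm_num) e hp hpT hR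
    exact numeric (B := 31) (d := 5) (by norm_num) (by omega) (by norm_num) (by decide) h11

end Cfsg.Agent.H831.FineUSix
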