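import Cfsg.Agent.CoOneType.SignFacts
import Cfsg.Agent.LeechMat.Core

/-!
# Short vectors of the Leech lattice off the support of a code word (helper831, rows Co1, Co2, Co3 of S3832/S4336)

`v` a lattice vector which vanishes on the support of a non-zero word `c`.
* `pv i j s t` : the minimal vector with `4 s` at `i` and `4 t` at `j`, `s, t = ±1`;
* `exists_min` : `v` minimal: some `pv` off `c` has inner product `-16` with `v`;
* `exists_six` : `v` of norm 48: some `pv` off `c` has inner product `16` with `v`.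
-/

set_option autoImplicit false
open Cfsg

namespace Cfsg.Agent.H831.CoVec

open Cfsg.Agent.SporadicA.Co0Mono Cfsg.Agent.SporadicA.LeechMin Cfsg.Agent.SporadicA.LeechSet
open Cfsg.Agent.CoOneType.SignFacts (sup wt wt_cases mem_sup notMem_sup sign_fixed_iff)

/-- `4 s` at `i`, `4 t` at `j` -/
def pv (i j : GolayPt) (s t : ℤ) : GolayPt → ℤ := Pi.single i (4 * s) + Pi.single j (4 * t)

theorem pv_apply (i j : GolayPt) (s t : ℤ) (k : GolayPt) :
    pv i j s t k = (if k = i then 4 * s else 0) + (if k = j then 4 * t else 0) := by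
  unfold pv
  rw [Pi.add_apply, Pi.single_apply, Pi.single_apply]

theorem sum_pv (i j : GolayPt) (s t : ℤ) : ∑ k, pv i j s t k = 4 * s + 4 * t := by
  simp only [pv_apply, Finset.sum_add_distrib, Finset.sum_ite_eq', Finset.mem_univ, if_true]

theorem dot_pv (v : GolayPt → ℤ) (i j : GolayPt) (s t : ℤ) :
    dotInt v (pv i j s t) = 4 * (s * v i + t * v j) := by
  show ∑ k, v k * pv i j s t k = _
  simp only [pv_apply, mul_add, mul_ite, mul_zero, Finset.sum_add_distrib, Finset.sum_ite_eq', Finset.mem_univ, if_true]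
  ring

theorem norm_pv {i j : GolayPt} (hij : i ≠ j) {s t : ℤ} (hs : s ^ 2 = 1) (ht : t ^ 2 = 1) :
    sqNorm (pv i j s t) = 32 := by
  have h1 : sqNorm (pv i j s t) = dotInt (pv i j s t) (pv i j s t) := by
    show ∑ k, pv i j s t k ^ 2 = ∑ k, pv i j s t k * pv i j s t k
    simp only [pow_two]
  rw [h1, dot_pv, pv_apply, pv_apply, if_pos rfl, if_neg hij, if_neg hij.symm, if_pos rfl]
  nlinarith

theorem odd_sq {s : ℤ} (hs : s ^ 2 = 1) : s = 1 ∨ s = -1 := by
  have h : (s - 1) * (s + 1) = 0 := by linarith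
  rcases mul_eq_zero.1 h with h | h
  · left; omega
  · right; omega

theorem pv_mem (i j : GolayPt) {s t : ℤ} (hs : s ^ 2 = 1) (ht : t ^ 2 = 1) : pv i j s t ∈ leechLattice := by
  rw [mem_leechLattice_iff']
  refine ⟨0, fun k => (if k = i then 2 * s else 0) + (if k = j then 2 * t else 0), fun k => ?_, ?_, ?_⟩
  · rw [pv_apply]
    show _ = 0 + 2 * ((if k = i then 2 * s else 0) + (if k = j then 2 * t else 0))
    split_ifs <;> ring
  · rw [sum_pv]
    rcases odd_sq hs with rfl | rfl <;> rcases odd_sq ht with rfl | rfl <;> decide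
  · have h0 : (fun k : GolayPt => ((((if k = i then 2 * s else 0) + (if k = j then 2 * t else 0) : ℤ)) : ZMod 2)) = 0 := by
      funext k
      have h2 : (2 : ZMod 2) = 0 := rfl
      show ((((if k = i then 2 * s else 0) + (if k = j then 2 * t else 0) : ℤ)) : ZMod 2) = 0
      split_ifs <;> push_cast <;> simp [h2]
    rw [h0]
    exact golayCode.zero_mem

/-- the vectors which vanish somewhere are even -/
theorem exists_half {v : GolayPt → ℤ} (hv : v ∈ leechLattice) {i : GolayPt} (hi : v i = 0) :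
    ∃ y : GolayPt → ℤ, (∀ i, v i = 2 * y i) ∧ (∑ i, y i) % 4 = 0 ∧ (fun i => ((y i : ℤ) : ZMod 2)) ∈ golayCode := by
  rcases even_or_odd hv with h | ⟨m, z, hm, hz, -⟩
  · exact h
  · exfalso
    have := hz i
    omega

/-- an even vector with an odd half has two coordinates `±2` -/
theorem exists_two {y : GolayPt → ℤ} (hn : ∑ i, y i ^ 2 ≤ 12)
    (hc : (fun i => ((y i : ℤ) : ZMod 2)) ∈ golayCode) (h0 : (fun i => ((y i : ℤ) : ZMod 2)) ≠ 0) :
    ∃ i j, i ≠ j ∧ y i ^ 2 = 1 ∧ y j ^ 2 = 1 := by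
  set d : golayCode := ⟨_, hc⟩ with hd
  have hodd : ∀ i ∈ sup d, y i % 2 = 1 := by
    intro i hi
    have h1 := (mem_sup d i).1 hi
    have h2 : ((y i : ℤ) : ZMod 2) ≠ 0 := by
      rw [show ((y i : ℤ) : ZMod 2) = 1 from h1]
      decide
    exact (cast_ne_zero_iff _).1 h2
  have hw : 8 ≤ (sup d).card := by
    rcases wt_cases d with h | h | h | h | h
    · exfalso
      apply h0
      funext i
      have h3 : sup d = ∅ := Finset.card_eq_zero.1 h
      have h4 : i ∉ sup d := by rw [h3]; simp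
      exact (notMem_sup d i).1 h4
    all_goals
      have : (sup d).card = _ := h
      omega
  have hone : ∀ i ∈ sup d, y i ^ 2 = 1 := by
    intro i hi
    have h1 : ∀ k ∈ sup d, (1 : ℤ) ≤ y k ^ 2 := by
      intro k hk
      have h2 := hodd k hk
      have h3 : y k ≠ 0 := by omega
      have : 0 < y k ^ 2 := by positivity
      omega
    have h2 : y i ^ 2 + ∑ k ∈ (sup d).erase i, y k ^ 2 = ∑ k ∈ sup d, y k ^ 2 :=
      Finset.add_sum_erase (sup d) (fun k => y k ^ 2) hi
    have h3 : ((sup d).erase i).card • (1 : ℤ) ≤ ∑ k ∈ (sup d).erase i, y k ^ 2 :=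
      Finset.card_nsmul_le_sum _ _ _ fun k hk => h1 k (Finset.mem_of_mem_erase hk)
    have h4 : ∑ k ∈ sup d, y k ^ 2 ≤ ∑ k, y k ^ 2 :=
      Finset.sum_le_sum_of_subset_of_nonneg (Finset.subset_univ _) fun k _ _ => sq_nonneg _
    rw [Finset.card_erase_of_mem hi, nsmul_eq_mul, mul_one] at h3
    have h5 : (7 : ℤ) ≤ (((sup d).card - 1 : ℕ) : ℤ) := by
      have : 7 ≤ (sup d).card - 1 := by omega
      exact_mod_cast this
    have h6 : y i ^ 2 ≤ 5 := by linarith
    have h7 : y i ≤ 2 := by nlinarith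
    have h8 : -2 ≤ y i := by nlinarith
    have h9 := hodd i hi
    have h10 : y i = 1 ∨ y i = -1 := by omega
    rcases h10 with h | h <;> rw [h] <;> norm_num
  obtain ⟨i, hi, j, hj, hij⟩ := Finset.one_lt_card.1 (by omega : 1 < (sup d).card)
  exact ⟨i, j, hij, hone i hi, hone j hj⟩

theorem norm_half {v y : GolayPt → ℤ} (hy : ∀ i, v i = 2 * y i) : sqNorm v = 4 * ∑ i, y i ^ 2 := by
  show ∑ i, v i ^ 2 = _
  rw [Finset.mul_sum]
  refine Finset.sum_congr rfl fun i _ => ?_
  rw [hy]
  ring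

/-- signs -/
theorem exists_sign (a : ℤ) (ha : a ^ 2 = 1) : ∃ s : ℤ, s ^ 2 = 1 ∧ s * a = 1 := ⟨a, ha, by rw [← pow_two, ha]⟩

variable {c : golayCode}

theorem sup_ne (hc : c ≠ 0) : (sup c).Nonempty := by
  rw [Finset.nonempty_iff_ne_empty]
  intro h
  apply hc
  apply Subtype.ext
  funext i
  have h4 : i ∉ sup c := by rw [h]; simp
  exact (notMem_sup c i).1 h4

/-- **minimal vectors** -/
theorem exists_min {v : GolayPt → ℤ} (hv : v ∈ leechLattice) (hn : sqNorm v = 32) (hc : c ≠ 0)
    (h0 : ∀ i ∈ sup c, v i = 0) :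
    ∃ i j s t, i ≠ j ∧ i ∉ sup c ∧ j ∉ sup c ∧ s ^ 2 = 1 ∧ t ^ 2 = 1 ∧ dotInt v (pv i j s t) = -16 := by
  obtain ⟨i0, hi0⟩ := sup_ne hc
  obtain ⟨y, hy, hs, hd⟩ := exists_half hv (h0 i0 hi0)
  have hn' : ∑ i, y i ^ 2 = 8 := by
    have := norm_half hy
    omega
  by_cases hz : (fun i => ((y i : ℤ) : ZMod 2)) = 0
  · -- all coordinates are divisible by 4
    have hz' : ∀ i, ∃ z : ℤ, y i = 2 * z := by
      intro i
      have h1 : ((y i : ℤ) : ZMod 2) = 0 := congrFun hz i
      rw [ZMod.intCast_zmod_eq_zero_iff_dvd] at h1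
      obtain ⟨z, hz⟩ := h1
      exact ⟨z, hz⟩
    choose z hz2 using hz'
    have hzn : ∑ i, z i ^ 2 = 2 := by
      have h1 : ∑ i, y i ^ 2 = 4 * ∑ i, z i ^ 2 := by
        rw [Finset.mul_sum]
        refine Finset.sum_congr rfl fun i _ => ?_
        rw [hz2]
        ring
      omega
    have hle : ∀ i, z i ^ 2 ≤ 2 := fun i => hzn ▸
      Finset.single_le_sum (f := fun k => z k ^ 2) (fun k _ => sq_nonneg _) (Finset.mem_univ i)
    -- a coordinate `±4`
    obtain ⟨i, hi⟩ : ∃ i, z i ≠ 0 := by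
      by_contra h
      push Not at h
      have : ∑ i, z i ^ 2 = 0 := Finset.sum_eq_zero fun i _ => by rw [h i]; rfl
      omega
    have hi1 : z i ^ 2 = 1 := by
      have h1 := hle i
      have h7 : z i ≤ 1 := by nlinarith
      have h8 : -1 ≤ z i := by nlinarith
      have h10 : z i = 1 ∨ z i = -1 := by omega
      rcases h10 with h | h <;> rw [h] <;> norm_num
    have hiS : i ∉ sup c := by
      intro h
      have h1 := h0 i h
      rw [hy, hz2] at h1
      omega
    -- a coordinate `0` off `c`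
    set T := Finset.univ.filter fun k => z k ≠ 0 with hT
    have hTc : T.card ≤ 2 := by
      have h1 : T.card • (1 : ℤ) ≤ ∑ k ∈ T, z k ^ 2 := by
        refine Finset.card_nsmul_le_sum _ _ _ fun k hk => ?_
        have h2 : z k ≠ 0 := (Finset.mem_filter.1 hk).2
        have : 0 < z k ^ 2 := by positivity
        omega
      have h2 : ∑ k ∈ T, z k ^ 2 ≤ ∑ k, z k ^ 2 :=
        Finset.sum_le_sum_of_subset_of_nonneg (Finset.subset_univ _) fun k _ _ => sq_nonneg _
      rw [nsmul_eq_mul, mul_one, ] at h1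
      have h3 : (T.card : ℤ) ≤ 2 := by linarith
      exact_mod_cast h3
    have hcc : (sup c).card ≤ 16 := by
      rcases wt_cases c with h | h | h | h | h
      all_goals have h' : (sup c).card = _ := h
      · omega
      · omega
      · omega
      · omega
      · exfalso
        have h2 : sup c = Finset.univ := Finset.eq_univ_of_card _ (by rw [h']; exact card_pts.symm)
        exact hiS (h2 ▸ Finset.mem_univ i)
    obtain ⟨j, hj⟩ : ∃ j, j ∉ sup c ∪ T := by
      by_contra h
      push Not at h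
      have h1 : (Finset.univ : Finset GolayPt) ⊆ sup c ∪ T := fun j _ => h j
      have h2 := Finset.card_le_card h1
      have h3 := Finset.card_union_le (sup c) T
      rw [Finset.card_univ, card_pts] at h2
      omega
    rw [Finset.mem_union, not_or] at hj
    have hj0 : z j = 0 := by
      by_contra h
      exact hj.2 (Finset.mem_filter.2 ⟨Finset.mem_univ _, h⟩)
    have hij : i ≠ j := by
      rintro rfl
      exact hi hj0
    refine ⟨i, j, -z i, 1, hij, hiS, hj.1, by rw [neg_sq, hi1], one_pow 2, ?_⟩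
    rw [dot_pv, hy i, hy j, hz2 i, hz2 j, hj0]
    nlinarith
  · obtain ⟨i, j, hij, hi, hj⟩ := exists_two (by omega) hd hz
    have hoff : ∀ k, y k ^ 2 = 1 → k ∉ sup c := by
      intro k hk h
      have h1 := h0 k h
      rw [hy] at h1
      have h2 : y k = 0 := by omega
      rw [h2] at hk
      norm_num at hk
    refine ⟨i, j, -y i, -y j, hij, hoff i hi, hoff j hj, by rw [neg_sq, hi], by rw [neg_sq, hj], ?_⟩
    rw [dot_pv, hy i, hy j]
    nlinarith

/-- **vectors of norm 48** -/
theorem exists_six {v : GolayPt → ℤ} (hv : v ∈ leechLattice) (hn : sqNorm v = 48) (hc : c ≠ 0)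
    (h0 : ∀ i ∈ sup c, v i = 0) :
    ∃ i j s t, i ≠ j ∧ i ∉ sup c ∧ j ∉ sup c ∧ s ^ 2 = 1 ∧ t ^ 2 = 1 ∧ dotInt v (pv i j s t) = 16 := by
  obtain ⟨i0, hi0⟩ := sup_ne hc
  obtain ⟨y, hy, hs, hd⟩ := exists_half hv (h0 i0 hi0)
  have hn' : ∑ i, y i ^ 2 = 12 := by
    have := norm_half hy
    omega
  by_cases hz : (fun i => ((y i : ℤ) : ZMod 2)) = 0
  · exfalso
    have hz' : ∀ i, ∃ z : ℤ, y i = 2 * z := by
      intro i
      have h1 : ((y i : ℤ) : ZMod 2) = 0 := congrFun hz i
      rw [ZMod.intCast_zmod_eq_zero_iff_dvd] at h1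
      obtain ⟨z, hz⟩ := h1
      exact ⟨z, hz⟩
    choose z hz2 using hz'
    have hzn : ∑ i, z i ^ 2 = 3 := by
      have h1 : ∑ i, y i ^ 2 = 4 * ∑ i, z i ^ 2 := by
        rw [Finset.mul_sum]
        refine Finset.sum_congr rfl fun i _ => ?_
        rw [hz2]
        ring
      omega
    have hzs : (∑ i, z i) % 2 = 0 := by
      have h1 : ∑ i, y i = 2 * ∑ i, z i := by
        rw [Finset.mul_sum]
        exact Finset.sum_congr rfl fun i _ => hz2 i
      omega
    have h2 : (∑ i, z i ^ 2) % 2 = (∑ i, z i) % 2 := by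
      rw [Finset.sum_int_mod, Finset.sum_int_mod (f := z)]
      congr 1
      refine Finset.sum_congr rfl fun i _ => ?_
      rcases Int.emod_two_eq_zero_or_one (z i) with h | h
      · rw [pow_two, Int.mul_emod, h]; rfl
      · rw [pow_two, Int.mul_emod, h]; rfl
    omega
  · obtain ⟨i, j, hij, hi, hj⟩ := exists_two (by omega) hd hz
    have hoff : ∀ k, y k ^ 2 = 1 → k ∉ sup c := by
      intro k hk h
      have h1 := h0 k h
      rw [hy] at h1
      have h2 : y k = 0 := by omega
      rw [h2] at hk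
      norm_num at hk
    refine ⟨i, j, y i, y j, hij, hoff i hi, hoff j hj, hi, hj, ?_⟩
    rw [dot_pv, hy i, hy j]
    nlinarith

/-- `pv` off the word is fixed -/
theorem sign_smul_pv {i j : GolayPt} {s t : ℤ} (hm : pv i j s t ∈ leechLattice) (hi : i ∉ sup c) (hj : j ∉ sup c) :
    signCo0 c • (⟨pv i j s t, hm⟩ : leechLattice) = ⟨pv i j s t, hm⟩ := by
  rw [sign_fixed_iff]
  intro k hk
  show pv i j s t k = 0
  rw [pv_apply, if_neg (fun h : k = i => hi (h ▸ hk)), if_neg (fun h : k = j => hj (h ▸ hk)), add_zero]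

end Cfsg.Agent.H831.CoVec
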