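import Cfsg.Agent.H483.Rad23.Base
import Cfsg.Agent.H831.CoVec
import Cfsg.Agent.CoOneType.InvMain
import Cfsg.Agent.CoOneType.ClosingFacts
import Cfsg.Agent.S1577
import Cfsg.Agent.S0405
import Cfsg.Agent.S0283
import Cfsg.Agent.S0399
import Cfsg.Agent.H49.CoStab

/-!
# No radical automorphism of order two of `Co₁`, `Co₂`, `Co₃` (helper831, for S3832 and S4336)

* an involution of `Co₂ = stab(v)`, `v` minimal, is conjugate in `Co₀` to the sign change on a code word and fixes a
  minimal vector `w` with `(v, w) = -2`: it lies in `stab(v, w) ≃ PSU(6, 2)`, simple;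
* an involution of `Co₃ = stab(v)`, `v` of type 3, fixes a vector `w` of type 3 with `(v, w) = -4`: it lies in
  `stab(v, w) ≃ HS`, simple;
* an involution of `Co₁` lifts to `t` with `t² = 1`, which fixes a minimal vector (and `Co₂` is simple), or to `t` with
  `t² = -1`, which is conjugate to a monomial element with a nontrivial permutation part (and `M₂₄` is simple).
-/

set_option autoImplicit false

namespace Cfsg.Agent.H831.CoRad

open Subgroup Cfsg Cfsg.Agent.H459.Rad Cfsg.Agent.H839.Rad Cfsg.Agent.H483.Rad23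
open Cfsg.Agent.SporadicA.Co0Mono Cfsg.Agent.SporadicA.Co1Simple
open Cfsg.Agent.CoOneType.SignFacts (sup wt wt_cases mem_sup notMem_sup sign_fixed_iff)
open Cfsg.Agent.CoOneType.InvMain (conj_sign_of_sq_one conj_b0_of_sq_neg b0 sp_inj sp_mul)
open Cfsg.Agent.LeechMat.Core (co0_dotInt co0_sqNorm)
open Cfsg.Agent.H831.CoVec

section General

variable {H : Type*} [Group H] [Finite H]

omit [Finite H] in
theorem not_solvable_of_card (hs : IsSimpleGroup H) (hn : ¬ (Nat.card H).Prime) : ¬ Group.IsSolvable H := by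
  intro h
  have hc : ∀ a b : H, a * b = b * a := IsSimpleGroup.comm_iff_isSolvable.2 h
  let _ : CommGroup H := { (inferInstance : Group H) with mul_comm := hc }
  exact hn IsSimpleGroup.prime_card

theorem radFree_of_card (hs : IsSimpleGroup H) (hn : ¬ (Nat.card H).Prime) {p : ℕ} (hp : p ≠ 1) : RadFree p H :=
  RadFree.of_simple hp (not_solvable_of_card hs hn)

/-- a preimage of a solvable subgroup -/
theorem solvable_comap {A B : Type*} [Group A] [Group B] (g : A →* B) (hk : ∀ a, g a = 1 → a ∈ center A)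
    {R : Subgroup B} (hR : Group.IsSolvable R) : Group.IsSolvable (R.comap g) := by
  have hker : Group.IsSolvable ↥(g.subgroupComap R).ker := by
    refine Group.isSolvable_of_comm fun a b => ?_
    apply Subtype.ext
    apply Subtype.ext
    have h1 : g ((a : R.comap g) : A) = 1 := congrArg Subtype.val a.2
    exact ((mem_center_iff.1 (hk _ h1)) _).symm
  exact Group.isSolvable_of_ker_le_range (g.subgroupComap R).ker.subtype (g.subgroupComap R) (by
    rw [Subgroup.range_subtype])

end General

theorem card_co0 : Nat.card Co0 = 8315553613086720000 := Cfsg.Agent.S0397.result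

instance finite_co0 : Finite Co0 := Nat.finite_of_card_ne_zero (by rw [card_co0]; norm_num)

/-- a lift of order two is conjugate to the sign change on a non-zero word -/
theorem exists_sign {t : Co0} (ht : t * t = 1) (ht1 : t ≠ 1) :
    ∃ (g : Co0) (c : golayCode), c ≠ 0 ∧ g * t * g⁻¹ = signCo0 c := by
  obtain ⟨g, c, h⟩ := conj_sign_of_sq_one t ht
  refine ⟨g, c, ?_, h⟩
  rintro rfl
  apply ht1
  rw [signCo0_zero, mul_inv_eq_one, mul_eq_left] at h
  exact h

theorem smul_fix {g t s : Co0} (h : g * t * g⁻¹ = s) {v : leechLattice} : t • v = v ↔ s • (g • v) = g • v := by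
  rw [← h, mul_smul, mul_smul, inv_smul_smul, smul_left_cancel_iff]

section CoTwoThree

theorem noRCI_co2 {v : leechLattice} (hv : sqNorm (v : GolayPt → ℤ) = 32) :
    NoRCI 2 (MulAction.stabilizer Co0 v) := by
  intro x hx h
  have hx2 : (x : Co0) * (x : Co0) = 1 := by
    have h1 := pow_orderOf_eq_one x
    rw [hx, pow_two] at h1
    exact congrArg Subtype.val h1
  have hx1 : (x : Co0) ≠ 1 := by
    intro h1
    have h2 : x = 1 := Subtype.ext h1
    rw [h2, orderOf_one] at hx
    norm_num at hx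
  obtain ⟨g, c, hc, hg⟩ := exists_sign hx2 hx1
  have hfix : signCo0 c • (g • v) = g • v := (smul_fix hg).1 x.2
  have hn : sqNorm ((g • v : leechLattice) : GolayPt → ℤ) = 32 := (co0_sqNorm g v).trans hv
  obtain ⟨i, j, s, t, hij, hi, hj, hs, ht, hd⟩ := exists_min (g • v).2 hn hc ((sign_fixed_iff c _).1 hfix)
  set w : leechLattice := ⟨pv i j s t, pv_mem i j hs ht⟩ with hw
  have hwn : sqNorm (w : GolayPt → ℤ) = 32 := norm_pv hij hs ht
  have hwf : signCo0 c • w = w := sign_smul_pv _ hi hj
  have hgw : g • (g⁻¹ • w) = w := smul_inv_smul g w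
  have hw' : (x : Co0) • (g⁻¹ • w) = g⁻¹ • w := (smul_fix hg).2 (by rw [hgw, hwf])
  have hwn' : sqNorm ((g⁻¹ • w : leechLattice) : GolayPt → ℤ) = 32 := (co0_sqNorm _ w).trans hwn
  have hd' : dotInt (v : GolayPt → ℤ) ((g⁻¹ • w : leechLattice) : GolayPt → ℤ) = -16 := by
    rw [← co0_dotInt g, hgw]
    exact hd
  obtain ⟨e⟩ := Cfsg.Agent.S1577.result v (g⁻¹ • w) hv hwn' hd' Cfsg.Agent.SporadicA.FieldFour.F4
    Cfsg.Agent.SporadicA.FieldFour.F4.card_eq
  set L := MulAction.stabilizer Co0 v ⊓ MulAction.stabilizer Co0 (g⁻¹ • w) with hL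
  set M := L.subgroupOf (MulAction.stabilizer Co0 v) with hM
  have e1 : M ≃* L := subgroupOfEquivOfLe inf_le_left
  have hcard : Nat.card M = 9196830720 := by
    rw [Nat.card_congr (e1.trans e).toEquiv, Cfsg.Agent.S1577.card_psu]
  have hcL := (Cfsg.Agent.S0402.result v hv).2
  have hsimp : IsSimpleGroup (PSU 6 Cfsg.Agent.SporadicA.FieldFour.F4 2) :=
    Cfsg.Agent.S0283.result (q := 2) Cfsg.Agent.SporadicA.FieldFour.F4.card_eq 6 (by norm_num) (by norm_num)
  have hfin : Finite (PSU 6 Cfsg.Agent.SporadicA.FieldFour.F4 2) :=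
    Nat.finite_of_card_ne_zero (by rw [Cfsg.Agent.S1577.card_psu]; norm_num)
  refine false_of_mem hx h (M := M) ?_ (mem_subgroupOf.2 ⟨x.2, hw'⟩)
    (RadFree.congr Nat.prime_two (e1.trans e) (radFree_of_card hsimp ?_ (by norm_num)))
  · intro htop
    rw [htop, Subgroup.card_top, hcL] at hcard
    norm_num at hcard
  · rw [Cfsg.Agent.S1577.card_psu]
    norm_num

theorem noRCI_co3 {v : leechLattice} (hv : sqNorm (v : GolayPt → ℤ) = 48) :
    NoRCI 2 (MulAction.stabilizer Co0 v) := by
  intro x hx h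
  have hx2 : (x : Co0) * (x : Co0) = 1 := by
    have h1 := pow_orderOf_eq_one x
    rw [hx, pow_two] at h1
    exact congrArg Subtype.val h1
  have hx1 : (x : Co0) ≠ 1 := by
    intro h1
    have h2 : x = 1 := Subtype.ext h1
    rw [h2, orderOf_one] at hx
    norm_num at hx
  obtain ⟨g, c, hc, hg⟩ := exists_sign hx2 hx1
  have hfix : signCo0 c • (g • v) = g • v := (smul_fix hg).1 x.2
  have hn : sqNorm ((g • v : leechLattice) : GolayPt → ℤ) = 48 := (co0_sqNorm g v).trans hv
  obtain ⟨i, j, s, t, hij, hi, hj, hs, ht, hd⟩ := exists_six (g • v).2 hn hc ((sign_fixed_iff c _).1 hfix)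
  set y : leechLattice := ⟨pv i j s t, pv_mem i j hs ht⟩ with hy
  have hyn : sqNorm (y : GolayPt → ℤ) = 32 := norm_pv hij hs ht
  have hyf : signCo0 c • y = y := sign_smul_pv _ hi hj
  set w : leechLattice := y - g • v with hw
  have hwf : signCo0 c • w = w := by rw [hw, Cfsg.Agent.SporadicA.Co0Mono.smul_sub, hyf, hfix]
  have hgw : g • (g⁻¹ • w) = w := smul_inv_smul g w
  have hw' : (x : Co0) • (g⁻¹ • w) = g⁻¹ • w := (smul_fix hg).2 (by rw [hgw, hwf])
  have hdot : ∀ a b c : GolayPt → ℤ, dotInt a (b - c) = dotInt a b - dotInt a c := by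
    intro a b c
    show ∑ k, a k * (b k - c k) = ∑ k, a k * b k - ∑ k, a k * c k
    rw [← Finset.sum_sub_distrib]
    exact Finset.sum_congr rfl fun k _ => by ring
  have hself : ∀ a : GolayPt → ℤ, dotInt a a = sqNorm a := by
    intro a
    show ∑ k, a k * a k = ∑ k, a k ^ 2
    exact Finset.sum_congr rfl fun k _ => by ring
  have hcomm : ∀ a b : GolayPt → ℤ, dotInt a b = dotInt b a := by
    intro a b
    show ∑ k, a k * b k = ∑ k, b k * a k
    exact Finset.sum_congr rfl fun k _ => by ring
  have hwc : (w : GolayPt → ℤ) = (y : GolayPt → ℤ) - ((g • v : leechLattice) : GolayPt → ℤ) := rfl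
  have hd1 : dotInt ((g • v : leechLattice) : GolayPt → ℤ) (y : GolayPt → ℤ) = 16 := hd
  have hd2 : dotInt ((g • v : leechLattice) : GolayPt → ℤ) (w : GolayPt → ℤ) = -32 := by
    rw [hwc, hdot, hd1, hself, hn]
    norm_num
  have hwn : sqNorm (w : GolayPt → ℤ) = 48 := by
    rw [← hself]
    conv_lhs => rw [hwc]
    rw [hdot, hcomm _ (y : GolayPt → ℤ), hcomm _ ((g • v : leechLattice) : GolayPt → ℤ), ← hwc, hd2, hwc, hdot, hself,
      hcomm, hd1, hyn]
    norm_num
  have hwn' : sqNorm ((g⁻¹ • w : leechLattice) : GolayPt → ℤ) = 48 := (co0_sqNorm _ w).trans hwn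
  have hd' : dotInt (v : GolayPt → ℤ) ((g⁻¹ • w : leechLattice) : GolayPt → ℤ) = -32 := by
    rw [← co0_dotInt g, hgw]
    exact hd2
  obtain ⟨hsimp, hcardL⟩ := Cfsg.Agent.S0405.result v (g⁻¹ • w) hv hwn' hd'
  set L := MulAction.stabilizer Co0 v ⊓ MulAction.stabilizer Co0 (g⁻¹ • w) with hL
  set M := L.subgroupOf (MulAction.stabilizer Co0 v) with hM
  have e1 : M ≃* L := subgroupOfEquivOfLe inf_le_left
  have hcard : Nat.card M = 44352000 := by
    rw [Nat.card_congr e1.toEquiv, hcardL]
  have hcL := (Cfsg.Agent.S0403.result v hv).2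
  refine false_of_mem hx h (M := M) ?_ (mem_subgroupOf.2 ⟨x.2, hw'⟩)
    (RadFree.congr Nat.prime_two e1 (radFree_of_card hsimp ?_ (by norm_num)))
  · intro htop
    rw [htop, Subgroup.card_top, hcL] at hcard
    norm_num at hcard
  · rw [hcardL]
    norm_num

end CoTwoThree

section CoOne

/-- the permutation part of a monomial element -/
noncomputable def pr : N →* M24 where
  toFun n := (exists_sign_perm n.2).choose_spec.choose
  map_one' := by
    have h := (exists_sign_perm (1 : N).2).choose_spec.choose_spec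
    have h1 : signCo0 0 * permCo0 1 = ((1 : N) : Co0) := by
      rw [signCo0_zero, map_one, one_mul]
      rfl
    exact (sp_inj (h1.trans h)).2.symm
  map_mul' a b := by
    have ha := (exists_sign_perm a.2).choose_spec.choose_spec
    have hb := (exists_sign_perm b.2).choose_spec.choose_spec
    have h := (exists_sign_perm (a * b).2).choose_spec.choose_spec
    have h1 : ((a * b : N) : Co0) = (a : Co0) * (b : Co0) := rfl
    exact (sp_inj ((h.symm.trans (h1.trans (congrArg₂ (· * ·) ha hb))).trans (sp_mul _ _ _ _))).2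

theorem pr_eq {n : N} {c : golayCode} {σ : M24} (h : (n : Co0) = signCo0 c * permCo0 σ) : pr n = σ :=
  (sp_inj (((exists_sign_perm n.2).choose_spec.choose_spec).symm.trans h)).2

theorem pr_surjective : Function.Surjective pr := by
  intro σ
  refine ⟨⟨permCo0 σ, perm_mem_N σ⟩, pr_eq (c := 0) ?_⟩
  rw [signCo0_zero, one_mul]

theorem N_ne_top : (N : Subgroup Co0) ≠ ⊤ := by
  intro h
  have h1 := Cfsg.Agent.S0399.card_N
  rw [h, Subgroup.card_top, card_co0] at h1
  norm_num at h1

/-- the projection -/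
noncomputable abbrev mk' : Co0 →* Spor.Co1 := QuotientGroup.mk' (center Co0)

theorem center_le_N : center Co0 ≤ N := by
  intro z hz
  rcases (Cfsg.Agent.CoOneType.ClosingFacts.mem_center_iff z).1 hz with rfl | rfl
  · exact one_mem _
  · exact sign_mem_N _

/-- **the lifts with square one** -/
theorem false_of_sq_one {x : Spor.Co1} (hx : orderOf x = 2) (h : RC (MulAut.conj x)) {t : Co0} (htx : mk' t = x)
    (ht : t * t = 1) : False := by
  have ht1 : t ≠ 1 := by
    rintro rfl
    rw [map_one] at htx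
    rw [← htx, orderOf_one] at hx
    norm_num at hx
  obtain ⟨g, c, hc, hg⟩ := exists_sign ht ht1
  have hc24 : wt c ≠ 24 := by
    intro h24
    have h1 : c = allOne := Cfsg.Agent.CoOneType.ClosingFacts.eq_allOne_of_wt h24
    have h2 : signCo0 c ∈ center Co0 := h1 ▸ allOne_mem_center
    have h3 : t ∈ center Co0 := by
      have h4 : t = g⁻¹ * signCo0 c * g := by rw [← hg]; group
      rw [h4, mul_assoc, ← mem_center_iff.1 h2 g, inv_mul_cancel_left]
      exact h2
    have h5 : mk' t = 1 := (QuotientGroup.eq_one_iff t).2 h3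
    rw [htx] at h5
    rw [h5, orderOf_one] at hx
    norm_num at hx
  have hcc : (sup c).card ≤ 16 := by
    have h24 : (sup c).card ≠ 24 := hc24
    rcases wt_cases c with h | h | h | h | h
    all_goals
      have h' : (sup c).card = _ := h
      omega
  -- a minimal vector off the word
  obtain ⟨i, hi, j, hj, hij⟩ : ∃ i ∈ (sup c)ᶜ, ∃ j ∈ (sup c)ᶜ, i ≠ j := by
    apply Finset.one_lt_card.1
    rw [Finset.card_compl, Cfsg.Agent.SporadicA.LeechMin.card_pts]
    omega
  rw [Finset.mem_compl] at hi hj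
  set w : leechLattice := ⟨pv i j 1 1, pv_mem i j (one_pow 2) (one_pow 2)⟩ with hw
  have hwn : sqNorm (w : GolayPt → ℤ) = 32 := norm_pv hij (one_pow 2) (one_pow 2)
  have hwf : signCo0 c • w = w := sign_smul_pv _ hi hj
  have hgw : g • (g⁻¹ • w) = w := smul_inv_smul g w
  have hw' : t • (g⁻¹ • w) = g⁻¹ • w := (smul_fix hg).2 (by rw [hgw, hwf])
  have hwn' : sqNorm ((g⁻¹ • w : leechLattice) : GolayPt → ℤ) = 32 := (co0_sqNorm _ w).trans hwn
  obtain ⟨hsimp, hcard⟩ := Cfsg.Agent.S0402.result _ hwn'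
  have hfin : Finite (MulAction.stabilizer Co0 (g⁻¹ • w)) := inferInstance
  set f : MulAction.stabilizer Co0 (g⁻¹ • w) →* Spor.Co1 := mk'.comp (MulAction.stabilizer Co0 (g⁻¹ • w)).subtype with hf
  have hinj : Function.Injective f := by
    rw [injective_iff_map_eq_one]
    intro a ha
    have h1 : (a : Co0) ∈ center Co0 := (QuotientGroup.eq_one_iff (a : Co0)).1 ha
    rcases (Cfsg.Agent.CoOneType.ClosingFacts.mem_center_iff _).1 h1 with h2 | h2
    · exact Subtype.ext h2
    · exfalso
      have h3 : (a : Co0) • (g⁻¹ • w) = g⁻¹ • w := a.2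
      rw [h2, Cfsg.Agent.SporadicA.Co1Simple.allOne_smul] at h3
      have h4 : sqNorm ((g⁻¹ • w : leechLattice) : GolayPt → ℤ) = 0 := by
        have h5 : ∀ k, ((g⁻¹ • w : leechLattice) : GolayPt → ℤ) k = 0 := by
          intro k
          have h6 := congrArg (fun u : leechLattice => (u : GolayPt → ℤ) k) h3
          have h7 : -(((g⁻¹ • w : leechLattice) : GolayPt → ℤ) k) = ((g⁻¹ • w : leechLattice) : GolayPt → ℤ) k := h6
          omega
        show ∑ k, ((g⁻¹ • w : leechLattice) : GolayPt → ℤ) k ^ 2 = 0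
        exact Finset.sum_eq_zero fun k _ => by rw [h5 k]; rfl
      rw [hwn'] at h4
      norm_num at h4
  have e : MulAction.stabilizer Co0 (g⁻¹ • w) ≃* f.range := MonoidHom.ofInjective hinj
  have hcard' : Nat.card f.range = 42305421312000 := by
    rw [← Nat.card_congr e.toEquiv, hcard]
  have hco1 : Nat.card Spor.Co1 = 4157776806543360000 := Cfsg.Agent.S0399.result.2
  refine false_of_mem hx h (M := f.range) ?_ ⟨⟨t, hw'⟩, htx⟩
    (RadFree.congr Nat.prime_two e.symm (radFree_of_card hsimp ?_ (by norm_num)))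
  · intro htop
    rw [htop, Subgroup.card_top, hco1] at hcard'
    norm_num at hcard'
  · rw [hcard]
    norm_num

theorem allOne_ne : signCo0 allOne ≠ 1 := by
  intro h
  have h2 : signCo0 allOne * permCo0 1 = signCo0 0 * permCo0 1 := by rw [h, signCo0_zero]
  have h3 := congrArg (fun c : golayCode => (c : GolayPt → ZMod 2) none) (sp_inj h2).1
  exact absurd h3 (by decide)

theorem b0_mem_N : b0 ∈ N := mul_mem (sign_mem_N _) (perm_mem_N _)

/-- **the lifts with square minus one** -/
theorem false_of_sq_neg {x : Spor.Co1} (hx : orderOf x = 2) (h : RC (MulAut.conj x)) {t : Co0} (htx : mk' t = x)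
    (ht : t * t = signCo0 allOne) : False := by
  obtain ⟨g, hg⟩ := conj_b0_of_sq_neg t ht
  have hfin : Finite Spor.Co1 := inferInstance
  set M := N.map mk' with hM
  have hMt : M ≠ ⊤ := by
    intro htop
    apply N_ne_top
    rw [eq_top_iff]
    intro z _
    have h1 : mk' z ∈ M := htop ▸ mem_top _
    obtain ⟨n, hn, hnz⟩ := h1
    have h2 : n⁻¹ * z ∈ center Co0 := QuotientGroup.eq.1 hnz
    have h3 := mul_mem hn (center_le_N h2)
    rwa [mul_inv_cancel_left] at h3
  set φ : N →* M := mk'.subgroupMap N with hφ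
  have hφs : Function.Surjective φ := mk'.subgroupMap_surjective N
  set y : N := ⟨b0, b0_mem_N⟩ with hy
  have hxM : mk' g * x * (mk' g)⁻¹ ∈ M := by
    refine ⟨b0, b0_mem_N, ?_⟩
    rw [← hg, map_mul, map_mul, map_inv, htx]
  have hrad := mem_rad (rc_conj h (mk' g)) hMt hxM
  have hyx : φ y = ⟨mk' g * x * (mk' g)⁻¹, hxM⟩ := by
    apply Subtype.ext
    show mk' b0 = _
    rw [← hg, map_mul, map_mul, map_inv, htx]
  have hyR : y ∈ (solvableRadical M).comap φ := by
    show φ y ∈ solvableRadical M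
    rw [hyx]
    exact hrad
  have hsol : Group.IsSolvable ↥((solvableRadical M).comap φ) := by
    refine solvable_comap φ (fun a ha => ?_) (rad_solvable M)
    have h1 : mk' (a : Co0) = 1 := congrArg Subtype.val ha
    have h2 : (a : Co0) ∈ center Co0 := (QuotientGroup.eq_one_iff (a : Co0)).1 h1
    rw [mem_center_iff]
    intro b
    exact Subtype.ext (mem_center_iff.1 h2 b)
  have hnorm : ((solvableRadical M).comap φ).Normal := (rad_normal M).comap φ
  have hyN : y ∈ solvableRadical N := le_rad hnorm hsol hyR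
  have hpr := map_rad_le pr_surjective hyN
  have hs : IsSimpleGroup M24 := Cfsg.Agent.S0365.result
  have hM24 : solvableRadical M24 = ⊥ := by
    apply rad_eq_bot_of_simple
    exact not_solvable_of_card hs (by rw [Cfsg.Agent.S0364.result]; norm_num)
  rw [hM24, mem_bot] at hpr
  have h1 : (y : Co0) = signCo0 _ * permCo0 (pr y) := (exists_sign_perm y.2).choose_spec.choose_spec
  rw [hpr, map_one, mul_one] at h1
  have h2 : b0 * b0 = 1 := by
    have h3 : b0 = (y : Co0) := rfl
    rw [h3, h1, signCo0_mul_self]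
  rw [Cfsg.Agent.CoOneType.InvMain.b0_mul_self] at h2
  exact allOne_ne h2

theorem noRCI_co1 : NoRCI 2 Spor.Co1 := by
  intro x hx h
  obtain ⟨t, rfl⟩ := QuotientGroup.mk'_surjective (center Co0) x
  have h1 : t * t ∈ center Co0 := by
    have h2 := pow_orderOf_eq_one (mk' t)
    rw [hx, pow_two, ← map_mul] at h2
    exact (QuotientGroup.eq_one_iff (t * t)).1 h2
  rcases (Cfsg.Agent.CoOneType.ClosingFacts.mem_center_iff _).1 h1 with h2 | h2
  · exact false_of_sq_one hx h rfl h2
  · exact false_of_sq_neg hx h rfl h2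

end CoOne

end Cfsg.Agent.H831.CoRad
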