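import Cfsg.Agent.TypeD4Two.F8

set_option autoImplicit false

/-! Numbers coding matrices over the explicit field with eight elements, with a product the kernel evaluates
quickly. -/

namespace Cfsg.Agent.H831.DCode

open Cfsg.Agent.TypeD4Two

/-- the `r × s` matrix coded by a number, three bits per entry -/
def mt (r s n : ℕ) : Matrix (Fin r) (Fin s) F8 := fun i j => F8.ofN (Nat.shiftRight n (3 * (s * i.1 + j.1)))

/-- the number with the octal digits `f k % 8`, `f (k + 1) % 8`, … (`n` of them) -/
def enc (f : ℕ → ℕ) : ℕ → ℕ → ℕ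
  | 0, _ => 0
  | n + 1, k => f k % 8 + 8 * enc f n (k + 1)

theorem enc_digit (f : ℕ → ℕ) (n k m : ℕ) (hm : m < n) : Nat.shiftRight (enc f n k) (3 * m) % 8 = f (k + m) % 8 := by
  change (enc f n k >>> (3 * m)) % 8 = _
  induction n generalizing k m with
  | zero => omega
  | succ n ih =>
    rw [enc]
    rcases m with - | m
    · simp only [Nat.mul_zero, Nat.shiftRight_zero, Nat.add_zero]; omega
    · have h := ih (k + 1) m (by omega)
      have e : 3 * (m + 1) = 3 + 3 * m := by ring
      rw [e, Nat.shiftRight_add, Nat.shiftRight_eq_div_pow _ 3]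
      have e2 : (f k % 8 + 8 * enc f n (k + 1)) / 2 ^ 3 = enc f n (k + 1) := by
        norm_num; omega
      rw [e2, h, Nat.add_assoc, Nat.add_comm 1 m]

theorem enc_lt (f : ℕ → ℕ) (n k : ℕ) : enc f n k < 8 ^ n := by
  induction n generalizing k with
  | zero => simp [enc]
  | succ n ih =>
    rw [enc, pow_succ]
    have := ih (k + 1)
    omega

/-- the sum of products giving an entry of the product -/
def dot (a b s t i j : ℕ) : ℕ → ℕ
  | 0 => 0
  | k + 1 => Nat.xor (dot a b s t i j k)
      (Nat.shiftRight F8.tbl (3 * (8 * (Nat.shiftRight a (3 * (s * i + k)) % 8) +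
        Nat.shiftRight b (3 * (t * k + j)) % 8)))

theorem ofN_mul (m n : ℕ) : F8.ofN m * F8.ofN n = F8.ofN (Nat.shiftRight F8.tbl (3 * (8 * (m % 8) + n % 8))) := rfl

theorem ofN_add' (m n : ℕ) : F8.ofN m + F8.ofN n = F8.ofN (Nat.xor m n) := F8.ofN_add m n

theorem ofN_dot (a b s t i j k : ℕ) : F8.ofN (dot a b s t i j k) =
    ∑ l ∈ Finset.range k, F8.ofN (Nat.shiftRight a (3 * (s * i + l))) * F8.ofN (Nat.shiftRight b (3 * (t * l + j))) := by
  induction k with
  | zero => rfl
  | succ k ih => rw [dot, Finset.sum_range_succ, ← ih, ofN_mul, ofN_add']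

/-- evaluate a number before using it -/
def force (a : ℕ) (k : ℕ → ℕ) : ℕ := Nat.rec (k 0) (fun n _ => k (Nat.succ n)) a

theorem force_eq (a : ℕ) (k : ℕ → ℕ) : force a k = k a := by cases a <;> rfl

/-- the code of the product -/
def mulR (r s t a b : ℕ) : ℕ :=
  force a fun a => force b fun b => enc (fun p => dot a b s t (p / t) (p % t) s) (r * t) 0

theorem mt_mulR (r s t a b : ℕ) : mt r t (mulR r s t a b) = mt r s a * mt s t b := by
  ext i j
  rw [mulR, force_eq, force_eq, Matrix.mul_apply]
  have hi := i.2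
  have hj := j.2
  have hp : t * i.1 + j.1 < r * t := by
    have : t * i.1 + t ≤ t * r := by
      rw [← Nat.mul_succ]; exact Nat.mul_le_mul_left t hi
    rw [Nat.mul_comm r t]; omega
  have h1 := enc_digit (fun p => dot a b s t (p / t) (p % t) s) (r * t) 0 (t * i.1 + j.1) hp
  have h2 : mt r t (enc (fun p => dot a b s t (p / t) (p % t) s) (r * t) 0) i j =
      F8.ofN (dot a b s t i.1 j.1 s) := by
    apply F8.ext'
    have h3 : (t * i.1 + j.1) / t = i.1 := by
      rw [Nat.mul_add_div (by omega), Nat.div_eq_of_lt hj, Nat.add_zero]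
    have h4 : (t * i.1 + j.1) % t = j.1 := by
      rw [Nat.mul_add_mod, Nat.mod_eq_of_lt hj]
    rw [Nat.zero_add, h3, h4] at h1
    exact h1
  rw [h2, ofN_dot, Finset.sum_range]
  rfl

end Cfsg.Agent.H831.DCode
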