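import Cfsg.Agent.H831.DWord

set_option autoImplicit false

/-! Fixed spaces of diagonal elements and of elements commuting with them. -/

namespace Cfsg.Agent.H831.DDiag

open Cfsg.Agent.TypeD4Two Cfsg.Agent.H831.DCode Cfsg.Agent.H831.DGrp Cfsg.Agent.H831.DDick
  Cfsg.Agent.H831.DFix Cfsg.Agent.H831.DWord Module

variable (b : Basis (Fin 8) F8 V)

theorem coord_le {x : GG} {lam : Fin 8 → F8} (hx : ∀ k, le x (b k) = lam k • b k) (v : V) (k : Fin 8) :
    b.repr (le x v) k = lam k * b.repr v k := by
  have h : (b.coord k) ∘ₗ (le x).toLinearMap = lam k • b.coord k := by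
    apply b.ext
    intro l
    show b.repr (le x (b l)) k = lam k * b.repr (b l) k
    rw [hx, map_smul, Finsupp.smul_apply, smul_eq_mul, Basis.repr_self]
    by_cases hlk : l = k
    · rw [hlk]
    · rw [Finsupp.single_eq_of_ne (Ne.symm hlk), mul_zero, mul_zero]
  exact LinearMap.congr_fun h v

theorem D_le_card {x : GG} {lam : Fin 8 → F8} (hx : ∀ k, le x (b k) = lam k • b k) :
    D x ≤ Fintype.card {k : Fin 8 // lam k = 1} := by
  let φ : fix (le x) →ₗ[F8] ({k : Fin 8 // lam k = 1} → F8) :=
    LinearMap.pi fun k => (b.coord k.1) ∘ₗ (fix (le x)).subtype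
  have hφ : Function.Injective φ := by
    rw [← LinearMap.ker_eq_bot, LinearMap.ker_eq_bot']
    rintro ⟨v, hv⟩ h
    rw [mem_fix'] at hv
    apply Subtype.ext
    show v = 0
    apply b.repr.injective
    rw [map_zero]
    ext k
    rw [Finsupp.zero_apply]
    by_cases hk : lam k = 1
    · exact congrFun h ⟨k, hk⟩
    · have h1 := coord_le b hx v k
      rw [hv] at h1
      have h2 : (lam k - 1) * b.repr v k = 0 := by rw [sub_mul, one_mul, ← h1, sub_self]
      exact (mul_eq_zero.1 h2).resolve_left (sub_ne_zero.2 hk)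
  have := LinearMap.finrank_le_finrank_of_injective hφ
  rw [Module.finrank_fintype_fun_eq_card] at this
  exact this

theorem cube_root : ∀ c : F8, c * c * c = 1 → c = 1 := by decide +kernel

theorem fix_simple {x z : GG} {lam : Fin 8 → F8} (hx : ∀ k, le x (b k) = lam k • b k) (hc : x * z = z * x)
    (hz : z ^ 3 = 1) {k : Fin 8} (hk : ∀ l, l ≠ k → lam l ≠ lam k) : le z (b k) = b k := by
  have h1 : ∀ l, l ≠ k → b.repr (le z (b k)) l = 0 := by
    intro l hl
    have h2 := coord_le b hx (le z (b k)) l
    rw [← le_mul_apply, hc, le_mul_apply, hx, map_smul, map_smul, Finsupp.smul_apply, smul_eq_mul] at h2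
    have h3 : (lam k - lam l) * b.repr (le z (b k)) l = 0 := by rw [sub_mul, h2, sub_self]
    exact (mul_eq_zero.1 h3).resolve_left (sub_ne_zero.2 (hk l hl).symm)
  set c := b.repr (le z (b k)) k with hcd
  have h2 : le z (b k) = c • b k := by
    apply b.repr.injective
    rw [map_smul, Basis.repr_self]
    ext l
    rw [Finsupp.smul_apply, smul_eq_mul]
    by_cases hl : l = k
    · rw [hl, Finsupp.single_eq_same, mul_one]
    · rw [h1 l hl, Finsupp.single_eq_of_ne hl, mul_zero]
  have h3 : (c * c * c) • b k = b k := by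
    have h4 : le (z ^ 3) (b k) = b k := by rw [hz, le_one]
    have e : z ^ 3 = z * (z * z) := by rw [pow_succ, pow_two, mul_assoc]
    rw [e, le_mul_apply, le_mul_apply, h2, map_smul, h2, map_smul, map_smul, h2, smul_smul, smul_smul] at h4
    exact h4
  have h4 : c * c * c = 1 := by
    have h5 := congrArg (fun v => b.repr v k) h3
    simp only [map_smul, Finsupp.smul_apply, Basis.repr_self, Finsupp.single_eq_same, smul_eq_mul, mul_one] at h5
    exact h5
  rw [h2, cube_root c h4, one_smul]

theorem card_le_D {x z : GG} {lam : Fin 8 → F8} (hx : ∀ k, le x (b k) = lam k • b k) (hc : x * z = z * x)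
    (hz : z ^ 3 = 1) : Fintype.card {k : Fin 8 // ∀ l, l ≠ k → lam l ≠ lam k} ≤ D z := by
  have h1 : LinearIndependent F8 (fun k : {k : Fin 8 // ∀ l, l ≠ k → lam l ≠ lam k} =>
      (⟨b k.1, fix_simple b hx hc hz k.2⟩ : fix (le z))) := by
    have h2 : LinearIndependent F8 (fun k : {k : Fin 8 // ∀ l, l ≠ k → lam l ≠ lam k} => b k.1) :=
      b.linearIndependent.comp _ Subtype.val_injective
    exact LinearIndependent.of_comp (fix (le z)).subtype h2
  exact h1.fintype_card_le_finrank

/-- the basis of columns of a matrix -/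
noncomputable def colB (P : GG) : Basis (Fin 8) F8 V := (Pi.basisFun F8 (Fin 8)).map (le P)

theorem colB_apply (P : GG) (k : Fin 8) : colB P k = le P (Pi.single k 1) := by
  rw [colB, Basis.map_apply, Pi.basisFun_apply]

theorem le_colB {P x : GG} {c : ℕ × ℕ} (hc : Cd (P⁻¹ * x * P) c) (lam : ℕ → ℕ)
    (h : ∀ k < 8, ∀ i < 8, Nat.shiftRight c.1 (3 * (8 * i + k)) % 8 = if i = k then lam k % 8 else 0) (k : Fin 8) :
    le x (colB P k) = F8.ofN (lam k) • colB P k := by
  have h1 : le (P⁻¹ * x * P) (Pi.single k 1) = F8.ofN (lam k) • Pi.single k (1 : F8) := by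
    funext i
    rw [le_single hc, Pi.smul_apply, smul_eq_mul]
    have h2 := h k.1 k.2 i.1 i.2
    by_cases hik : i = k
    · rw [hik, Pi.single_eq_same, mul_one]
      rw [hik, if_pos rfl] at h2
      apply F8.ext'
      exact h2
    · rw [Pi.single_eq_of_ne hik, mul_zero]
      rw [if_neg (fun h => hik (Fin.ext h))] at h2
      apply F8.ext'
      exact h2
  rw [colB_apply]
  calc le x (le P (Pi.single k 1)) = le P (le (P⁻¹ * x * P) (Pi.single k 1)) := by
        rw [← le_mul_apply, ← le_mul_apply]; congr 2; group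
    _ = _ := by rw [h1, map_smul]

end Cfsg.Agent.H831.DDiag
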