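import Cfsg.Agent.ClassicalGeometry.TwoFamilies

/-!
# The Dickson invariant over a field of characteristic two

The parity of the dimension of the fixed space is multiplicative on isometries of a nondegenerate quadratic form
(the proof for the prime field in `LargeExtra.Dickson`, written over any field of characteristic two).
-/

set_option autoImplicit false

namespace Cfsg.Agent.H831.DDick

open Module

section Abstract

variable {F V : Type*} [Field F] [AddCommGroup V] [Module F V] [FiniteDimensional F V]

/-- the fixed space -/
def fix (f : V ≃ₗ[F] V) : Submodule F V := LinearMap.eqLocus f.toLinearMap LinearMap.id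

omit [FiniteDimensional F V] in
theorem mem_fix (f : V ≃ₗ[F] V) (v : V) : v ∈ fix f ↔ f v = v := Iff.rfl

/-- the form `B ⊥ B` on `V × V` -/
def BB (B : LinearMap.BilinForm F V) : LinearMap.BilinForm F (V × V) :=
  B.compl₁₂ (LinearMap.fst _ V V) (LinearMap.fst _ V V) + B.compl₁₂ (LinearMap.snd _ V V) (LinearMap.snd _ V V)

omit [FiniteDimensional F V] in
theorem BB_apply (B : LinearMap.BilinForm F V) (x y : V × V) : BB B x y = B x.1 y.1 + B x.2 y.2 := rfl

omit [FiniteDimensional F V] in
theorem finrank_graph (f : V →ₗ[F] V) : finrank F f.graph = finrank F V := by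
  rw [LinearMap.graph_eq_range_prod]
  apply LinearMap.finrank_range_of_inj
  intro x y hxy
  exact congrArg Prod.fst hxy

omit [FiniteDimensional F V] in
theorem finrank_graph_inf (f g : V →ₗ[F] V) :
    finrank F ↥(f.graph ⊓ g.graph) = finrank F (LinearMap.eqLocus f g) := by
  have hinj : Function.Injective (LinearMap.id.prod f : V →ₗ[F] V × V) := by
    intro x y hxy
    exact congrArg Prod.fst hxy
  have h1 : f.graph ⊓ g.graph = (LinearMap.eqLocus f g).map (LinearMap.id.prod f) := by
    ext x
    rw [Submodule.mem_inf, LinearMap.mem_graph_iff, LinearMap.mem_graph_iff, Submodule.mem_map]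
    constructor
    · rintro ⟨h1, h2⟩
      refine ⟨x.1, ?_, ?_⟩
      · show f x.1 = g x.1
        rw [← h1, h2]
      · apply Prod.ext
        · rfl
        · exact h1.symm
    · rintro ⟨y, hy, rfl⟩
      exact ⟨rfl, hy⟩
  rw [h1]
  exact (Submodule.equivMapOfInjective _ hinj (LinearMap.eqLocus f g)).finrank_eq.symm

/-- **Dickson**: the parity of `dim Fix` is multiplicative. -/
theorem even_sum (hadd : ∀ x : F, x + x = 0) (q : V → F) (B : LinearMap.BilinForm F V)
    (hq : ∀ u w, q (u + w) = q u + q w + B u w) (hsep : ∀ v, (∀ w, B v w = 0) → v = 0)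
    (hsymm : ∀ v w, B v w = B w v) (f g : V ≃ₗ[F] V)
    (hf : ∀ v, q (f v) = q v) (hg : ∀ v, q (g v) = q v) :
    Even (finrank F (fix f) + finrank F (fix g) + finrank F (fix (f * g)) +
      finrank F V) := by
  set m := finrank F V with hm
  have hfin : finrank F (V × V) = 2 * m := by
    rw [Module.finrank_prod, ← hm]; ring
  have hnd : (BB B).Nondegenerate := by
    have hs : ∀ x y, BB B x y = BB B y x := fun x y => by
      rw [BB_apply, BB_apply, hsymm x.1, hsymm x.2]
    have hl : ∀ x : V × V, (∀ y, BB B x y = 0) → x = 0 := by
      intro x hx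
      apply Prod.ext
      · apply hsep
        intro w
        have := hx (w, 0)
        rw [BB_apply] at this
        simpa using this
      · apply hsep
        intro w
        have := hx (0, w)
        rw [BB_apply] at this
        simpa using this
    exact ⟨hl, fun y hy => hl y fun x => by rw [hs]; exact hy x⟩
  have hrefl : (BB B).IsRefl := by
    intro x y hxy
    rw [BB_apply] at hxy ⊢
    rw [hsymm y.1, hsymm y.2]
    exact hxy
  have hq' : ∀ x y : V × V, (q (x + y).1 + q (x + y).2) = (q x.1 + q x.2) + (q y.1 + q y.2) + BB B x y := by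
    intro x y
    rw [BB_apply, Prod.fst_add, Prod.snd_add, hq, hq]
    abel
  have hsing : ∀ f : V ≃ₗ[F] V, (∀ v, q (f v) = q v) →
      ∀ x ∈ (f.toLinearMap).graph, q x.1 + q x.2 = 0 := by
    intro f hf x hx
    rw [LinearMap.mem_graph_iff] at hx
    rw [hx]
    show q x.1 + q (f x.1) = 0
    rw [hf, hadd]
  -- the three graphs: `1`, `f⁻¹`, `g`
  have hfi : ∀ v, q (f.symm v) = q v := fun v => by
    rw [← hf (f.symm v), LinearEquiv.apply_symm_apply]
  have key := Cfsg.Agent.ClassicalGeometry.TwoFamilies.even_intersections (B := BB B)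
    (fun x => q x.1 + q x.2) hq' hnd hrefl m hfin
    (LinearMap.id (R := F) (M := V)).graph (f.symm.toLinearMap).graph (g.toLinearMap).graph
    (finrank_graph _) (finrank_graph _) (finrank_graph _)
    (fun x hx => by
      rw [LinearMap.mem_graph_iff] at hx
      show q x.1 + q x.2 = 0
      rw [hx]
      exact hadd _)
    (hsing f.symm hfi) (hsing g hg)
  rw [finrank_graph_inf, finrank_graph_inf, finrank_graph_inf] at key
  have e1 : LinearMap.eqLocus (LinearMap.id (R := F) (M := V)) f.symm.toLinearMap = fix f := by
    ext v
    show v = f.symm v ↔ f v = v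
    constructor
    · intro h
      calc f v = f (f.symm v) := by rw [← h]
        _ = v := f.apply_symm_apply v
    · intro h
      calc v = f.symm (f v) := (f.symm_apply_apply v).symm
        _ = f.symm v := by rw [h]
  have e2 : LinearMap.eqLocus f.symm.toLinearMap g.toLinearMap = fix (f * g) := by
    ext v
    show f.symm v = g v ↔ f (g v) = v
    constructor
    · intro h; rw [← h]; exact f.apply_symm_apply v
    · intro h
      calc f.symm v = f.symm (f (g v)) := by rw [h]
        _ = g v := f.symm_apply_apply _
  have e3 : LinearMap.eqLocus (LinearMap.id (R := F) (M := V)) g.toLinearMap = fix g := by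
    ext v
    show v = g v ↔ g v = v
    exact eq_comm
  rw [e1, e2, e3] at key
  rw [Nat.even_iff] at key ⊢
  omega

end Abstract

end Cfsg.Agent.H831.DDick
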