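import Cfsg.Agent.H831.DSyl

set_option autoImplicit false

/-! Fixed spaces of elements of odd prime power order of the group `Gam`. -/

namespace Cfsg.Agent.H831.DFact

open Cfsg.Agent.TypeD4Two Cfsg.Agent.H831.DCode Cfsg.Agent.H831.DGrp Cfsg.Agent.H831.DDick
  Cfsg.Agent.H831.DFix Cfsg.Agent.H831.DWord Cfsg.Agent.H831.DDiag Cfsg.Agent.H831.DSyl Module

theorem le_gam {q1 q2 q3 : GG} (h1 : q1 ∈ Gam) (h2 : q2 ∈ Gam) (h3 : q3 ∈ Gam) :
    Subgroup.closure ({q1, q2, q3} : Set GG) ≤ Gam := by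
  rw [Subgroup.closure_le]
  rintro x (rfl | rfl | rfl) <;> assumption

theorem fact3_aux {x : GG} (hx : x ∈ Subgroup.closure ({wd q1W, wd q2W, wd q3W} : Set GG)) :
    x = 1 ∨ (x ^ 3 = 1 ∧ D x ≤ 4) ∨ D x = 0 := by
  have h1 : x ∈ LS L3 := by
    rw [← closure_eq cd_q1 cd_q2 cd_q3 grid3]; exact hx
  obtain ⟨c, hc, hxc⟩ := h1
  obtain ⟨idx, hidx, hci⟩ := List.getElem_of_mem hc
  have hlen : L3.length = 81 := grid3.len
  have h2 := chk3_all idx (by rw [← hlen]; exact hidx)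
  have h3 : L3.getD idx 0 = c := by rw [List.getD_eq_getElem _ _ hidx, hci]
  unfold chk3 at h2
  simp only [h3, Bool.or_eq_true, Bool.and_eq_true] at h2
  rcases h2 with (h2 | ⟨⟨h4, h5⟩, h6⟩) | ⟨h4, h5⟩
  · left
    apply Units.ext
    rw [hxc, Nat.eq_of_beq_eq_true h2, mt_one, Units.val_one]
  · right; left
    constructor
    · apply Units.ext
      have h7 := Nat.eq_of_beq_eq_true h6
      rw [pow_succ, pow_two, mul_assoc, Units.val_mul, Units.val_mul, hxc, ← mt_mulR, ← mt_mulR, h7, mt_one,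
        Units.val_one]
    · have h7 := D_le hxc (Nat.eq_of_beq_eq_true h5)
      have h8 := Nat.eq_of_beq_eq_true h4
      omega
  · right; right
    have h7 := D_le hxc (Nat.eq_of_beq_eq_true h5)
    have h8 := Nat.eq_of_beq_eq_true h4
    omega

instance : Fact (Nat.Prime 3) := ⟨by norm_num⟩
instance : Fact (Nat.Prime 7) := ⟨by norm_num⟩
instance : Fact (Nat.Prime 13) := ⟨by norm_num⟩

/-- elements of 3-power order -/
theorem fact3 {x : GG} (hx : x ∈ Gam) {j : ℕ} (hp : x ^ 3 ^ j = 1) : x = 1 ∨ (x ^ 3 = 1 ∧ D x ≤ 4) ∨ D x = 0 := by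
  obtain ⟨g, -, hg⟩ := conj_mem (p := 3) (k := 4) (le_gam (wd_mem q1W) (wd_mem q2W) (wd_mem q3W))
    (by rw [card_closure cd_q1 cd_q2 cd_q3 grid3]; norm_num) (by intro m hm; omega) hx hp
  rcases fact3_aux hg with h | ⟨h1, h2⟩ | h
  · left; exact conj_eq_one_iff.1 h
  · right; left
    rw [conj_pow] at h1
    rw [D_conj] at h2
    exact ⟨conj_eq_one_iff.1 h1, h2⟩
  · right; right; rwa [D_conj] at h

/-- the eigenvector matrix -/
def PG : GG := mk PN (by decide +kernel) (by decide +kernel)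
theorem cd_P : Cd PG PN := cd_mk _ _ _

/-- eigenvalues of `d` -/
def lamN (k : ℕ) : ℕ := [2, 3, 3, 3, 5, 6, 6, 6].getD k 0
/-- eigenvalues of `y7` -/
def muN (k : ℕ) : ℕ := [1, 3, 5, 7, 1, 2, 4, 6].getD k 0

theorem eig_d (k : Fin 8) : le gd (colB PG k) = F8.ofN (lamN k) • colB PG k :=
  le_colB ((cd_P.inv.mul cd_d).mul cd_P) lamN (by decide +kernel) k

theorem eig_y (k : Fin 8) : le (wd y7W) (colB PG k) = F8.ofN (muN k) • colB PG k :=
  le_colB ((cd_P.inv.mul cd_y7).mul cd_P) muN (by decide +kernel) k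

/-- eigenvalues of `d ^ i * y ^ j` -/
def ev (i j : ℕ) (k : Fin 8) : F8 := F8.ofN (lamN k) ^ i * F8.ofN (muN k) ^ j

theorem le_pow_apply {x : GG} {v : V} {c : F8} (h : le x v = c • v) (i : ℕ) : le (x ^ i) v = c ^ i • v := by
  induction i with
  | zero => rw [pow_zero, pow_zero, le_one, one_smul]
  | succ i ih => rw [pow_succ, le_mul_apply, h, map_smul, ih, smul_smul, ← pow_succ']

theorem eig_dy (i j : ℕ) (k : Fin 8) : le (gd ^ i * wd y7W ^ j) (colB PG k) = ev i j k • colB PG k := by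
  rw [le_mul_apply, le_pow_apply (eig_y k), map_smul, le_pow_apply (eig_d k), smul_smul, mul_comm]; rfl

theorem ev_chk : ∀ i < 7, ∀ j < 7, (i = 0 ∧ j = 0) ∨ Fintype.card {k : Fin 8 // ev i j k = 1} = 0 ∨
    (Fintype.card {k : Fin 8 // ev i j k = 1} ≤ 2 ∧
      5 ≤ Fintype.card {k : Fin 8 // ∀ l, l ≠ k → ev i j l ≠ ev i j k}) := by decide +kernel

theorem comm_dy : gd * wd y7W = wd y7W * gd := (cd_d.mul cd_y7).eq_of (cd_y7.mul cd_d) (by decide +kernel)
theorem pow_y : wd y7W ^ 7 = 1 := (cd_y7.pow 7).eq_of cd_one (by decide +kernel)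

theorem fact7_aux {x : GG} (hx : x ∈ Subgroup.closure ({gd, wd y7W, 1} : Set GG)) (hx1 : x ≠ 1) :
    x ^ 7 = 1 ∧ (D x = 0 ∨ (D x ≤ 2 ∧ ∀ z : GG, x * z = z * x → z ^ 3 = 1 → 5 ≤ D z)) := by
  have h1 : x ∈ LS L7 := by
    rw [← closure_eq cd_d cd_y7 cd_one grid7]; exact hx
  obtain ⟨idx, hidx, hxe⟩ := nf_of_mem cd_d cd_y7 cd_one grid7 h1
  rw [one_pow, mul_one, Nat.div_one] at hxe
  have hi : idx / 7 < 7 := by omega
  have hj : idx % 7 < 7 := by omega
  generalize hii : idx / 7 = i at *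
  generalize hjj : idx % 7 = j at *
  subst hxe
  constructor
  · rw [(Commute.pow_pow comm_dy i j).mul_pow, ← pow_mul, ← pow_mul, Nat.mul_comm i, Nat.mul_comm j, pow_mul,
      pow_mul, relL.dd, pow_y, one_pow, one_pow, one_mul]
  · rcases ev_chk i hi j hj with ⟨rfl, rfl⟩ | h | ⟨h, h'⟩
    · exact absurd (by rw [pow_zero, pow_zero, mul_one]) hx1
    · left
      have := D_le_card (colB PG) (eig_dy i j)
      omega
    · right
      refine ⟨(D_le_card (colB PG) (eig_dy i j)).trans h, fun z hz hz3 => ?_⟩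
      exact h'.trans (card_le_D (colB PG) (eig_dy i j) hz hz3)

/-- elements of 7-power order -/
theorem fact7 {x : GG} (hx : x ∈ Gam) {j : ℕ} (hp : x ^ 7 ^ j = 1) (hx1 : x ≠ 1) :
    x ^ 7 = 1 ∧ (D x = 0 ∨ (D x ≤ 2 ∧ ∀ z : GG, x * z = z * x → z ^ 3 = 1 → 5 ≤ D z)) := by
  obtain ⟨g, -, hg⟩ := conj_mem (p := 7) (k := 2) (le_gam (lw_mem 0) (wd_mem y7W) (Subgroup.one_mem _))
    (by rw [show lw 0 = gd from rfl, card_closure cd_d cd_y7 cd_one grid7]; norm_num) (by intro m hm; omega) hx hp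
  obtain ⟨h1, h2⟩ := fact7_aux hg (fun h => hx1 (conj_eq_one_iff.1 h))
  rw [conj_pow] at h1
  refine ⟨conj_eq_one_iff.1 h1, ?_⟩
  rw [D_conj] at h2
  rcases h2 with h | ⟨h, h'⟩
  · exact Or.inl h
  · right
    refine ⟨h, fun z hz hz3 => ?_⟩
    have := h' (g * z * g⁻¹) (by
      have e1 : g * x * g⁻¹ * (g * z * g⁻¹) = g * (x * z) * g⁻¹ := by group
      have e2 : g * z * g⁻¹ * (g * x * g⁻¹) = g * (z * x) * g⁻¹ := by group
      rw [e1, e2, hz]) (by rw [conj_pow, hz3]; group)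
    rwa [D_conj] at this

theorem D_x13 : D (wd x13W) = 0 := by
  have h := D_le (k := 8) cd_x13.f (l := 0x182800006e007c4600f660fcdd0f32002840007bce006ec1) (r := oneN) (by decide +kernel)
  omega

/-- elements of 13-power order -/
theorem fact13 {x : GG} (hx : x ∈ Gam) {j : ℕ} (hp : x ^ 13 ^ j = 1) (hx1 : x ≠ 1) : D x = 0 := by
  have h13 : (wd x13W) ^ 13 = 1 := (cd_x13.pow 13).eq_of cd_one (by decide +kernel)
  have hne : wd x13W ≠ 1 := cd_x13.ne_of cd_one (by decide +kernel) (by decide +kernel) (by decide +kernel)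
  have ho : orderOf (wd x13W) = 13 := orderOf_eq_prime h13 hne
  obtain ⟨g, -, hg⟩ := conj_mem (p := 13) (k := 1) (Q := Subgroup.zpowers (wd x13W))
    (by rw [Subgroup.zpowers_le]; exact wd_mem _) (by rw [Nat.card_zpowers, ho, pow_one]) (by intro m hm; omega) hx hp
  rw [← D_conj g]
  set y := g * x * g⁻¹ with hy
  have hy1 : y ≠ 1 := fun h => hx1 (conj_eq_one_iff.1 h)
  have h1 : wd x13W ∈ Subgroup.zpowers y := by
    have h2 : Subgroup.zpowers y = Subgroup.zpowers (wd x13W) := by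
      apply Subgroup.eq_of_le_of_card_ge
      · rw [Subgroup.zpowers_le]; exact hg
      · have h3 : Nat.card (Subgroup.zpowers y) ∣ 13 := by
          rw [← ho, ← Nat.card_zpowers (wd x13W)]
          exact Subgroup.card_dvd_of_le (by rw [Subgroup.zpowers_le]; exact hg)
        rw [Nat.card_zpowers (wd x13W), ho]
        rcases (Nat.dvd_prime (by norm_num : Nat.Prime 13)).1 h3 with h4 | h4
        · rw [Nat.card_zpowers, orderOf_eq_one_iff] at h4; exact absurd h4 hy1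
        · rw [h4]
    rw [h2]; exact Subgroup.mem_zpowers _
  obtain ⟨m, hm⟩ := (mem_powers_iff_mem_zpowers).2 h1
  have h2 := D_le_pow y m
  have h3 : y ^ m = wd x13W := hm
  rw [h3, D_x13] at h2
  omega

end Cfsg.Agent.H831.DFact
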