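import Cfsg.Agent.H831.DCode
import Cfsg.Agent.TypeD4Two.Recog

set_option autoImplicit false

/-! The eight-dimensional representation of `³D₄(2)` over the field with eight elements. -/

namespace Cfsg.Agent.H831.DGrp

open Cfsg.Agent.TypeD4Two Cfsg.Agent.H831.DCode Cfsg.Agent.TypeD4Two.Cert

/-- the general linear group -/
abbrev GG : Type := Matrix.GeneralLinearGroup (Fin 8) F8

/-- `c` codes `x` and its inverse -/
structure Cd (x : GG) (c : ℕ × ℕ) : Prop where
  f : (x : Matrix (Fin 8) (Fin 8) F8) = mt 8 8 c.1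
  b : ((x⁻¹ : GG) : Matrix (Fin 8) (Fin 8) F8) = mt 8 8 c.2

/-- code of the unit matrix -/
def oneN : ℕ := 0x200000040000008000001000000200000040000008000001
/-- code of the unit matrix -/
def oneP : ℕ × ℕ := (oneN, oneN)
/-- product -/
def mulP (c d : ℕ × ℕ) : ℕ × ℕ := (mulR 8 8 8 c.1 d.1, mulR 8 8 8 d.2 c.2)
/-- inverse -/
def invP (c : ℕ × ℕ) : ℕ × ℕ := (c.2, c.1)
/-- powers -/
def powP (c : ℕ × ℕ) : ℕ → ℕ × ℕ
  | 0 => oneP
  | k + 1 => mulP (powP c k) c

theorem mt_one : mt 8 8 oneN = 1 := by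
  have h : ∀ i < 8, ∀ j < 8, Nat.shiftRight oneN (3 * (8 * i + j)) % 8 = if i = j then 1 else 0 := by decide +kernel
  ext i j
  rw [Matrix.one_apply]
  apply F8.ext'
  have h1 := h i.1 i.2 j.1 j.2
  change Nat.shiftRight oneN (3 * (8 * i.1 + j.1)) % 8 = _
  rw [h1]
  by_cases hij : i = j
  · rw [if_pos hij, if_pos (congrArg Fin.val hij)]; rfl
  · rw [if_neg hij, if_neg fun h => hij (Fin.ext h)]; rfl

theorem cd_one : Cd 1 oneP := ⟨mt_one.symm, by rw [inv_one]; exact mt_one.symm⟩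

theorem Cd.mul {x y : GG} {c d : ℕ × ℕ} (hx : Cd x c) (hy : Cd y d) : Cd (x * y) (mulP c d) := by
  refine ⟨?_, ?_⟩
  · rw [Units.val_mul, hx.f, hy.f]; exact (mt_mulR 8 8 8 _ _).symm
  · rw [mul_inv_rev, Units.val_mul, hx.b, hy.b]; exact (mt_mulR 8 8 8 _ _).symm

theorem Cd.inv {x : GG} {c : ℕ × ℕ} (hx : Cd x c) : Cd x⁻¹ (invP c) := ⟨hx.b, by rw [inv_inv]; exact hx.f⟩

theorem Cd.pow {x : GG} {c : ℕ × ℕ} (hx : Cd x c) (k : ℕ) : Cd (x ^ k) (powP c k) := by
  induction k with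
  | zero => rw [pow_zero]; exact cd_one
  | succ k ih => rw [pow_succ]; exact ih.mul hx

theorem Cd.eq_of {x y : GG} {c d : ℕ × ℕ} (hx : Cd x c) (hy : Cd y d) (h : c.1 = d.1) : x = y := by
  apply Units.ext; rw [hx.f, hy.f, h]

/-- the unit with given codes -/
def mk (c : ℕ × ℕ) (h : mulR 8 8 8 c.1 c.2 = oneN) (h' : mulR 8 8 8 c.2 c.1 = oneN) : GG :=
  ⟨mt 8 8 c.1, mt 8 8 c.2, by rw [← mt_mulR, h, mt_one], by rw [← mt_mulR, h', mt_one]⟩

theorem cd_mk (c : ℕ × ℕ) (h : mulR 8 8 8 c.1 c.2 = oneN) (h' : mulR 8 8 8 c.2 c.1 = oneN) : Cd (mk c h h') c :=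
  ⟨rfl, rfl⟩

/-- code of `d` -/
def dN : ℕ × ℕ := (0xc000000c0000018000002000000a00000180000030000003, 0x6000001800000300000050000004000000c0000018000006)
/-- the generator `d` -/
def gd : GG := mk dN (by decide +kernel) (by decide +kernel)
theorem cd_d : Cd gd dN := cd_mk _ _ _

/-- code of `e` -/
def eN : ℕ × ℕ := (0x200000240000008000009000008200009240000008000009, 0x200000240000008000009000008200009240000008000009)
/-- the generator `e` -/
def ge : GG := mk eN (by decide +kernel) (by decide +kernel)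
theorem cd_e : Cd ge eN := cd_mk _ _ _

/-- code of `n` -/
def nN : ℕ × ℕ := (0x40000200000000040000200001000008000000001000008, 0x40000200000000040000200001000008000000001000008)
/-- the generator `n` -/
def gn : GG := mk nN (by decide +kernel) (by decide +kernel)
theorem cd_n : Cd gn nN := cd_mk _ _ _

/-- code of `a` -/
def aN : ℕ × ℕ := (0x200000040000008000001000000200200040000008008001, 0x200000040000008000001000000200200040000008008001)
/-- the generator `a` -/
def ga : GG := mk aN (by decide +kernel) (by decide +kernel)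
theorem cd_a : Cd ga aN := cd_mk _ _ _

/-- code of `t` -/
def tN : ℕ × ℕ := (0x200000008000040000001000000200000008000040000001, 0x200000008000040000001000000200000008000040000001)
/-- the generator `t` -/
def gt : GG := mk tN (by decide +kernel) (by decide +kernel)
theorem cd_t : Cd gt tN := cd_mk _ _ _


theorem relL : RelL gd ge gn where
  dd := (cd_d.pow 7).eq_of cd_one (by decide +kernel)
  ee := (cd_e.mul cd_e).eq_of cd_one (by decide +kernel)
  nn := (cd_n.mul cd_n).eq_of cd_one (by decide +kernel)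
  l1 := ((cd_e.mul ((cd_d.inv.mul cd_e).mul cd_d)).mul (((cd_d.pow 3).inv.mul cd_e).mul (cd_d.pow 3))).eq_of cd_one
    (by decide +kernel)
  l2 := (cd_e.mul ((cd_d.inv.mul cd_e).mul cd_d)).eq_of (((cd_d.inv.mul cd_e).mul cd_d).mul cd_e) (by decide +kernel)
  nd := ((cd_n.mul cd_d).pow 2).eq_of cd_one (by decide +kernel)
  ne := ((cd_n.mul cd_e).pow 3).eq_of cd_one (by decide +kernel)

/-- code of `bb` -/
def bN : ℕ × ℕ := mulP (mulP nN aN) nN
theorem cd_b : Cd (bb gn ga) bN := (cd_n.mul cd_a).mul cd_n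
/-- code of `zz` -/
def zN : ℕ × ℕ := mulP (mulP aN bN) (mulP aN bN)
theorem cd_z : Cd (zz gn ga) zN := (cd_a.mul cd_b).mul (cd_a.mul cd_b)
/-- code of `cc i` -/
def cN (i : ℕ) : ℕ × ℕ := mulP (mulP (invP (powP dN i)) (mulP (mulP (mulP (mulP eN nN) aN) nN) eN)) (powP dN i)
theorem cd_c (i : ℕ) : Cd (cc gd ge gn ga i) (cN i) :=
  ((cd_d.pow i).inv.mul ((((cd_e.mul cd_n).mul cd_a).mul cd_n).mul cd_e)).mul (cd_d.pow i)

theorem relC : RelC gd ge gn ga where
  toRelL := relL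
  aa := (cd_a.mul cd_a).eq_of cd_one (by decide +kernel)
  ad := (cd_a.mul cd_d).eq_of (cd_d.mul cd_a) (by decide +kernel)
  ae := (cd_a.mul cd_e).eq_of (cd_e.mul cd_a) (by decide +kernel)
  ab := ((cd_a.mul cd_b).pow 4).eq_of cd_one (by decide +kernel)
  ze := (cd_z.mul cd_e).eq_of (cd_e.mul cd_z) (by decide +kernel)
  prod := (((((((((cd_a.mul cd_b).mul (cd_c 0)).mul (cd_c 1)).mul (cd_c 2)).mul (cd_c 3)).mul (cd_c 4)).mul
    (cd_c 5)).mul (cd_c 6))).eq_of cd_z (by decide +kernel)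

theorem relT : RelT gd ge gn ga gt where
  toRelC := relC
  tt := (cd_t.mul cd_t).eq_of cd_one (by decide +kernel)
  td := (cd_t.mul cd_d).eq_of (cd_d.mul cd_t) (by decide +kernel)
  tz := ((cd_t.mul cd_z).mul cd_t).eq_of cd_a (by decide +kernel)
  bt := ((cd_b.mul cd_t).pow 3).eq_of cd_one (by decide +kernel)
  te := ((cd_t.mul cd_e).mul cd_t).eq_of (((((cd_c 0).mul (cd_c 1)).mul (cd_c 2)).mul (cd_c 4)).mul cd_z)
    (by decide +kernel)
  tc := (cd_t.mul ((((cd_c 0).mul (cd_c 1)).mul (cd_c 2)).mul (cd_c 5))).eq_of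
    (((((cd_c 0).mul (cd_c 1)).mul (cd_c 2)).mul (cd_c 5)).mul cd_t) (by decide +kernel)

theorem cube : (gt * (gn * gt * gn)) ^ 3 = 1 :=
  ((cd_t.mul ((cd_n.mul cd_t).mul cd_n)).pow 3).eq_of cd_one (by decide +kernel)

/-- codes are injective in the range -/
theorem mt_inj {a b : ℕ} (ha : a < 8 ^ 64) (hb : b < 8 ^ 64) (h : mt 8 8 a = mt 8 8 b) : a = b := by
  have key : ∀ k < 64, Nat.shiftRight a (3 * k) % 8 = Nat.shiftRight b (3 * k) % 8 := by
    intro k hk
    have h1 := congrFun (congrFun h ⟨k / 8, by omega⟩) ⟨k % 8, by omega⟩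
    have h2 := congrArg F8.v h1
    change Nat.shiftRight a (3 * (8 * (k / 8) + k % 8)) % 8 = Nat.shiftRight b (3 * (8 * (k / 8) + k % 8)) % 8 at h2
    rw [Nat.div_add_mod] at h2
    exact h2
  apply Nat.eq_of_testBit_eq
  intro i
  by_cases hi : i < 192
  · have h1 := key (i / 3) (by omega)
    change (a >>> (3 * (i / 3))) % 2 ^ 3 = (b >>> (3 * (i / 3))) % 2 ^ 3 at h1
    have h2 := congrArg (fun x => Nat.testBit x (i % 3)) h1
    simp only [Nat.testBit_mod_two_pow, Nat.testBit_shiftRight] at h2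
    have h3 : i % 3 < 3 := Nat.mod_lt _ (by norm_num)
    rw [Nat.div_add_mod] at h2
    simpa [h3] using h2
  · have e : (8 : ℕ) ^ 64 = 2 ^ 192 := by norm_num
    rw [e] at ha hb
    rw [Nat.testBit_eq_false_of_lt (lt_of_lt_of_le ha (Nat.pow_le_pow_right (by norm_num) (by omega))),
      Nat.testBit_eq_false_of_lt (lt_of_lt_of_le hb (Nat.pow_le_pow_right (by norm_num) (by omega)))]

theorem Cd.ne_of {x y : GG} {c d : ℕ × ℕ} (hx : Cd x c) (hy : Cd y d) (h : c.1 ≠ d.1) (hc : c.1 < 8 ^ 64)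
    (hd : d.1 < 8 ^ 64) : x ≠ y := by
  rintro rfl
  exact h (mt_inj hc hd (by rw [← hx.f, ← hy.f]))

theorem t_ne : gt ≠ 1 := cd_t.ne_of cd_one (by decide +kernel) (by decide +kernel) (by decide +kernel)

/-- the group generated -/
def Gam : Subgroup GG := Subgroup.closure ({gd, ge, gn, ga, gt} : Set GG)

theorem gam_iso (K : Type*) [Field K] [Fintype K] (hK : Fintype.card K = 8) :
    Nonempty (Gam ≃* Cfsg.Lie.twistedD4 K 2) := Recog.recognize_field relT cube t_ne K hK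

theorem card_gam : Nat.card Gam = 211341312 := by
  obtain ⟨φ⟩ := gam_iso F8 F8.card_F8
  rw [Nat.card_congr φ.toEquiv, Recog.card_twD4]

end Cfsg.Agent.H831.DGrp
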