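import Cfsg.Agent.H831.DFix

set_option autoImplicit false

/-! The sum of the powers of an element and the fixed space of its odd part. -/

namespace Cfsg.Agent.H831.DJord

open Cfsg.Agent.TypeD4Two Cfsg.Agent.H831.DCode Cfsg.Agent.H831.DGrp Cfsg.Agent.H831.DDick
  Cfsg.Agent.H831.DFix Module

section ring

variable {R : Type*} [Ring R]

theorem sum_mul (f : R) (q m : ℕ) : ∑ i ∈ Finset.range (q * m), f ^ i =
    (∑ j ∈ Finset.range q, f ^ j) * ∑ k ∈ Finset.range m, (f ^ q) ^ k := by
  induction m with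
  | zero => simp
  | succ m ih =>
    have h : ∑ j ∈ Finset.range q, f ^ (q * m + j) = (∑ j ∈ Finset.range q, f ^ j) * (f ^ q) ^ m := by
      rw [Finset.sum_mul]
      refine Finset.sum_congr rfl fun j _ => ?_
      rw [← pow_mul, ← pow_add, Nat.add_comm]
    rw [Nat.mul_succ, Finset.sum_range_add, ih, h, Finset.sum_range_succ (fun k => (f ^ q) ^ k) m, mul_add]

theorem pow_add_one (h2 : ∀ r : R, r + r = 0) (f : R) (a : ℕ) : (f + 1) ^ 2 ^ a = f ^ 2 ^ a + 1 := by
  induction a with
  | zero => simp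
  | succ a ih =>
    have e : (2 : ℕ) ^ (a + 1) = 2 ^ a + 2 ^ a := by ring
    rw [e, pow_add, ih, add_mul, mul_add, ← pow_add, one_mul, mul_one]
    have := h2 (f ^ 2 ^ a)
    calc f ^ (2 ^ a + 2 ^ a) + f ^ 2 ^ a + (f ^ 2 ^ a + 1) =
        f ^ (2 ^ a + 2 ^ a) + (f ^ 2 ^ a + f ^ 2 ^ a) + 1 := by abel
      _ = _ := by rw [this, add_zero]

theorem sum_two_pow (h2 : ∀ r : R, r + r = 0) (f : R) (a : ℕ) :
    ∑ i ∈ Finset.range (2 ^ a), f ^ i = (f + 1) ^ (2 ^ a - 1) := by
  induction a with
  | zero => simp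
  | succ a ih =>
    have e : (2 : ℕ) ^ (a + 1) = 2 ^ a * 2 := by ring
    rw [e, sum_mul, ih]
    have h3 : ∑ k ∈ Finset.range 2, (f ^ 2 ^ a) ^ k = (f + 1) ^ 2 ^ a := by
      rw [pow_add_one h2, Finset.sum_range_succ, Finset.sum_range_one, pow_zero, pow_one, add_comm]
    rw [h3, ← pow_add]
    congr 1
    have : 0 < 2 ^ a := by positivity
    omega

end ring

/-- the endomorphism -/
def fe (x : GG) : Module.End F8 V := (le x).toLinearMap

theorem fe_mul (x y : GG) : fe (x * y) = fe x * fe y := by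
  refine LinearMap.ext fun v => ?_
  exact DFunLike.congr_fun (le_mul x y) v

theorem fe_one : fe 1 = 1 := by
  refine LinearMap.ext fun v => ?_
  exact le_one v

theorem fe_pow (x : GG) (k : ℕ) : fe (x ^ k) = fe x ^ k := by
  induction k with
  | zero => rw [pow_zero, pow_zero, fe_one]
  | succ k ih => rw [pow_succ, fe_mul, ih, pow_succ]

theorem add_self_end (r : Module.End F8 V) : r + r = 0 := by
  refine LinearMap.ext fun v => ?_
  funext i
  exact add_self8 _

theorem ker_fe (x : GG) : LinearMap.ker (fe x + 1) = fix (le x) := by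
  ext v
  rw [LinearMap.mem_ker, mem_fix']
  show le x v + v = 0 ↔ le x v = v
  constructor
  · intro h
    have h1 : v + v = 0 := by funext i; exact add_self8 _
    calc le x v = le x v + (v + v) := by rw [h1, add_zero]
      _ = (le x v + v) + v := by abel
      _ = v := by rw [h, zero_add]
  · intro h
    rw [h]; funext i; exact add_self8 _

/-- the sum of the powers -/
def Ns (x : GG) (n : ℕ) (v : V) : V := ∑ i ∈ Finset.range n, le (x ^ i) v

theorem Ns_eq (x : GG) (n : ℕ) (v : V) : Ns x n v = (∑ i ∈ Finset.range n, fe x ^ i) v := by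
  rw [Ns, LinearMap.sum_apply]
  refine Finset.sum_congr rfl fun i _ => ?_
  rw [← fe_pow]; rfl

/-- a nonzero sum of powers gives a large Jordan block -/
theorem jord {x : GG} {a m : ℕ} (h1 : x ^ (2 ^ a * m) = 1) (v : V) (hv : Ns x (2 ^ a * m) v ≠ 0)
    (hev : Even (D x)) : 2 ^ a + 1 ≤ D (x ^ 2 ^ a) := by
  set f : Module.End F8 V := fe x with hf
  set w := (∑ k ∈ Finset.range m, (f ^ 2 ^ a) ^ k) v with hw
  have h2 : ((f + 1) ^ (2 ^ a - 1) : Module.End F8 V) w ≠ 0 := by
    rw [Ns_eq, sum_mul, sum_two_pow add_self_end] at hv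
    exact hv
  have h3 : ((f + 1) ^ (2 ^ a) : Module.End F8 V) w = 0 := by
    rw [pow_add_one add_self_end, hw]
    have e : (f ^ 2 ^ a + 1) * (∑ k ∈ Finset.range m, (f ^ 2 ^ a) ^ k) = 0 := by
      have h4 := mul_geom_sum (f ^ 2 ^ a) m
      rw [← pow_mul, hf, ← fe_pow x (2 ^ a * m), h1, fe_one, sub_self] at h4
      have h5 : fe x ^ 2 ^ a - 1 = fe x ^ 2 ^ a + 1 := by
        have h6 : (-1 : Module.End F8 V) = 1 := neg_eq_of_add_eq_zero_left (add_self_end 1)
        rw [sub_eq_add_neg, h6]
      rw [h5] at h4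
      exact h4
    have := LinearMap.congr_fun e v
    exact this
  have hpos : 0 < 2 ^ a := by positivity
  have key : ∀ k, 1 ≤ k → k ≤ 2 ^ a → k + 1 ≤ finrank F8 (LinearMap.ker ((f + 1) ^ k)) := by
    intro k hk
    induction k, hk using Nat.le_induction with
    | base =>
      intro _
      rw [pow_one, ker_fe]
      change 1 + 1 ≤ D x
      have h4 : D x ≠ 0 := by
        intro h0
        have h5 : fix (le x) = ⊥ := Submodule.finrank_eq_zero.1 h0
        have h6 : ((f + 1) ^ (2 ^ a - 1) : Module.End F8 V) w ∈ fix (le x) := by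
          rw [← ker_fe, LinearMap.mem_ker]
          have : ((f + 1) * (f + 1) ^ (2 ^ a - 1) : Module.End F8 V) w = 0 := by
            rw [← pow_succ', Nat.sub_add_cancel hpos]; exact h3
          exact this
        rw [h5, Submodule.mem_bot] at h6
        exact h2 h6
      rw [Nat.even_iff] at hev
      omega
    | succ k hk ih =>
      intro hk2
      have h4 := ih (by omega)
      have h5 : LinearMap.ker ((f + 1) ^ k) < LinearMap.ker ((f + 1) ^ (k + 1)) := by
        refine lt_of_le_of_ne ?_ ?_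
        · intro u hu
          rw [LinearMap.mem_ker] at hu ⊢
          rw [pow_succ', Module.End.mul_apply, hu, map_zero]
        · intro he
          have h6 : ((f + 1) ^ (2 ^ a - 1 - k) : Module.End F8 V) w ∈ LinearMap.ker ((f + 1) ^ (k + 1)) := by
            rw [LinearMap.mem_ker, ← Module.End.mul_apply, ← pow_add]
            have e : k + 1 + (2 ^ a - 1 - k) = 2 ^ a := by omega
            rw [e]; exact h3
          rw [← he, LinearMap.mem_ker, ← Module.End.mul_apply, ← pow_add] at h6
          have e : k + (2 ^ a - 1 - k) = 2 ^ a - 1 := by omega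
          rw [e] at h6
          exact h2 h6
      have := Submodule.finrank_lt_finrank_of_lt h5
      omega
  have h7 := key (2 ^ a) (by omega) le_rfl
  rw [pow_add_one add_self_end, hf, ← fe_pow, ker_fe] at h7
  exact h7

end Cfsg.Agent.H831.DJord
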