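import Cfsg.Agent.H831.DFact

set_option autoImplicit false

/-! Split extensions of powers of the natural module by `Gam` have the element orders of `Gam`. -/

namespace Cfsg.Agent.H831.DSpec

open Cfsg.Agent.TypeD4Two Cfsg.Agent.H831.DCode Cfsg.Agent.H831.DGrp Cfsg.Agent.H831.DDick
  Cfsg.Agent.H831.DFix Cfsg.Agent.H831.DJord Cfsg.Agent.H831.DWord Cfsg.Agent.H831.DDiag Cfsg.Agent.H831.DSyl
  Cfsg.Agent.H831.DFact Module

theorem D_le_eight (x : GG) : D x ≤ 8 := by
  have := Submodule.finrank_le (fix (le x))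
  rwa [finrank_V] at this

theorem orderOf_dvd_card {x : GG} (hx : x ∈ Gam) : orderOf x ∣ 211341312 := by
  rw [← card_gam, ← Subgroup.orderOf_mk x hx]
  exact orderOf_dvd_natCard _

/-- an element of order `k` among the powers -/
theorem pow_order {h : GG} {k : ℕ} (hk : k ∣ orderOf h) (h0 : orderOf h ≠ 0) (hk0 : k ≠ 0) :
    orderOf (h ^ (orderOf h / k)) = k := by
  have h1 : orderOf h / k ∣ orderOf h := Nat.div_dvd_of_dvd hk
  rw [orderOf_pow_of_dvd (Nat.div_pos (Nat.le_of_dvd (Nat.pos_of_ne_zero h0) hk) (Nat.pos_of_ne_zero hk0)).ne' h1,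
    Nat.div_div_self hk h0]

theorem exists_pow {h : GG} {k : ℕ} (hk : k ∣ orderOf h) (h0 : orderOf h ≠ 0) (hk0 : k ≠ 0) :
    ∃ i, orderOf (h ^ i) = k ∧ (h ^ i) ^ k = 1 := by
  refine ⟨_, pow_order hk h0 hk0, ?_⟩
  have := pow_orderOf_eq_one (h ^ (orderOf h / k))
  rwa [pow_order hk h0 hk0] at this

theorem dvd_cases {m : ℕ} (h : m ∣ 51597) (h9 : ¬ 9 ∣ m) (h13 : ¬ 13 ∣ m) (h49 : ¬ 49 ∣ m) (h21 : ¬ 21 ∣ m) :
    m = 1 ∨ m = 3 ∨ m = 7 := by
  have e : (51597 : ℕ) = 3 ^ 4 * (7 ^ 2 * 13) := by norm_num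
  rw [e] at h
  obtain ⟨a, b, ha, hb, rfl⟩ := (Nat.dvd_mul).1 h
  obtain ⟨c, f, hc, hf, rfl⟩ := (Nat.dvd_mul).1 hb
  obtain ⟨i, hi, rfl⟩ := (Nat.dvd_prime_pow (by norm_num : Nat.Prime 3)).1 ha
  obtain ⟨j, hj, rfl⟩ := (Nat.dvd_prime_pow (by norm_num : Nat.Prime 7)).1 hc
  rcases (Nat.dvd_prime (by norm_num : Nat.Prime 13)).1 hf with rfl | rfl
  · interval_cases i <;> interval_cases j <;> simp_all
  · exact absurd ⟨3 ^ i * 7 ^ j, by ring⟩ h13

/-- the orders of the elements with a nonzero sum of powers -/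
theorem order_cases {x : GG} (hx : x ∈ Gam) (v : V) (hv : Ns x (orderOf x) v ≠ 0) :
    orderOf x = 1 ∨ orderOf x = 2 ∨ orderOf x = 3 ∨ orderOf x = 4 ∨ orderOf x = 6 ∨ orderOf x = 7 := by
  have hd := orderOf_dvd_card hx
  have h0 : orderOf x ≠ 0 := by
    intro h; rw [h] at hd; revert hd; norm_num
  obtain ⟨a, m, hm, hn⟩ := Nat.exists_eq_two_pow_mul_odd h0
  have h1 : x ^ (2 ^ a * m) = 1 := by rw [← hn]; exact pow_orderOf_eq_one x
  rw [hn] at hv
  have h2 := jord h1 v hv (even_D_gam hx)
  set h := x ^ 2 ^ a with hh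
  have hhG : h ∈ Gam := Subgroup.pow_mem _ hx _
  have hpos : 0 < 2 ^ a := by positivity
  have hoh : orderOf h = m := by
    rw [hh, orderOf_pow_of_dvd hpos.ne' ⟨m, hn⟩, hn, Nat.mul_div_cancel_left _ hpos]
  have hm0 : orderOf h ≠ 0 := by
    rw [hoh]; rintro rfl; rw [hn] at h0; exact h0 (Nat.mul_zero _)
  have hD : ∀ k : ℕ, D h ≤ D (h ^ k) := fun k => D_le_pow h k
  -- the odd part divides the odd part of the order
  have hmd : m ∣ 51597 := by
    have h3 : m ∣ 2 ^ 12 * 51597 := by
      have : m ∣ orderOf x := ⟨2 ^ a, by rw [hn, Nat.mul_comm]⟩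
      refine (this.trans hd).trans ?_
      norm_num
    exact (Nat.Coprime.pow_right 12 hm.coprime_two_right).dvd_of_dvd_mul_left h3
  have hne : ∀ {y : GG} {k : ℕ}, orderOf y = k → k ≠ 1 → y ≠ 1 := by
    intro y k hy hk h6
    rw [h6, orderOf_one] at hy
    exact hk hy.symm
  have h13 : ¬ 13 ∣ m := by
    intro h3
    rw [← hoh] at h3
    obtain ⟨i, h4, h5⟩ := exists_pow h3 hm0 (by norm_num)
    have h6 := fact13 (Subgroup.pow_mem _ hhG i) (j := 1) h5 (hne h4 (by norm_num))
    have := hD i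
    omega
  have h9 : ¬ 9 ∣ m := by
    intro h3
    rw [← hoh] at h3
    obtain ⟨i, h4, h5⟩ := exists_pow h3 hm0 (by norm_num)
    have h6 := fact3 (Subgroup.pow_mem _ hhG i) (j := 2) h5
    have := hD i
    rcases h6 with h6 | ⟨h6, -⟩ | h6
    · exact hne h4 (by norm_num) h6
    · have h7 := orderOf_dvd_of_pow_eq_one h6
      rw [h4] at h7
      norm_num at h7
    · omega
  have h49 : ¬ 49 ∣ m := by
    intro h3
    rw [← hoh] at h3
    obtain ⟨i, h4, h5⟩ := exists_pow h3 hm0 (by norm_num)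
    have h6 := (fact7 (Subgroup.pow_mem _ hhG i) (j := 2) h5 (hne h4 (by norm_num))).1
    have h7 := orderOf_dvd_of_pow_eq_one h6
    rw [h4] at h7
    norm_num at h7
  have h3le : ∀ i, orderOf (h ^ i) = 3 → D (h ^ i) ≤ 4 := by
    intro i hi
    have h5 : (h ^ i) ^ 3 ^ 1 = 1 := by
      rw [pow_one, ← hi]; exact pow_orderOf_eq_one _
    rcases fact3 (Subgroup.pow_mem _ hhG i) h5 with h6 | ⟨-, h6⟩ | h6
    · exact absurd h6 (hne hi (by norm_num))
    · exact h6
    · omega
  have h21 : ¬ 21 ∣ m := by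
    intro h3
    rw [← hoh] at h3
    obtain ⟨i, h4, h5⟩ := exists_pow ((by norm_num : 7 ∣ 21).trans h3) hm0 (by norm_num)
    obtain ⟨j, h6, h7⟩ := exists_pow ((by norm_num : 3 ∣ 21).trans h3) hm0 (by norm_num)
    have h8 := h3le j h6
    rcases (fact7 (Subgroup.pow_mem _ hhG i) (j := 1) h5 (hne h4 (by norm_num))).2 with h9 | ⟨-, h9⟩
    · have := hD i
      omega
    · have := h9 (h ^ j) (by rw [← pow_add, ← pow_add, Nat.add_comm]) h7
      omega
  rcases dvd_cases hmd h9 h13 h49 h21 with rfl | rfl | rfl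
  · have h3 := D_le_eight h
    have h4 : a < 3 := by
      by_contra h5
      have := Nat.pow_le_pow_right (by norm_num : 0 < 2) (not_lt.1 h5)
      omega
    interval_cases a <;> simp_all
  · have h3 := h3le 1 (by rw [pow_one]; exact hoh)
    rw [pow_one] at h3
    have h4 : a < 2 := by
      by_contra h5
      have := Nat.pow_le_pow_right (by norm_num : 0 < 2) (not_lt.1 h5)
      omega
    interval_cases a <;> simp_all
  · have h3 := (fact7 hhG (j := 1) (by rw [pow_one, ← hoh]; exact pow_orderOf_eq_one _) (hne hoh (by norm_num))).2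
    have h4 : a < 1 := by
      by_contra h5
      have := Nat.pow_le_pow_right (by norm_num : 0 < 2) (not_lt.1 h5)
      rcases h3 with h3 | ⟨h3, -⟩ <;> omega
    interval_cases a
    simp_all

/-! ### elements of some orders -/

/-- `e t` has order 8 -/
theorem order_et : orderOf (wd [2, 5]) = 8 := by
  have h := orderOf_eq_prime_pow (x := wd [2, 5]) (p := 2) (n := 2)
    (((cd_wd [2, 5]).pow _).ne_of cd_one (by decide +kernel) (by decide +kernel) (by decide +kernel))
    (((cd_wd [2, 5]).pow _).eq_of cd_one (by decide +kernel))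
  rw [h]; norm_num

theorem order_ena : orderOf (wd [2, 3, 4]) = 12 := by
  apply orderOf_eq_of_pow_and_pow_div_prime (by norm_num)
  · exact ((cd_wd [2, 3, 4]).pow _).eq_of cd_one (by decide +kernel)
  · intro p hp hpd
    have h : p = 2 ∨ p = 3 := by
      have h1 : p ∣ 2 ^ 2 * 3 := by norm_num; exact hpd
      rcases (Nat.Prime.dvd_mul hp).1 h1 with h2 | h2
      · left; exact (Nat.prime_dvd_prime_iff_eq hp Nat.prime_two).1 (hp.dvd_of_dvd_pow h2)
      · right; exact (Nat.prime_dvd_prime_iff_eq hp Nat.prime_three).1 h2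
    rcases h with rfl | rfl
    · exact ((cd_wd [2, 3, 4]).pow 6).ne_of cd_one (by decide +kernel) (by decide +kernel) (by decide +kernel)
    · exact ((cd_wd [2, 3, 4]).pow 4).ne_of cd_one (by decide +kernel) (by decide +kernel) (by decide +kernel)

theorem order_da : orderOf (wd [0, 4]) = 14 := by
  apply orderOf_eq_of_pow_and_pow_div_prime (by norm_num)
  · exact ((cd_wd [0, 4]).pow _).eq_of cd_one (by decide +kernel)
  · intro p hp hpd
    have h : p = 2 ∨ p = 7 := by
      have h1 : p ∣ 2 * 7 := hpd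
      rcases (Nat.Prime.dvd_mul hp).1 h1 with h2 | h2
      · left; exact (Nat.prime_dvd_prime_iff_eq hp Nat.prime_two).1 h2
      · right; exact (Nat.prime_dvd_prime_iff_eq hp (by norm_num)).1 h2
    rcases h with rfl | rfl
    · exact ((cd_wd [0, 4]).pow 7).ne_of cd_one (by decide +kernel) (by decide +kernel) (by decide +kernel)
    · exact ((cd_wd [0, 4]).pow 2).ne_of cd_one (by decide +kernel) (by decide +kernel) (by decide +kernel)

theorem exists_order {n : ℕ} (h : n = 1 ∨ n = 2 ∨ n = 3 ∨ n = 4 ∨ n = 6 ∨ n = 7) :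
    ∃ y ∈ Gam, orderOf y = 2 * n := by
  have h8 : ∀ k, k ∣ 8 → k ≠ 0 → ∃ y ∈ Gam, orderOf y = k := by
    intro k hk hk0
    obtain ⟨i, hi, -⟩ := exists_pow (h := wd [2, 5]) (k := k) (by rw [order_et]; exact hk)
      (by rw [order_et]; norm_num) hk0
    exact ⟨_, Subgroup.pow_mem _ (wd_mem _) _, hi⟩
  have h12 : ∀ k, k ∣ 12 → k ≠ 0 → ∃ y ∈ Gam, orderOf y = k := by
    intro k hk hk0
    obtain ⟨i, hi, -⟩ := exists_pow (h := wd [2, 3, 4]) (k := k) (by rw [order_ena]; exact hk)
      (by rw [order_ena]; norm_num) hk0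
    exact ⟨_, Subgroup.pow_mem _ (wd_mem _) _, hi⟩
  rcases h with rfl | rfl | rfl | rfl | rfl | rfl
  · exact h8 _ (by norm_num) (by norm_num)
  · exact h8 _ (by norm_num) (by norm_num)
  · exact h12 _ (by norm_num) (by norm_num)
  · exact h8 _ (by norm_num) (by norm_num)
  · exact h12 _ (by norm_num) (by norm_num)
  · exact ⟨_, wd_mem _, order_da⟩

/-! ### the split extensions -/

/-- the action of `Gam` on a power of the natural module -/
def act (k : ℕ) : Gam →* MulAut (Multiplicative (Fin k → V)) where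
  toFun x := AddEquiv.toMultiplicative
    { toFun := fun v i => le x.1 (v i)
      invFun := fun v i => (le x.1).symm (v i)
      left_inv := fun v => by funext i; exact (le x.1).symm_apply_apply _
      right_inv := fun v => by funext i; exact (le x.1).apply_symm_apply _
      map_add' := fun u v => by funext i; exact (le x.1).map_add _ _ }
  map_one' := by
    ext v i : 3
    exact le_one _
  map_mul' := by
    intro x y
    ext v i : 3
    exact le_mul_apply _ _ _

/-- the split extension -/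
abbrev Ext (k : ℕ) : Type := Multiplicative (Fin k → V) ⋊[act k] Gam

theorem pow_left (k : ℕ) (h : Ext k) (n : ℕ) :
    (h ^ n).left = Multiplicative.ofAdd (fun i => Ns h.right.1 n (Multiplicative.toAdd h.left i)) := by
  induction n with
  | zero =>
    rw [pow_zero, SemidirectProduct.one_left]
    apply Multiplicative.toAdd.injective
    funext i
    rw [toAdd_one, toAdd_ofAdd, Ns, Finset.sum_range_zero]; rfl
  | succ n ih =>
    rw [pow_succ, SemidirectProduct.mul_left, ih]
    apply Multiplicative.toAdd.injective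
    funext i
    have h1 : (h ^ n).right = h.right ^ n := map_pow (SemidirectProduct.rightHom (φ := act k)) h n
    rw [h1, toAdd_mul, toAdd_ofAdd, toAdd_ofAdd, Ns, Finset.sum_range_succ]
    rfl

theorem pow_right (k : ℕ) (h : Ext k) (n : ℕ) : (h ^ n).right = h.right ^ n :=
  map_pow (SemidirectProduct.rightHom (φ := act k)) h n

theorem order_ext (k : ℕ) (h : Ext k) : orderOf h = orderOf h.right ∨
    (orderOf h = 2 * orderOf h.right ∧ ∃ v : V, Ns h.right.1 (orderOf h.right.1) v ≠ 0) := by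
  have hco : orderOf h.right.1 = orderOf h.right := Subgroup.orderOf_coe _
  have hdvd : orderOf h.right ∣ orderOf h := orderOf_map_dvd (SemidirectProduct.rightHom (φ := act k)) h
  by_cases hv : ∃ v : V, Ns h.right.1 (orderOf h.right.1) v ≠ 0
  · have h1 : h ^ (2 * orderOf h.right) = 1 := by
      apply SemidirectProduct.ext
      · rw [Nat.mul_comm, pow_mul, pow_two, SemidirectProduct.mul_left, pow_right, pow_orderOf_eq_one, map_one,
          MulAut.one_apply, SemidirectProduct.one_left]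
        apply Multiplicative.toAdd.injective
        funext i j
        exact add_self8 _
      · rw [pow_right, Nat.mul_comm, pow_mul, pow_orderOf_eq_one, one_pow, SemidirectProduct.one_right]
    obtain ⟨c, hc⟩ := hdvd
    have h2 : orderOf h.right * c ∣ orderOf h.right * 2 := by
      rw [← hc, Nat.mul_comm _ 2]; exact orderOf_dvd_of_pow_eq_one h1
    have h3 : c ∣ 2 := Nat.dvd_of_mul_dvd_mul_left (orderOf_pos _) h2
    rcases (Nat.dvd_prime Nat.prime_two).1 h3 with rfl | rfl
    · left; rw [hc, mul_one]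
    · right; exact ⟨by rw [hc, Nat.mul_comm], hv⟩
  · left
    push Not at hv
    apply Nat.dvd_antisymm _ hdvd
    apply orderOf_dvd_of_pow_eq_one
    apply SemidirectProduct.ext
    · rw [pow_left, SemidirectProduct.one_left]
      apply Multiplicative.toAdd.injective
      funext i
      rw [toAdd_ofAdd, ← hco, hv]; rfl
    · rw [pow_right, pow_orderOf_eq_one, SemidirectProduct.one_right]

theorem range_eq (k : ℕ) : Set.range (orderOf : Ext k → ℕ) = Set.range (orderOf : Gam → ℕ) := by
  apply Set.Subset.antisymm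
  · rintro _ ⟨h, rfl⟩
    rcases order_ext k h with h1 | ⟨h1, v, hv⟩
    · exact ⟨h.right, h1.symm⟩
    · have h2 := order_cases h.right.2 v hv
      obtain ⟨y, hy, hyo⟩ := exists_order h2
      refine ⟨⟨y, hy⟩, ?_⟩
      rw [h1, Subgroup.orderOf_mk, hyo, Subgroup.orderOf_coe]
  · rintro _ ⟨x, rfl⟩
    exact ⟨SemidirectProduct.inr x, orderOf_injective SemidirectProduct.inr SemidirectProduct.inr_injective x⟩

theorem finite_ext (k : ℕ) : Finite (Ext k) := by
  have : Finite (Multiplicative (Fin k → V) × Gam) := by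
    have : Finite (Multiplicative (Fin k → V)) := inferInstanceAs (Finite (Fin k → V))
    infer_instance
  exact Finite.of_equiv _ (SemidirectProduct.equivProd (φ := act k)).symm

theorem card_ext (k : ℕ) : k < Nat.card (Ext k) := by
  rw [Nat.card_congr (SemidirectProduct.equivProd (φ := act k)), Nat.card_prod, card_gam]
  have h1 : Nat.card (Multiplicative (Fin k → V)) = (8 ^ 8) ^ k := by
    have : Nat.card (Multiplicative (Fin k → V)) = Nat.card (Fin k → V) := rfl
    rw [this, Nat.card_fun, Nat.card_fun, Nat.card_eq_fintype_card (α := F8), F8.card_F8, Nat.card_fin, Nat.card_fin]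
  rw [h1]
  have h2 : k < (8 ^ 8) ^ k := Nat.lt_pow_self (by norm_num)
  calc k < (8 ^ 8) ^ k := h2
    _ ≤ (8 ^ 8) ^ k * 211341312 := Nat.le_mul_of_pos_right _ (by norm_num)

end Cfsg.Agent.H831.DSpec
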