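import Cfsg.Agent.H831.DJord

set_option autoImplicit false

/-! Words in the generators, subgroups given by lists of codes, bounds for fixed spaces. -/

namespace Cfsg.Agent.H831.DWord

open Cfsg.Agent.TypeD4Two Cfsg.Agent.H831.DCode Cfsg.Agent.H831.DGrp Cfsg.Agent.H831.DDick
  Cfsg.Agent.H831.DFix Module

theorem Cd.congr {x : GG} {c c' : ℕ × ℕ} (h : Cd x c) (h1 : c.1 = c'.1) (h2 : c.2 = c'.2) : Cd x c' :=
  ⟨by rw [h.f, h1], by rw [h.b, h2]⟩

/-- the letters -/
def lw : ℕ → GG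
  | 0 => gd
  | 1 => gd⁻¹
  | 2 => ge
  | 3 => gn
  | 4 => ga
  | _ => gt

/-- codes of the letters -/
def lc : ℕ → ℕ × ℕ
  | 0 => dN
  | 1 => invP dN
  | 2 => eN
  | 3 => nN
  | 4 => aN
  | _ => tN

/-- words -/
def wd : List ℕ → GG
  | [] => 1
  | i :: w => lw i * wd w

/-- codes of words -/
def wc : List ℕ → ℕ × ℕ
  | [] => oneP
  | i :: w => mulP (lc i) (wc w)

theorem cd_lw (i : ℕ) : Cd (lw i) (lc i) := by
  rcases i with _ | _ | _ | _ | _ | i
  exacts [cd_d, cd_d.inv, cd_e, cd_n, cd_a, cd_t]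

theorem cd_wd (w : List ℕ) : Cd (wd w) (wc w) := by
  induction w with
  | nil => exact cd_one
  | cons i w ih => exact (cd_lw i).mul ih

theorem lw_mem (i : ℕ) : lw i ∈ Gam := by
  have h : ∀ x ∈ ({gd, ge, gn, ga, gt} : Set GG), x ∈ Gam := fun x hx => Subgroup.subset_closure hx
  rcases i with _ | _ | _ | _ | _ | i
  exacts [h gd (by simp), Subgroup.inv_mem _ (h gd (by simp)), h ge (by simp), h gn (by simp), h ga (by simp),
    h gt (by simp)]

theorem wd_mem (w : List ℕ) : wd w ∈ Gam := by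
  induction w with
  | nil => exact Subgroup.one_mem _
  | cons i w ih => exact Subgroup.mul_mem _ (lw_mem i) ih

/-- codes of normal forms -/
def nfc (c1 c2 c3 : ℕ × ℕ) (n2 n3 idx : ℕ) : ℕ × ℕ :=
  mulP (mulP (powP c1 (idx / n3 / n2)) (powP c2 (idx / n3 % n2))) (powP c3 (idx % n3))

/-- a subgroup given by normal forms and a list of codes -/
structure Grid (c1 c2 c3 : ℕ × ℕ) (n1 n2 n3 : ℕ) (L : List ℕ) : Prop where
  nf : ∀ idx < n1 * n2 * n3, Nat.beq (nfc c1 c2 c3 n2 n3 idx).1 (L.getD idx 0) = true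
  len : L.length = n1 * n2 * n3
  cl : ∀ c ∈ L, mulR 8 8 8 c c1.1 ∈ L ∧ mulR 8 8 8 c c2.1 ∈ L ∧ mulR 8 8 8 c c3.1 ∈ L
  nodup : L.Nodup
  bd : ∀ c ∈ L, c < 8 ^ 64
  one : oneN ∈ L

section grid

variable {q1 q2 q3 : GG} {c1 c2 c3 : ℕ × ℕ} {n1 n2 n3 : ℕ} {L : List ℕ}

theorem cd_nf (h1 : Cd q1 c1) (h2 : Cd q2 c2) (h3 : Cd q3 c3) (idx : ℕ) :
    Cd (q1 ^ (idx / n3 / n2) * q2 ^ (idx / n3 % n2) * q3 ^ (idx % n3)) (nfc c1 c2 c3 n2 n3 idx) :=
  ((h1.pow _).mul (h2.pow _)).mul (h3.pow _)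

/-- the set of elements with a code in the list -/
def LS (L : List ℕ) : Set GG := {x | ∃ c ∈ L, (x : Matrix (Fin 8) (Fin 8) F8) = mt 8 8 c}

theorem nf_of_mem (h1 : Cd q1 c1) (h2 : Cd q2 c2) (h3 : Cd q3 c3) (hG : Grid c1 c2 c3 n1 n2 n3 L) {x : GG}
    (hx : x ∈ LS L) : ∃ idx < n1 * n2 * n3, x = q1 ^ (idx / n3 / n2) * q2 ^ (idx / n3 % n2) * q3 ^ (idx % n3) := by
  obtain ⟨c, hc, hxc⟩ := hx
  obtain ⟨idx, hidx, hci⟩ := List.getElem_of_mem hc
  rw [hG.len] at hidx
  refine ⟨idx, hidx, ?_⟩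
  have h4 := Nat.eq_of_beq_eq_true (hG.nf idx hidx)
  apply Units.ext
  rw [hxc, (cd_nf h1 h2 h3 idx).f, h4, ← hci]
  rw [List.getD_eq_getElem]

theorem mul_mem_LS {c : ℕ × ℕ} {q : GG} (hq : Cd q c) (hcl : ∀ b ∈ L, mulR 8 8 8 b c.1 ∈ L) {x : GG}
    (hx : x ∈ LS L) : x * q ∈ LS L := by
  obtain ⟨b, hb, hxb⟩ := hx
  exact ⟨_, hcl b hb, by rw [Units.val_mul, hxb, hq.f, mt_mulR]⟩

theorem finite_GG : Finite GG := inferInstance

theorem closure_eq (h1 : Cd q1 c1) (h2 : Cd q2 c2) (h3 : Cd q3 c3) (hG : Grid c1 c2 c3 n1 n2 n3 L) :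
    ((Subgroup.closure ({q1, q2, q3} : Set GG) : Subgroup GG) : Set GG) = LS L := by
  have h4 : ∀ x ∈ Subgroup.closure ({q1, q2, q3} : Set GG), ∀ t ∈ LS L, t * x ∈ LS L := by
    intro x hx
    induction hx using Subgroup.closure_induction with
    | mem x hx =>
      intro t ht
      rcases hx with rfl | rfl | rfl
      · exact mul_mem_LS h1 (fun b hb => (hG.cl b hb).1) ht
      · exact mul_mem_LS h2 (fun b hb => (hG.cl b hb).2.1) ht
      · exact mul_mem_LS h3 (fun b hb => (hG.cl b hb).2.2) ht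
    | one => intro t ht; rw [mul_one]; exact ht
    | mul x y _ _ hx hy => intro t ht; rw [← mul_assoc]; exact hy _ (hx t ht)
    | inv x _ hx =>
      intro t ht
      let F : LS L → LS L := fun t => ⟨t.1 * x, hx t.1 t.2⟩
      have hinj : Function.Injective F := by
        intro a b hab
        apply Subtype.ext
        exact mul_right_cancel (congrArg Subtype.val hab)
      have hfin : Finite (LS L) := Subtype.finite
      obtain ⟨s, hs⟩ := (Finite.injective_iff_surjective.1 hinj) ⟨t, ht⟩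
      have hs' : s.1 * x = t := congrArg Subtype.val hs
      rw [← hs', mul_inv_cancel_right]
      exact s.2
  apply Set.Subset.antisymm
  · intro x hx
    have := h4 x hx 1 ⟨oneN, hG.one, by rw [Units.val_one, mt_one]⟩
    rwa [one_mul] at this
  · intro x hx
    obtain ⟨idx, -, rfl⟩ := nf_of_mem h1 h2 h3 hG hx
    have h5 : ∀ y ∈ ({q1, q2, q3} : Set GG), y ∈ Subgroup.closure ({q1, q2, q3} : Set GG) := fun y hy =>
      Subgroup.subset_closure hy
    exact Subgroup.mul_mem _ (Subgroup.mul_mem _ (Subgroup.pow_mem _ (h5 _ (by simp)) _)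
      (Subgroup.pow_mem _ (h5 _ (by simp)) _)) (Subgroup.pow_mem _ (h5 _ (by simp)) _)

theorem card_LS (h1 : Cd q1 c1) (h2 : Cd q2 c2) (h3 : Cd q3 c3) (hG : Grid c1 c2 c3 n1 n2 n3 L) :
    Nat.card (LS L) = n1 * n2 * n3 := by
  have hm : ∀ idx : Fin (n1 * n2 * n3), q1 ^ (idx.1 / n3 / n2) * q2 ^ (idx.1 / n3 % n2) * q3 ^ (idx.1 % n3) ∈
      LS L := by
    intro idx
    have h4 := Nat.eq_of_beq_eq_true (hG.nf idx.1 idx.2)
    refine ⟨_, ?_, (cd_nf h1 h2 h3 idx.1).f⟩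
    rw [h4, List.getD_eq_getElem _ _ (by rw [hG.len]; exact idx.2)]
    exact List.getElem_mem _
  let F : Fin (n1 * n2 * n3) → LS L := fun idx => ⟨_, hm idx⟩
  have hF : Function.Bijective F := by
    constructor
    · intro a b hab
      have h5 := congrArg Subtype.val hab
      change q1 ^ (a.1 / n3 / n2) * q2 ^ (a.1 / n3 % n2) * q3 ^ (a.1 % n3) =
        q1 ^ (b.1 / n3 / n2) * q2 ^ (b.1 / n3 % n2) * q3 ^ (b.1 % n3) at h5
      have ha : a.1 < L.length := by rw [hG.len]; exact a.2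
      have hb : b.1 < L.length := by rw [hG.len]; exact b.2
      have h6 : mt 8 8 (L[a.1]) = mt 8 8 (L[b.1]) := by
        have e1 := Nat.eq_of_beq_eq_true (hG.nf a.1 a.2)
        have e2 := Nat.eq_of_beq_eq_true (hG.nf b.1 b.2)
        rw [List.getD_eq_getElem _ _ ha] at e1
        rw [List.getD_eq_getElem _ _ hb] at e2
        rw [← e1, ← e2, ← (cd_nf h1 h2 h3 a.1).f, ← (cd_nf h1 h2 h3 b.1).f, h5]
      have h7 := mt_inj (hG.bd _ (List.getElem_mem _)) (hG.bd _ (List.getElem_mem _)) h6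
      exact Fin.ext ((hG.nodup.getElem_inj_iff).1 h7)
    · rintro ⟨x, hx⟩
      obtain ⟨idx, hi, rfl⟩ := nf_of_mem h1 h2 h3 hG hx
      exact ⟨⟨idx, hi⟩, rfl⟩
  rw [← Nat.card_congr (Equiv.ofBijective F hF), Nat.card_fin]

theorem card_closure (h1 : Cd q1 c1) (h2 : Cd q2 c2) (h3 : Cd q3 c3) (hG : Grid c1 c2 c3 n1 n2 n3 L) :
    Nat.card (Subgroup.closure ({q1, q2, q3} : Set GG)) = n1 * n2 * n3 := by
  rw [← card_LS h1 h2 h3 hG, ← closure_eq h1 h2 h3 hG]
  rfl

end grid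

/-! ### bounds for fixed spaces -/

theorem mt_xor (r s a b : ℕ) : mt r s (Nat.xor a b) = mt r s a + mt r s b := by
  ext i j
  show F8.ofN ((a ^^^ b) >>> (3 * (s * i.1 + j.1))) = _
  rw [Nat.shiftRight_xor_distrib]
  exact (ofN_add' _ _).symm

/-- code of the unit matrix of size `k` -/
def idN (k : ℕ) : ℕ := enc (fun p => if p / k = p % k then 1 else 0) (k * k) 0

theorem mt_idN (k : ℕ) : mt k k (idN k) = 1 := by
  ext i j
  have hi := i.2
  have hj := j.2
  have hp : k * i.1 + j.1 < k * k := by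
    have : k * i.1 + k ≤ k * k := by
      rw [← Nat.mul_succ]; exact Nat.mul_le_mul_left k hi
    omega
  have h1 := enc_digit (fun p => if p / k = p % k then 1 else 0) (k * k) 0 (k * i.1 + j.1) hp
  have h3 : (k * i.1 + j.1) / k = i.1 := by
    rw [Nat.mul_add_div (by omega), Nat.div_eq_of_lt hj, Nat.add_zero]
  have h4 : (k * i.1 + j.1) % k = j.1 := by
    rw [Nat.mul_add_mod, Nat.mod_eq_of_lt hj]
  rw [Nat.zero_add, h3, h4] at h1
  apply F8.ext'
  change Nat.shiftRight (idN k) (3 * (k * i.1 + j.1)) % 8 = _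
  rw [idN, h1, Matrix.one_apply]
  by_cases hij : i = j
  · rw [if_pos hij, if_pos (congrArg Fin.val hij)]; rfl
  · rw [if_neg hij, if_neg fun h => hij (Fin.ext h)]; rfl

/-- a certificate for the rank of `x - 1` -/
theorem D_le {x : GG} {n k l r : ℕ} (hx : (x : Matrix (Fin 8) (Fin 8) F8) = mt 8 8 n)
    (h : mulR k 8 k (mulR k 8 8 l (Nat.xor n oneN)) r = idN k) : D x + k ≤ 8 := by
  have h1 : mt k 8 l * (mt 8 8 n + 1) * mt 8 k r = 1 := by
    rw [← mt_one, ← mt_xor, ← mt_mulR, ← mt_mulR, h, mt_idN]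
  have h2 : Function.Injective (mt 8 k r).mulVecLin := by
    intro u v huv
    have h3 := congrArg (fun w => (mt k 8 l * (mt 8 8 n + 1)).mulVec w) huv
    simp only [Matrix.mulVecLin_apply, Matrix.mulVec_mulVec] at h3
    rw [h1, Matrix.one_mulVec, Matrix.one_mulVec] at h3
    exact h3
  have h4 : Disjoint (fix (le x)) (LinearMap.range (mt 8 k r).mulVecLin) := by
    rw [Submodule.disjoint_def]
    rintro _ hv ⟨u, rfl⟩
    rw [mem_fix', le_apply, hx, Matrix.mulVecLin_apply] at hv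
    have h5 : (mt 8 8 n + 1).mulVec ((mt 8 k r).mulVec u) = 0 := by
      rw [Matrix.add_mulVec, Matrix.one_mulVec, hv]
      funext i; exact add_self8 _
    have h6 : u = 0 := by
      have h7 := congrArg (fun w => (mt k 8 l).mulVec w) h5
      simp only [Matrix.mulVec_mulVec, Matrix.mulVec_zero] at h7
      rw [← Matrix.mul_assoc, h1, Matrix.one_mulVec] at h7
      exact h7
    rw [h6, map_zero]
  have h5 := Submodule.finrank_add_finrank_le_of_disjoint h4
  rw [LinearMap.finrank_range_of_inj h2, finrank_V, Module.finrank_fin_fun] at h5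
  exact h5

/-- fixed spaces of conjugates -/
theorem D_conj (g x : GG) : D (g * x * g⁻¹) = D x := by
  have h1 : fix (le (g * x * g⁻¹)) = (fix (le x)).map (le g).toLinearMap := by
    ext v
    rw [mem_fix', Submodule.mem_map]
    constructor
    · intro hv
      refine ⟨le g⁻¹ v, ?_, ?_⟩
      · rw [mem_fix']
        have := congrArg (le g⁻¹) hv
        rw [← le_mul_apply] at this
        have e : g⁻¹ * (g * x * g⁻¹) = x * g⁻¹ := by group
        rw [e, le_mul_apply] at this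
        exact this
      · show le g (le g⁻¹ v) = v
        rw [← le_mul_apply, mul_inv_cancel, le_one]
    · rintro ⟨u, hu, rfl⟩
      rw [mem_fix'] at hu
      show le (g * x * g⁻¹) (le g u) = le g u
      rw [← le_mul_apply, inv_mul_cancel_right, le_mul_apply, hu]
  rw [D, h1]
  exact LinearEquiv.finrank_map_eq (le g) _

/-- fixed spaces of powers -/
theorem D_le_pow (x : GG) (k : ℕ) : D x ≤ D (x ^ k) := by
  apply Submodule.finrank_mono
  intro v hv
  rw [mem_fix'] at hv ⊢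
  induction k with
  | zero => rw [pow_zero, le_one]
  | succ k ih => rw [pow_succ, le_mul_apply, hv, ih]

/-- `p`-elements of `Gam` are conjugate into a subgroup of the right order -/
theorem conj_mem {p : ℕ} [Fact p.Prime] {Q : Subgroup GG} (hQ : Q ≤ Gam) {k : ℕ} (hc : Nat.card Q = p ^ k)
    (hi : ∀ m, p ^ k * m = 211341312 → ¬ p ∣ m) {x : GG} (hx : x ∈ Gam) {j : ℕ} (hp : x ^ p ^ j = 1) :
    ∃ g ∈ Gam, g * x * g⁻¹ ∈ Q := by
  have hQc : Nat.card (Q.subgroupOf Gam) = p ^ k := by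
    rw [← hc]
    exact Nat.card_congr (Subgroup.subgroupOfEquivOfLe hQ).toEquiv
  have h1 : IsPGroup p (Q.subgroupOf Gam) := IsPGroup.of_card hQc
  have h2 : ¬ p ∣ (Q.subgroupOf Gam).index := by
    apply hi
    have := Subgroup.card_mul_index (Q.subgroupOf Gam)
    rw [card_gam, hQc] at this
    exact this
  let P := h1.toSylow h2
  have h3 : IsPGroup p (Subgroup.zpowers (⟨x, hx⟩ : Gam)) := by
    have : IsOfFinOrder (⟨x, hx⟩ : Gam) := isOfFinOrder_of_finite _
    apply IsPGroup.of_card (n := (orderOf (⟨x, hx⟩ : Gam)).factorization p)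
    rw [Nat.card_zpowers]
    have h4 : orderOf (⟨x, hx⟩ : Gam) ∣ p ^ j := orderOf_dvd_of_pow_eq_one (Subtype.ext hp)
    obtain ⟨i, -, h5⟩ := (Nat.dvd_prime_pow Fact.out).1 h4
    rw [h5, Nat.factorization_pow, Finsupp.smul_apply, (Fact.out : p.Prime).factorization_self, smul_eq_mul, mul_one]
  obtain ⟨S, hS⟩ := h3.exists_le_sylow
  obtain ⟨g, hg⟩ := MulAction.exists_smul_eq Gam S P
  refine ⟨g.1, g.2, ?_⟩
  have h6 : (⟨x, hx⟩ : Gam) ∈ S := hS (Subgroup.mem_zpowers _)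
  have h7 : g * ⟨x, hx⟩ * g⁻¹ ∈ P := by
    rw [← hg]
    exact Subgroup.smul_mem_pointwise_smul _ (MulAut.conj g) _ h6
  exact Subgroup.mem_subgroupOf.1 h7

end Cfsg.Agent.H831.DWord
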