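import Cfsg.Agent.H831.FineScalar

/-!
# Counting conjugacy classes (helper831, for S4881)
-/

set_option autoImplicit false

namespace Cfsg.Agent.H831.FineBase

universe u

open Cfsg.Agent.H698

theorem ncard_conjugatesOf {G : Type*} [Group G] (g : G) :
    (conjugatesOf g).ncard = (Subgroup.centralizer ({g} : Set G)).index := by
  rw [Subgroup.centralizer_eq_comap_stabilizer]
  refine Eq.symm ((Subgroup.index_comap_of_surjective (MulAction.stabilizer (ConjAct G) g)
    (f := (ConjAct.toConjAct (G := G)).toMonoidHom) (MulEquiv.surjective _)).trans ?_)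
  rw [MulAction.index_stabilizer, ConjAct.orbit_eq_carrier_conjClasses]
  rfl

theorem card_le_classes {G : Type*} [Group G] [Finite G] (s : Finset G)
    (h : ∀ a ∈ s, ∀ b ∈ s, IsConj a b → a = b) : s.card ≤ Nat.card (ConjClasses G) := by
  classical
  have : Fintype (ConjClasses G) := Fintype.ofFinite _
  rw [Nat.card_eq_fintype_card]
  rw [← Finset.card_image_of_injOn (f := ConjClasses.mk) (s := s)]
  · exact Finset.card_le_univ _
  · intro a ha b hb hab
    exact h a ha b hb (ConjClasses.mk_eq_mk_iff_isConj.1 hab)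

theorem orderOf_eq_of_isConj {G : Type*} [Group G] {a b : G} (h : IsConj a b) : orderOf a = orderOf b := by
  obtain ⟨c, rfl⟩ := isConj_iff.1 h
  exact (MulEquiv.orderOf_eq (MulAut.conj c) a).symm

theorem conj_injective {T : Type*} [Group T] (hc : Subgroup.center T = ⊥) :
    Function.Injective (MulAut.conj : T →* MulAut T) := by
  rw [injective_iff_map_eq_one]
  intro a ha
  have h1 : a ∈ Subgroup.center T := by
    rw [Subgroup.mem_center_iff]
    intro x
    have h2 : a * x * a⁻¹ = x := DFunLike.congr_fun ha x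
    calc x * a = (a * x * a⁻¹) * a := by rw [h2]
      _ = a * x := by group
  rwa [hc, Subgroup.mem_bot] at h1

theorem center_eq_bot {T : Type*} [Group T] [IsSimpleGroup T] (hna : ¬ IsMulCommutative T) :
    Subgroup.center T = ⊥ := by
  rcases (inferInstance : (Subgroup.center T).Normal).eq_bot_or_eq_top with h | h
  · exact h
  · exfalso
    apply hna
    refine ⟨⟨fun a b => ?_⟩⟩
    have : b ∈ Subgroup.center T := by rw [h]; trivial
    exact Subgroup.mem_center_iff.1 this a

/-- a system of elements of `X` with distinct orders, from inner automorphisms -/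
theorem exists_inner {T : Type u} [Group T] [Finite T] (hc : Subgroup.center T = ⊥) (L : Finset ℕ)
    (hL : ∀ n ∈ L, ∃ t : T, orderOf t = n) {X : Subgroup (MulAut T)}
    (hX : (MulAut.conj : T →* MulAut T).range ≤ X) :
    ∃ s : Finset X, s.card = L.card ∧ (∀ a ∈ s, (a : MulAut T) ∈ (MulAut.conj : T →* MulAut T).range) ∧
      ∀ a ∈ s, ∀ b ∈ s, IsConj a b → a = b := by
  classical
  choose f hf using hL
  have key : ∀ (n : ℕ) (hn : n ∈ L), orderOf (⟨MulAut.conj (f n hn), hX ⟨_, rfl⟩⟩ : X) = n := by
    intro n hn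
    rw [← Subgroup.orderOf_coe]
    change orderOf (MulAut.conj (f n hn)) = n
    rw [orderOf_injective _ (conj_injective hc), hf]
  refine ⟨L.attach.image fun n => (⟨MulAut.conj (f n.1 n.2), hX ⟨_, rfl⟩⟩ : X), ?_, ?_, ?_⟩
  · rw [Finset.card_image_of_injective, Finset.card_attach]
    intro a b hab
    apply Subtype.ext
    rw [← key a.1 a.2, ← key b.1 b.2]
    exact congrArg orderOf hab
  · intro a ha
    obtain ⟨n, -, rfl⟩ := Finset.mem_image.1 ha
    exact ⟨_, rfl⟩
  · intro a ha b hb hab
    obtain ⟨n, -, rfl⟩ := Finset.mem_image.1 ha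
    obtain ⟨m, -, rfl⟩ := Finset.mem_image.1 hb
    have h1 := orderOf_eq_of_isConj hab
    rw [key, key] at h1
    have h2 : n = m := Subtype.ext h1
    rw [h2]

theorem orders_le {T : Type u} [Group T] [Finite T] (hc : Subgroup.center T = ⊥) (L : Finset ℕ)
    (hL : ∀ n ∈ L, ∃ t : T, orderOf t = n) {X : Subgroup (MulAut T)}
    (hX : (MulAut.conj : T →* MulAut T).range ≤ X) : L.card ≤ Nat.card (ConjClasses X) := by
  obtain ⟨s, hs, -, h⟩ := exists_inner hc L hL hX
  rw [← hs]
  exact card_le_classes s h

/-- the centraliser of an involution of a group of order divisible by four has order at least three -/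
theorem two_lt_card_centralizer {G : Type*} [Group G] [Finite G] (h4 : 4 ∣ Nat.card G) {g : G} (hg : g ^ 2 = 1) :
    2 < Nat.card (Subgroup.centralizer ({g} : Set G)) := by
  have : Fact (Nat.Prime 2) := ⟨Nat.prime_two⟩
  have hp : IsPGroup 2 (Subgroup.zpowers g) := by
    rintro ⟨x, i, rfl⟩
    refine ⟨1, Subtype.ext ?_⟩
    change (g ^ i) ^ 2 ^ 1 = 1
    rw [pow_one, ← zpow_natCast, ← zpow_mul, mul_comm, zpow_mul, zpow_natCast, hg, one_zpow]
  obtain ⟨S, hS⟩ := hp.exists_le_sylow
  have hgS : g ∈ S := hS (Subgroup.mem_zpowers g)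
  have hS4 : 4 ≤ Nat.card S := by
    have h1 : 2 ^ 2 ∣ Nat.card S := S.pow_dvd_card_of_pow_dvd_card h4
    exact Nat.le_of_dvd Nat.card_pos h1
  have hnt : Nontrivial S := Finite.one_lt_card_iff_nontrivial.1 (by omega)
  have hZ := S.isPGroup'.center_nontrivial
  by_contra hle
  push Not at hle
  by_cases hgZ : (⟨g, hgS⟩ : S) ∈ Subgroup.center S
  · have h1 : (S : Subgroup G) ≤ Subgroup.centralizer ({g} : Set G) := by
      intro x hx
      rw [Subgroup.mem_centralizer_singleton_iff]
      exact congrArg Subtype.val (Subgroup.mem_center_iff.1 hgZ ⟨x, hx⟩)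
    have h2 := Subgroup.card_le_of_le h1
    change Nat.card S ≤ _ at h2
    omega
  · obtain ⟨⟨⟨z, hzS⟩, hz⟩, hz1⟩ := exists_ne (1 : Subgroup.center S)
    have hz1' : z ≠ 1 := by
      rintro rfl
      exact hz1 (Subtype.ext (Subtype.ext rfl))
    have hzg : z * g = g * z := (congrArg Subtype.val (Subgroup.mem_center_iff.1 hz ⟨g, hgS⟩)).symm
    have hg1 : g ≠ 1 := by
      rintro rfl
      exact hgZ (by
        rw [show (⟨1, hgS⟩ : S) = 1 from rfl]
        exact one_mem _)
    have hne : z ≠ g := by
      rintro rfl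
      exact hgZ hz
    classical
    have h1 : (({1, z, g} : Finset G) : Set G) ⊆ (Subgroup.centralizer ({g} : Set G) : Set G) := by
      intro x hx
      simp only [Finset.coe_insert, Finset.coe_singleton, Set.mem_insert_iff, Set.mem_singleton_iff] at hx
      rw [SetLike.mem_coe, Subgroup.mem_centralizer_singleton_iff]
      rcases hx with rfl | rfl | rfl
      · rw [one_mul, mul_one]
      · exact hzg
      · rfl
    have h2 := Set.ncard_le_ncard h1 (Set.toFinite _)
    rw [Set.ncard_coe_finset] at h2
    have h3 : ({1, z, g} : Finset G).card = 3 := by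
      rw [Finset.card_insert_of_notMem, Finset.card_insert_of_notMem, Finset.card_singleton]
      · simpa using hne
      · simp only [Finset.mem_insert, Finset.mem_singleton, not_or]
        exact ⟨fun h => hz1' h.symm, fun h => hg1 h.symm⟩
    have h4 : (Subgroup.centralizer ({g} : Set G) : Set G).ncard = Nat.card (Subgroup.centralizer ({g} : Set G)) := rfl
    omega

/-- the complement of a subgroup of index two is not a single class if four divides the order -/
theorem exists_outer {G : Type*} [Group G] [Finite G] (h4 : 4 ∣ Nat.card G) {N : Subgroup G} (hN : N.index = 2) :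
    ∃ a b : G, a ∉ N ∧ b ∉ N ∧ ¬ IsConj a b := by
  by_contra hcon
  push Not at hcon
  have hn : N.Normal := Subgroup.normal_of_index_eq_two hN
  obtain ⟨g, hg⟩ : ∃ g : G, g ∉ N := by
    by_contra h
    push Not at h
    have : N = ⊤ := eq_top_iff.2 fun x _ => h x
    rw [this, Subgroup.index_top] at hN
    omega
  have h1 : (conjugatesOf g) = (N : Set G)ᶜ := by
    ext x
    constructor
    · intro hx hxN
      obtain ⟨c, rfl⟩ := isConj_iff.1 (show IsConj g x from hx)
      apply hg
      have := hn.conj_mem _ hxN c⁻¹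
      have h2 : c⁻¹ * (c * g * c⁻¹) * c⁻¹⁻¹ = g := by group
      rwa [h2] at this
    · intro hx
      exact hcon g x hg hx
  have h2 : Nat.card G = (conjugatesOf g).ncard * Nat.card (Subgroup.centralizer ({g} : Set G)) := by
    rw [ncard_conjugatesOf, mul_comm]
    exact (Subgroup.card_mul_index _).symm
  have h3 : ((N : Set G)ᶜ).ncard + (N : Set G).ncard = Nat.card G := by
    rw [add_comm]; exact Set.ncard_add_ncard_compl _
  have h4' : (N : Set G).ncard * 2 = Nat.card G := by
    rw [← hN]
    exact N.card_mul_index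
  rw [← h1] at h3
  have h5 : 0 < Nat.card G := Nat.card_pos
  have h6 : Nat.card (Subgroup.centralizer ({g} : Set G)) = 2 := by
    have h7 : (conjugatesOf g).ncard * 2 = (conjugatesOf g).ncard * Nat.card (Subgroup.centralizer ({g} : Set G)) := by
      omega
    exact (Nat.eq_of_mul_eq_mul_left (by omega) h7).symm
  have h7 : g ^ 2 = 1 := by
    have hgC : g ∈ Subgroup.centralizer ({g} : Set G) := by
      rw [Subgroup.mem_centralizer_singleton_iff]
    have := pow_card_eq_one' (x := (⟨g, hgC⟩ : Subgroup.centralizer ({g} : Set G)))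
    rw [h6] at this
    exact congrArg Subtype.val this
  have := two_lt_card_centralizer h4 h7
  omega

end Cfsg.Agent.H831.FineBase
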