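import Cfsg.Agent.H698.FinePR
import Cfsg.Agent.H912.Bd2

/-!
# From `Rep` to `PR` : the centre acts by scalars of determinant one (helper831, for S4881)

`exists_scalar` : a projective representation of dimension `m` on a perfect central extension has a non-trivial
constituent of dimension `2 ≤ d ≤ m` over the algebraic closure on which the centre acts by `d`-th roots of unity; so
`PR K d r T` holds for every prime `r` not dividing `d`.
-/

set_option autoImplicit false

namespace Cfsg.Agent.H831.FineScalar

universe u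

open Cfsg.Agent.H912.Bd Cfsg.Agent.H698

/-- a homomorphism from a perfect group to a commutative group is trivial -/
theorem map_eq_one_of_perfect {P : Type*} [Group P] {M : Type*} [CommGroup M] (hP : commutator P = ⊤) (f : P →* M)
    (g : P) : f g = 1 := by
  have h1 : commutator P ≤ f.ker := Abelianization.commutator_subset_ker f
  rw [hP] at h1
  exact h1 (Subgroup.mem_top g)

theorem gl_comm {K : Type*} [Field K] {d : ℕ} (hd : d < 2) (x y : Matrix.GeneralLinearGroup (Fin d) K) :
    x * y = y * x := by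
  apply Units.ext
  rw [Units.val_mul, Units.val_mul]
  have hs : Subsingleton (Fin d) := by
    interval_cases d
    · infer_instance
    · infer_instance
  ext i j
  rw [Matrix.mul_apply, Matrix.mul_apply]
  refine Finset.sum_congr rfl fun k _ => ?_
  rw [Subsingleton.elim j i, Subsingleton.elim k i, mul_comm]

theorem exists_scalar {p m : ℕ} {T : Type u} [Group T] [Finite T] [IsSimpleGroup T] (hna : ¬ IsMulCommutative T)
    (h : Rep.{u, u} p m T) : ∃ (K : Type u) (_ : Field K) (_ : CharP K p) (d : ℕ), 2 ≤ d ∧ d ≤ m ∧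
      ∀ r : ℕ, r.Prime → ¬ r ∣ d → PR K d r T := by
  classical
  obtain ⟨F, _, _, _, P, _, _, π, ρ, h1, h2, h3, h4, h5⟩ := h
  let K := AlgebraicClosure F
  have hK : CharP K p := charP_of_injective_algebraMap (algebraMap F K).injective p
  let τ : P →* Module.End K (Fin m → K) := repK ρ
  have hcen : ∀ z ∈ π.ker, ∀ g : P, g * z = z * g := fun z hz g => Subgroup.mem_center_iff.1 (h2 hz) g
  have hA : ∀ a ∈ π.ker, ∀ b ∈ π.ker, a * b = b * a := fun a ha b hb => hcen b hb a
  -- the order of the group is invertible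
  have hN : ((Nat.card P : ℕ) : K) ≠ 0 := by
    rw [Ne, CharP.cast_eq_zero_iff K p]
    exact h5
  have hAN : ∀ a ∈ π.ker, a ^ Nat.card P = 1 := fun a _ => pow_card_eq_one'
  have hC : ∀ s ∈ (⊤ : Subgroup P), ∀ a ∈ π.ker, s * a = a * s := fun s _ a ha => hcen a ha s
  -- a weight space with non-trivial action
  obtain ⟨χ, g₀, v₀, hv₀, hg₀⟩ : ∃ (χ : π.ker → K) (g : P) (v : Fin m → K), v ∈ wt τ π.ker χ ∧ τ g v ≠ v := by
    by_contra hcon
    push Not at hcon
    have h6 : ∀ g, ρ g = 1 := by
      intro g
      apply eq_one_of_repK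
      have h7 : ∀ χ : π.ker → K, wt τ π.ker χ ≤ (τ g).eigenspace 1 := by
        intro χ v hv
        rw [Module.End.mem_eigenspace_iff, one_smul]
        exact hcon χ g v hv
      have h8 : (⊤ : Submodule K (Fin m → K)) ≤ (τ g).eigenspace 1 := by
        rw [← iSup_wt τ hA hN hAN]
        exact iSup_le h7
      apply LinearMap.ext
      intro v
      have := h8 (Submodule.mem_top (x := v))
      rw [Module.End.mem_eigenspace_iff, one_smul] at this
      exact this
    have h7 : ∀ t : T, t = 1 := by
      intro t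
      obtain ⟨g, rfl⟩ := h1 t
      have h8 : g = 1 := h4 (by rw [h6, map_one])
      rw [h8, map_one]
    exact hna ⟨⟨fun a b => by rw [h7 a, h7 b]⟩⟩
  let W : Submodule K (Fin m → K) := wt τ π.ker χ
  let d := Module.finrank K W
  -- the action on it
  let σ₀ : P →* Module.End K W := (restr τ χ ⊤ hC).comp (Subgroup.topEquiv.symm : P ≃* (⊤ : Subgroup P)).toMonoidHom
  have hσ₀ : ∀ (g : P) (v : W), ((σ₀ g v : W) : Fin m → K) = τ g v := fun g v => rfl
  let b := Module.finBasis K W
  let e : Module.End K W ≃ₐ[K] Matrix (Fin d) (Fin d) K := LinearMap.toMatrixAlgEquiv b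
  let σ : P →* Matrix.GeneralLinearGroup (Fin d) K :=
    ((Units.map (e : Module.End K W →* Matrix (Fin d) (Fin d) K)).comp σ₀.toHomUnits)
  have hσ1 : ∀ g, ((σ g : Matrix.GeneralLinearGroup (Fin d) K) : Matrix (Fin d) (Fin d) K) = e (σ₀ g) := fun g => rfl
  have hσ2 : ∀ g, σ g = 1 ↔ σ₀ g = 1 := by
    intro g
    constructor
    · intro h
      have h6 := congrArg (fun x : Matrix.GeneralLinearGroup (Fin d) K => (x : Matrix (Fin d) (Fin d) K)) h
      simp only [hσ1, Units.val_one] at h6
      exact e.injective (h6.trans (map_one e).symm)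
    · intro h
      apply Units.ext
      rw [hσ1, h, map_one, Units.val_one]
  have hg₀' : σ g₀ ≠ 1 := by
    intro h
    rw [hσ2] at h
    apply hg₀
    have h6 := hσ₀ g₀ ⟨v₀, hv₀⟩
    rw [h] at h6
    exact h6.symm
  -- the kernel of the action lies in the kernel of `π`
  have hker : σ.ker ≤ π.ker := by
    have hn : (σ.ker.map π).Normal := Subgroup.Normal.map inferInstance π h1
    rcases hn.eq_bot_or_eq_top with h6 | h6
    · intro x hx
      have h7 : π x ∈ σ.ker.map π := ⟨x, hx, rfl⟩
      rw [h6, Subgroup.mem_bot] at h7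
      exact h7
    · exfalso
      -- the image of `σ` is commutative
      have h7 : ∀ x : P, ∃ z ∈ π.ker, σ x = σ z := by
        intro x
        have h8 : π x ∈ σ.ker.map π := by rw [h6]; trivial
        obtain ⟨k, hk, hkx⟩ := h8
        refine ⟨k⁻¹ * x, ?_, ?_⟩
        · rw [MonoidHom.mem_ker, map_mul, map_inv, hkx, inv_mul_cancel]
        · rw [map_mul, map_inv, MonoidHom.mem_ker.1 hk, inv_one, one_mul]
      have h8 : ∀ x y : P, σ x * σ y = σ y * σ x := by
        intro x y
        obtain ⟨z, hz, hzx⟩ := h7 x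
        rw [hzx, ← map_mul, ← map_mul, hcen z hz y]
      apply hg₀'
      have h9 : commutator P ≤ σ.ker := by
        rw [commutator_def, Subgroup.commutator_le]
        intro x _ y _
        rw [MonoidHom.mem_ker, commutatorElement_def, map_mul, map_mul, map_mul, map_inv, map_inv, h8 x y,
          mul_inv_cancel_right, mul_inv_cancel]
      rw [h3] at h9
      exact MonoidHom.mem_ker.1 (h9 (Subgroup.mem_top g₀))
  -- determinants
  have hdet : ∀ g, Matrix.GeneralLinearGroup.det (σ g) = 1 := fun g =>
    map_eq_one_of_perfect h3 ((Matrix.GeneralLinearGroup.det : Matrix.GeneralLinearGroup (Fin d) K →* Kˣ).comp σ) g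
  -- the centre acts by scalars
  have hsc : ∀ z (hz : z ∈ π.ker), σ₀ z = χ ⟨z, hz⟩ • (1 : Module.End K W) := by
    intro z hz
    apply LinearMap.ext
    intro v
    apply Subtype.ext
    rw [hσ₀]
    have := mem_wt.1 v.2 ⟨z, hz⟩
    exact this
  have hpow : ∀ z ∈ π.ker, σ (z ^ d) = 1 := by
    intro z hz
    have h6 : ((σ z : Matrix.GeneralLinearGroup (Fin d) K) : Matrix (Fin d) (Fin d) K) =
        χ ⟨z, hz⟩ • (1 : Matrix (Fin d) (Fin d) K) := by
      rw [hσ1, hsc z hz, map_smul, map_one]
    have h7 := congrArg (fun x : Kˣ => (x : K)) (hdet z)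
    simp only [Units.val_one] at h7
    have h8 : (Matrix.GeneralLinearGroup.det (σ z) : K) = χ ⟨z, hz⟩ ^ d := by
      change Matrix.det ((σ z : Matrix.GeneralLinearGroup (Fin d) K) : Matrix (Fin d) (Fin d) K) = _
      rw [h6, Matrix.det_smul, Matrix.det_one, mul_one, Fintype.card_fin]
    rw [h8] at h7
    apply Units.ext
    rw [map_pow, Units.val_pow_eq_pow_val, h6, smul_pow, one_pow, h7, one_smul, Units.val_one]
  have hd1 : d ≤ m := by
    have := Submodule.finrank_le W
    rwa [Module.finrank_fintype_fun_eq_card, Fintype.card_fin] at this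
  have hd2 : 2 ≤ d := by
    by_contra hlt
    apply hg₀'
    have h9 : commutator P ≤ σ.ker := by
      rw [commutator_def, Subgroup.commutator_le]
      intro x _ y _
      rw [MonoidHom.mem_ker, commutatorElement_def, map_mul, map_mul, map_mul, map_inv, map_inv,
        gl_comm (by omega) (σ x) (σ y), mul_inv_cancel_right, mul_inv_cancel]
    rw [h3] at h9
    exact MonoidHom.mem_ker.1 (h9 (Subgroup.mem_top g₀))
  refine ⟨K, inferInstance, hK, d, hd2, hd1, ?_⟩
  intro r hr hrd
  let π' : P ⧸ σ.ker →* T := QuotientGroup.lift σ.ker π (fun x hx => hker hx)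
  have hπ' : ∀ x : P, π' (x : P ⧸ σ.ker) = π x := fun x => rfl
  refine ⟨P ⧸ σ.ker, inferInstance, π', QuotientGroup.kerLift σ, ?_, ?_, ?_, ?_⟩
  · intro t
    obtain ⟨x, rfl⟩ := h1 t
    exact ⟨(x : P ⧸ σ.ker), rfl⟩
  · intro x
    induction x using QuotientGroup.induction_on with
    | H x =>
      intro hx y
      induction y using QuotientGroup.induction_on with
      | H y =>
        rw [hπ'] at hx
        rw [← QuotientGroup.mk_mul, ← QuotientGroup.mk_mul, hcen x hx y]
  · by_contra hcop
    have h6 : r ∣ Nat.card π'.ker := by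
      by_contra h7
      exact hcop ((Nat.Prime.coprime_iff_not_dvd hr).2 h7).symm
    have : Fact r.Prime := ⟨hr⟩
    obtain ⟨z, hz⟩ := exists_prime_orderOf_dvd_card' r h6
    obtain ⟨x, hx⟩ := QuotientGroup.mk_surjective (z : P ⧸ σ.ker)
    have hxk : x ∈ π.ker := by
      rw [MonoidHom.mem_ker, ← hπ', hx]
      exact z.2
    have h7 : z ^ d = 1 := by
      apply Subtype.ext
      rw [Subgroup.coe_pow, ← hx, Subgroup.coe_one, ← QuotientGroup.mk_pow, QuotientGroup.eq_one_iff]
      exact MonoidHom.mem_ker.2 (hpow x hxk)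
    have h8 := orderOf_dvd_of_pow_eq_one h7
    rw [hz] at h8
    exact hrd h8
  · rw [(MonoidHom.ker_eq_bot_iff _).2 (QuotientGroup.kerLift_injective σ)]
    exact bot_le

end Cfsg.Agent.H831.FineScalar
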