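import Cfsg.Agent.H831.FineBase
import Cfsg.Agent.H674.TwelvePSU
import Cfsg.Agent.H175.BdSU
import Cfsg.Agent.H487.SchurMult
import Cfsg.Agent.S2089
import Cfsg.Agent.S0815
import Cfsg.Agent.S0283
import Cfsg.Agent.S0279
import Cfsg.Agent.S0280

/-!
# The unitary rows of the condition `Fine` : tools (helper831, for S4881)
-/

set_option autoImplicit false

namespace Cfsg.Agent.H831.FineUnit

universe u

open Cfsg.Agent.H698 Cfsg.Agent.H831.FineBase
open Cfsg.Agent.H674.SUBlock Cfsg.Agent.H674.Explicit Cfsg.Agent.H674.SUTools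
open Cfsg.Agent.LieClassical Cfsg.Agent.H92

theorem numeric {A B d k p m : ℕ} (hk : 1 ≤ k) (hd : d + 1 ≤ m) (hB : A < B ^ d)
    (hsmall : ∀ p < B, 11 ≤ p → (p + 1 - 2 * k) * A + 1 < p ^ (d + 1)) (hp : 11 ≤ p) :
    (p + 1 - 2 * k) * A + 1 < p ^ m := by
  have h1 : p ^ (d + 1) ≤ p ^ m := Nat.pow_le_pow_right (by omega) hd
  rcases Nat.lt_or_ge p B with h2 | h2
  · exact (hsmall p h2 hp).trans_le h1
  · have h3 : A + 1 ≤ p ^ d := hB.trans_le (Nat.pow_le_pow_left h2 d)
    have h4 : (A + 1) * p ≤ p ^ (d + 1) := by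
      rw [pow_succ]; exact Nat.mul_le_mul_right _ h3
    have h5 : (p + 1 - 2 * k) * A ≤ p * A := Nat.mul_le_mul_right _ (by omega)
    have h6 : (A + 1) * p = p * A + p := by ring
    omega

theorem not_comm_of_card {T : Type*} [Group T] [IsSimpleGroup T] (h : ¬ (Nat.card T).Prime) :
    ¬ IsMulCommutative T := by
  intro hc
  let _ : CommGroup T := { (inferInstance : Group T) with mul_comm := hc.is_comm.comm }
  exact h IsSimpleGroup.prime_card

/-- an explicit element of `PSU` -/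
theorem exists_ord {K : Type} [Field K] [DecidableEq K] [Fintype K] {n q : ℕ} [NeZero n]
    (hF : Fintype.card K = q ^ 2) (hn : 3 ≤ n) {M : Matrix (Fin n) (Fin n) K} (h : good q M = true) {N : ℕ}
    (hN : 0 < N) (h1 : isSc (M ^ N) = true) (h2 : ∀ k < N, 0 < k → isSc (M ^ k) = false) :
    ∃ t : Cfsg.PSU n K q, orderOf t = N := by
  obtain ⟨x, hx⟩ := exists_of_good hF h
  have key : ∀ k : ℕ, (pr x : Cfsg.PSU n K q) ^ k = 1 ↔ isSc (M ^ k) = true := by
    intro k
    rw [← map_pow, pr_eq_one_iff, isSc_iff, ← hx, ← map_pow]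
    constructor
    · intro h3
      obtain ⟨c, hcn, hcq, h4⟩ := (SUBasic.mem_center_SU_iff hF hn _).1 h3
      refine ⟨c, ?_⟩
      rw [h4]
      change Matrix.diagonal (fun _ => c) = _
      rw [Matrix.smul_one_eq_diagonal]
    · rintro ⟨c, hc⟩
      rw [Subgroup.mem_center_iff]
      intro g
      apply cm_injective
      rw [map_mul, map_mul, hc, mul_smul_comm, smul_mul_assoc, mul_one, one_mul]
  refine ⟨pr x, ?_⟩
  rw [orderOf_eq_iff hN]
  refine ⟨(key N).2 h1, fun k hk hk0 h3 => ?_⟩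
  have h4 := (key k).1 h3
  rw [h2 k hk hk0] at h4
  exact absurd h4 (by decide)

/-- `SU_n(q) = PSU_n(q)` if the centre is trivial -/
theorem nonempty_su_psu {F : Type} [Field F] [Fintype F] {q n : ℕ} (hF : Fintype.card F = q ^ 2) (hn : 3 ≤ n)
    (hg : Nat.gcd n (q + 1) = 1) : Nonempty (Cfsg.SU n F q ≃* Cfsg.PSU n F q) := by
  refine ⟨MulEquiv.ofBijective (pr : Cfsg.SU n F q →* Cfsg.PSU n F q) ⟨?_, pr_surjective⟩⟩
  rw [injective_iff_map_eq_one]
  intro x hx
  rw [pr_eq_one_iff] at hx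
  have h1 := Cfsg.Agent.S0279.result hF n hn
  rw [hg] at h1
  rw [(Subgroup.card_eq_one).1 h1, Subgroup.mem_bot] at hx
  exact hx

theorem le_of_sub {T : Type u} [Group T] [Finite T] {F : Type} [Field F] [Fintype F] {q n k r p m : ℕ}
    (hr : r.Prime) [CharP F r] (hF : Fintype.card F = q ^ 2) (hn : 3 ≤ n) (hk : 0 < k)
    (hg : Nat.gcd n (q + 1) = 1) (h32 : ¬ (n = 3 ∧ q = 2))
    (hexc : (n, q) ∉ ({(4, 2), (4, 3), (6, 2)} : Set (ℕ × ℕ))) (hrS : r ∣ Nat.card (Cfsg.PSU n F q))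
    (hnp : ¬ (Nat.card (Cfsg.PSU n F q)).Prime)
    (e : T ≃* Cfsg.PSU (n + k) F q) (hp : p.Prime) (hpT : ¬ p ∣ Nat.card T) (h : Rep.{u, u} p m T) :
    (q - 1) * q ^ (n - 2) ≤ m := by
  obtain ⟨ε⟩ := nonempty_su_psu hF hn hg
  let f : Cfsg.SU n F q →* T := e.symm.toMonoidHom.comp ((pr : Cfsg.SU (n + k) F q →* _).comp (ext hF k))
  have hf : Function.Injective f := e.symm.injective.comp (pr_ext_injective hF (by omega) hk)
  let E : f.range ≃* Cfsg.PSU n F q := (MonoidHom.ofInjective hf).symm.trans ε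
  have hs : IsSimpleGroup (Cfsg.PSU n F q) := Cfsg.Agent.S0283.result hF n hn h32
  have hs' : IsSimpleGroup f.range := MulEquiv.isSimpleGroup E
  have hM : Cfsg.HasSchurMultiplier f.range (Multiplicative (ZMod (Nat.gcd n (q + 1)))) :=
    Cfsg.Agent.H487.HasSchurMultiplier.congr_left
      (Cfsg.Agent.S2089.result n q hF hn h32 hexc) E.symm
  have hcard : Nat.card f.range = Nat.card (Cfsg.PSU n F q) := Nat.card_congr E.toEquiv
  have hna : ¬ IsMulCommutative f.range := not_comm_of_card (by rwa [hcard])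
  have h1 := h.sub hna f.range.subtype (Subgroup.subtype_injective _)
  refine Rep.le_of_Bd (r := r) hp hr (by rw [hcard]; exact hrS) ?_ h1 hM ?_ ?_
  · intro h2
    exact hpT (h2.trans (Subgroup.card_subgroup_dvd_card _))
  · rw [hg]
    have : Nat.card (Multiplicative (ZMod 1)) = 1 := by
      rw [Nat.card_congr Multiplicative.toAdd, Nat.card_zmod]
    rw [this]
    exact Nat.coprime_one_left r
  · intro K _ hrK
    exact Cfsg.Agent.H175.BdSU.bd_psu hr hF hn hrK E

end Cfsg.Agent.H831.FineUnit
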