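import Cfsg.Agent.H972.NSm
import Cfsg.Agent.CpAutCoFive.Core
import Cfsg.Agent.PreUniqCo.Facts
import Cfsg.Agent.PreUniqCo.Rows
import Cfsg.Agent.CpAutBig.SevenFix
import Cfsg.Agent.BpSpor.MBigCo
import Cfsg.Agent.CpAutMSeven.RanksH

/-!
# Orders of nilpotent subgroups: the Conway groups, tools (helper831, for S2242)

* `nle_conj`, `card_cent_le` : centralizers and injective homomorphisms;
* `smallAt_seven`, `smallAt_eleven`, `card_dvd_five` : groups of automorphisms of the Leech lattice fixing a vector.
-/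

set_option autoImplicit false

namespace Cfsg.Agent.H831.SmallCo

open Subgroup Cfsg Cfsg.Spor
open Cfsg.Agent.H972.NSm
open Cfsg.Agent.CpAutBig
open Cfsg.Agent.CoOneType.ClosingFacts (mk mk_mul mk_inv exists_mk mk_eq_one mk_eq)

section Abs

variable {G H : Type*} [Group G] [Group H]

/-- the homomorphism between centralizers -/
def centHom (φ : H →* G) (x : H) : ↥(centralizer ({x} : Set H)) →* ↥(centralizer ({φ x} : Set G)) :=
  (φ.comp (centralizer ({x} : Set H)).subtype).codRestrict _ fun y => by
    rw [mem_centralizer_singleton_iff]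
    change φ y * φ x = φ x * φ y
    rw [← map_mul, ← map_mul, mem_centralizer_singleton_iff.1 y.2]

theorem centHom_injective {φ : H →* G} (hφ : Function.Injective φ) (x : H) : Function.Injective (centHom φ x) := by
  intro a b h
  exact Subtype.ext (hφ (congrArg Subtype.val h))

theorem card_cent_le [Finite G] {φ : H →* G} (hφ : Function.Injective φ) (x : H) :
    Nat.card ↥(centralizer ({x} : Set H)) ≤ Nat.card ↥(centralizer ({φ x} : Set G)) :=
  Nat.card_le_card_of_injective _ (centHom_injective hφ x)

theorem card_cent_conj (g x : G) :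
    Nat.card ↥(centralizer ({g * x * g⁻¹} : Set G)) = Nat.card ↥(centralizer ({x} : Set G)) := by
  rw [← CoZero.map_centralizer]
  exact (Nat.card_congr ((centralizer ({x} : Set G)).equivMapOfInjective _ (MulAut.conj g).injective).toEquiv).symm

theorem nle_conj {b : ℕ} (g x : G) (h : NLE b ↥(centralizer ({x} : Set G))) :
    NLE b ↥(centralizer ({g * x * g⁻¹} : Set G)) := by
  rw [← CoZero.map_centralizer]
  exact h.congr ((centralizer ({x} : Set G)).equivMapOfInjective _ (MulAut.conj g).injective)

/-- a bound for the orders of the centralizers -/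
theorem smallAt_of_card [Finite G] {p : ℕ} (hp : p.Prime) (b : ℕ) (hb : b ^ 2 < Nat.card G)
    (h : ∀ x : G, orderOf x = p → Nat.card ↥(centralizer ({x} : Set G)) ≤ b) : SmallAt p G :=
  smallAt_of_cent hp fun x hx => ⟨b, nle_of_card (h x hx), hb⟩

end Abs

section Lat

variable {H : Type*} [Group H] [Finite H] {φ : H →* Co0} {v : leechLattice}

omit [Finite H] in
/-- the homomorphism to `Co1` is injective -/
theorem mk_injective (hφ : Function.Injective φ) (hv : v ≠ 0) (hfix : ∀ h, φ h • v = v) :
    Function.Injective ((QuotientGroup.mk' (Subgroup.center Co0)).comp φ) := by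
  rw [injective_iff_map_eq_one]
  intro x hx
  rcases (mk_eq_one (φ x)).1 hx with h | h
  · exact hφ (by rw [h, map_one])
  · exfalso
    have h2 := hfix x
    rw [h, Cfsg.Agent.SporadicA.Co1Simple.allOne_smul] at h2
    apply hv
    apply Subtype.ext
    funext i
    have h3 := congrArg (fun u : leechLattice => (u : GolayPt → ℤ) i) h2
    change -(v : GolayPt → ℤ) i = (v : GolayPt → ℤ) i at h3
    change (v : GolayPt → ℤ) i = 0
    omega

omit [Finite H] in
theorem card_eleven (hφ : Function.Injective φ) (hv : v ≠ 0) (hfix : ∀ h, φ h • v = v) {x : H} (hx : orderOf x = 11) :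
    Nat.card ↥(centralizer ({x} : Set H)) ≤ 132 := by
  have hfin := BpSpor.MBigCo.finite_co1
  have h1 := mk_injective hφ hv hfix
  refine (card_cent_le h1 x).trans (BpSpor.MBigCo.card_cent ?_)
  rw [orderOf_injective _ h1, hx]

omit [Finite H] in
theorem card_seven (hφ : Function.Injective φ) (hv : v ≠ 0) (hfix : ∀ h, φ h • v = v) {x : H} (hx : orderOf x = 7) :
    Nat.card ↥(centralizer ({x} : Set H)) ≤ 4704 := by
  have hfin := CoZero.finite_co0
  refine (card_cent_le hφ x).trans ?_
  have h7 : orderOf (φ x) = 7 := by rw [orderOf_injective _ hφ, hx]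
  obtain ⟨g, hg⟩ := SevenFix.conj_seven h7 hv (hfix x)
  rw [CoZero.card_centralizer_of_conj (by norm_num) h7 SevenFix.orderOf_r7 hg]
  exact SevenFix.card_le_r7

theorem dvd_five (hφ : Function.Injective φ) (hv : v ≠ 0) (hfix : ∀ h, φ h • v = v) {a b : ℕ}
    (hd : Nat.card H ∣ 2 ^ a * 3 ^ b * 5 ^ 3 * 7 * 11 * 23) {x : H} (hx : orderOf x = 5) :
    Nat.card ↥(centralizer ({x} : Set H)) ∣ 2 ^ a * 3 * 5 ^ 3 := by
  have hmem : x ∈ centralizer ({x} : Set H) := mem_centralizer_singleton_iff.2 rfl
  obtain ⟨y, hy⟩ : ∃ y : ↥(centralizer ({x} : Set H)), (y : H) = x := ⟨⟨x, hmem⟩, rfl⟩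
  have hoy : orderOf y = 5 := by rw [← Subgroup.orderOf_coe, hy, hx]
  have hc : ∀ g : ↥(centralizer ({x} : Set H)), g * y = y * g := fun g => by
    apply Subtype.ext
    rw [coe_mul, coe_mul, hy]
    exact mem_centralizer_singleton_iff.1 g.2
  exact CpAutCoFive.card_dvd PreUniqCo.Facts.facts (φ := φ.comp (centralizer ({x} : Set H)).subtype)
    (hφ.comp Subtype.val_injective) hv (fun h => hfix h) hoy hc ((card_subgroup_dvd_card _).trans hd)

end Lat

end Cfsg.Agent.H831.SmallCo
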