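import Cfsg.Agent.H831.SmallCoBase
import Cfsg.Agent.CTwoTab.Co3

/-!
# Orders of nilpotent subgroups: `Co3` (helper831, for S2242)
-/

set_option autoImplicit false

namespace Cfsg.Agent.H831.SmallCo

open Subgroup Cfsg Cfsg.Spor
open Cfsg.Agent.H972.NSm
open Cfsg.Agent.CpAutBig
open Cfsg.Agent.SporRec.Co3.Chain Cfsg.Agent.SporRec.Co3.Ident

universe u

/-- a group with a simple quotient with trivial center is not solvable -/
theorem not_solvable {C S : Type*} [Group C] [Group S] [IsSimpleGroup S] (hS : center S = ⊥) {f : C →* S}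
    (hf : Function.Surjective f) : ¬ Group.IsSolvable C := by
  intro h
  have h1 : Group.IsSolvable S := Group.isSolvable_of_surjective hf
  have h2 := IsSimpleGroup.comm_iff_isSolvable.2 h1
  have h3 : center S = ⊤ := by
    rw [eq_top_iff]
    intro x _
    rw [mem_center_iff]
    intro g
    exact h2 g x
  rw [hS] at h3
  exact bot_ne_top h3

namespace Three

theorem card_G3 : Nat.card G3 = 495766656000 := isCo3_G3.2

theorem at_two : SmallAt 2 G3 := by
  obtain ⟨w, D⟩ := CTwoTab.Co3.exists_data
  have := CTwoTab.Co3.finite_G3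
  refine smallAt_of_cent Nat.prime_two fun x hx => ?_
  obtain ⟨g, rfl | rfl⟩ := D.cls x hx
  · obtain ⟨π, N⟩ := D.ns
    refine ⟨580608, nle_conj _ _ (nle_five ?_ ?_), ?_⟩
    · have := Co2Type.Setup.isSimpleGroup_sp6
      exact not_solvable Co2Type.Setup.center_sp6 N.surj
    · rw [CTwoTab.Co3.card_of_NS N]
      norm_num
    · rw [card_G3]
      norm_num
  · obtain ⟨f, hf, hk⟩ := D.hom
    refine ⟨190080, nle_conj _ _ (nle_of_card ?_), ?_⟩
    · have h1 : Nat.card ↥(centralizer ({w} : Set G3)) = Nat.card ↥f.ker * Nat.card Spor.M12 := by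
        rw [← Subgroup.card_mul_index f.ker, Subgroup.index_ker, MonoidHom.range_eq_top.2 hf, Subgroup.card_top]
      have h2 : Nat.card ↥f.ker ≤ 2 := by
        have h3 : (f.ker : Set ↥(centralizer ({w} : Set G3))) ⊆ {1, ⟨w, mem_centralizer_singleton_iff.2 rfl⟩} := by
          intro x hx
          rcases hk x hx with h | h
          · exact Or.inl h
          · exact Or.inr (Subtype.ext h)
        have h4 := Set.ncard_le_ncard h3 (Set.toFinite _)
        refine h4.trans ((Set.ncard_insert_le _ _).trans ?_)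
        rw [Set.ncard_singleton]
      rw [h1, MTwelveType.SylowModel.card_M12]
      omega
    · rw [card_G3]
      norm_num

theorem small : H972.NSm.Small Spor.Co3 := by
  have hfin := CTwoTab.Co3.finite_G3
  have e := SporRec.Co3.Model.equivCo3
  have hfin3 : Finite Spor.Co3 := Finite.of_equiv _ e.toEquiv
  have hc : Nat.card Spor.Co3 = 495766656000 := by rw [← Nat.card_congr e.toEquiv, card_G3]
  let φ : Spor.Co3 →* Co0 := Subgroup.inclusion (inf_le_left : Spor.Co3 ≤ Co0)
  have hφ : Function.Injective φ := Subgroup.inclusion_injective _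
  have hv := PreUniqCo.Rows.leechV_ne
  have hfix : ∀ x, φ x • leechV = leechV := fun x => x.2.2
  refine small_of_smallAt {2, 5, 7, 11} (3 ^ 7 * 23) (2 ^ 10 * (5 ^ 3 * (7 * 11))) (by rw [hc]; norm_num) ?_
    (by rw [hc]; norm_num) ?_
  · intro p hp hd
    rw [hp.dvd_mul, hp.dvd_mul, hp.dvd_mul] at hd
    simp only [Finset.mem_insert, Finset.mem_singleton]
    rcases hd with h | h | h | h
    · exact Or.inl ((Nat.prime_dvd_prime_iff_eq hp Nat.prime_two).1 (hp.dvd_of_dvd_pow h))
    · exact Or.inr (Or.inl ((Nat.prime_dvd_prime_iff_eq hp Nat.prime_five).1 (hp.dvd_of_dvd_pow h)))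
    · exact Or.inr (Or.inr (Or.inl ((Nat.prime_dvd_prime_iff_eq hp (by norm_num)).1 h)))
    · exact Or.inr (Or.inr (Or.inr ((Nat.prime_dvd_prime_iff_eq hp (by norm_num)).1 h)))
  · intro p hp hpr
    simp only [Finset.mem_insert, Finset.mem_singleton] at hp
    rcases hp with rfl | rfl | rfl | rfl
    · exact at_two.congr e
    · refine smallAt_of_card hpr 384000 (by rw [hc]; norm_num) fun x hx => ?_
      refine Nat.le_of_dvd (by norm_num) ((dvd_five hφ hv hfix (a := 10) (b := 7) ?_ hx).trans ?_)
      · rw [hc]; norm_num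
      · norm_num
    · exact smallAt_of_card hpr 4704 (by rw [hc]; norm_num) fun x hx => card_seven hφ hv hfix hx
    · exact smallAt_of_card hpr 132 (by rw [hc]; norm_num) fun x hx => card_eleven hφ hv hfix hx

end Three

/-- **The row `Co3`.** -/
theorem small_Co3 {G : Type u} [Group G] [Finite G] (h : Cfsg.Spor.IsoCo3 G)
    (_hI : ∀ (H : Type u) [Group H] [Finite H], IsSimpleGroup H → ¬ IsMulCommutative H → Nat.card H < Nat.card G →
      Cfsg.Agent.H972.NSm.Small H) : Cfsg.Agent.H972.NSm.Small G := by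
  obtain ⟨e⟩ := h
  exact Three.small.congr e.symm

end Cfsg.Agent.H831.SmallCo
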