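import Cfsg.Agent.H831.TwoCSpor
import Cfsg.Agent.BM.KHAll
import Cfsg.Agent.KFacts.Baby.Inst
import Cfsg.Agent.MonsterP.Equiv
import Cfsg.Agent.KFacts.MonsterE

/-!
# `2`-subgroups with a `2`-group as centralizer in the Baby Monster and the Monster (helper831, for S4948)
-/

set_option autoImplicit false

namespace Cfsg.Agent.H831.TwoCSpor

open Cfsg Subgroup Cfsg.Agent.H601.OddDeg

/-- a large subgroup -/
theorem of_large {S : Type*} [Group S] {z : S} {Q : Subgroup S} (h : Cfsg.Agent.Co2Type.Quad.Large Q z) :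
    TwoC S := by
  refine of_self (D := Q) ?_ fun x hx => h.self x (hx z h.z_mem) hx
  rintro ⟨x, hx⟩
  refine ⟨2, Subtype.ext ?_⟩
  show x ^ 2 ^ 2 = 1
  have h1 : x ^ 2 ^ 2 = (x * x) * (x * x) := by rw [show (2 : ℕ) ^ 2 = 4 by norm_num, pow_succ, pow_succ, pow_succ, pow_one, mul_assoc (x * x)]
  rw [h1]
  rcases h.sq x hx with h2 | h2
  · rw [h2, one_mul]
  · rw [h2, h.z_sq]

section baby

open Cfsg.Agent.BabyM Cfsg.Agent.BabyM.Model Cfsg.Agent.BabyU.ClosModel Cfsg.Agent.BabyU.ClosLane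

theorem twoC_b {S : Type*} [Group S] (h : Cfsg.Spor.IsoB S) : TwoC S := by
  refine TwoC.of_nonempty ?_ h
  exact TwoC.of_nonempty (of_large (Cfsg.Agent.KFacts.Baby.Inst.large A)) ⟨Cfsg.Agent.BM.KHAll.iso⟩

end baby

section monster

open Cfsg.Agent.MonsterX.Model Cfsg.Agent.MonsterX.MainSimple Cfsg.Agent.MonsterX.MainBasic

theorem twoC_m {S : Type*} [Group S] (h : Cfsg.Spor.IsoM S) : TwoC S := by
  refine TwoC.of_nonempty ?_ h
  refine TwoC.of_nonempty ?_ Cfsg.Agent.MonsterP.Equiv.equiv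
  obtain ⟨π, D⟩ := Cfsg.Agent.KFacts.MonsterE.data_model Cfsg.Agent.MonsterX.Instance.mGroup
    Cfsg.Agent.MonsterX.Instance.mRep Cfsg.Agent.MonsterX.Instance.mLat
    Cfsg.Agent.MonsterX.InstanceFinal.mOrbit Cfsg.Agent.MonsterX.Instance.mTrans
  exact of_large D.large

end monster

end Cfsg.Agent.H831.TwoCSpor
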