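import Cfsg.Agent.H601.OddDeg.Defs
import Cfsg.Agent.OddHalf.D8.Sheet
import Cfsg.Agent.KFacts.FiTT.Final
import Cfsg.Agent.KFacts.FiTTh.Has
import Cfsg.Agent.KFacts.FiTF.FrameF
import Cfsg.Agent.KFacts.Co1.CaseM
import Cfsg.Agent.SevenCases.SporCo2
import Cfsg.Agent.SevenCases.SporTh

/-!
# `2`-subgroups with a `2`-group as centralizer in `Co1, Co2, Th, Fi22, Fi23, Fi24', B, M` (helper831, for S4948)
-/

set_option autoImplicit false

namespace Cfsg.Agent.H831.TwoCSpor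

open Cfsg Subgroup Cfsg.Agent.H601.OddDeg Cfsg.Agent.OddHalf.D8.Sheet

universe u

/-- a subgroup `D` whose centralizer is contained in `D` -/
theorem of_self {S : Type*} [Group S] {D : Subgroup S} (h2 : IsPGroup 2 D)
    (h : ∀ x : S, (∀ y ∈ D, x * y = y * x) → x ∈ D) : TwoC S := by
  refine ⟨D, h2, h2.to_le ?_⟩
  intro x hx
  exact h x fun y hy => (mem_centralizer_iff.1 hx y hy).symm

/-- a sheet with `P = C(z)` -/
theorem of_sheetE {S : Type*} [Group S] {z : S} {R : Subgroup S}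
    (h : SheetE z (centralizer ({z} : Set S)) R) : TwoC S := by
  refine of_self h.R2 fun x hx => ?_
  exact h.cR x (mem_centralizer_singleton_iff.2 (hx z h.zR)) hx

/-- a `2`-local subgroup of characteristic two -/
theorem of_charTwo {S : Type*} [Group S] [Finite S] (h : IsCharacteristicTwoType S) : TwoC S := by
  obtain ⟨h1, h2⟩ := h
  have : Fact (Nat.Prime 2) := ⟨Nat.prime_two⟩
  obtain ⟨z, hz⟩ := exists_prime_orderOf_dvd_card' 2 h1.two_dvd
  have hT : IsPGroup 2 (zpowers z) := by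
    refine IsPGroup.of_card (n := 1) ?_
    rw [Nat.card_zpowers, hz, pow_one]
  have hne : zpowers z ≠ ⊥ := by
    intro h
    rw [zpowers_eq_bot] at h
    rw [h, orderOf_one] at hz
    omega
  have h3 := h2 (zpowers z) hT hne
  set N := normalizer (zpowers z : Set S) with hN
  have hle : zpowers z ≤ N := le_normalizer
  -- `⟨z⟩ ≤ O_2(N)`
  have hn : ((zpowers z).subgroupOf N).Normal := by
    refine ⟨fun n hn g => ?_⟩
    rw [mem_subgroupOf] at hn ⊢
    exact ((mem_normalizer_iff.1 g.2) _).1 hn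
  have h4 : (zpowers z).subgroupOf N ≤ pCore 2 N := by
    refine le_sSup ⟨hn, ?_⟩
    exact hT.comap_subtype
  have h5 : IsPGroup 2 (pCore 2 N) := Cfsg.Agent.Lib.Cores.pCore_isPGroup 2
  refine of_self (D := (pCore 2 N).map N.subtype) (h5.map _) ?_
  intro x hx
  have hzc : x * z = z * x := hx z ⟨⟨z, hle (mem_zpowers z)⟩, h4 (mem_subgroupOf.2 (mem_zpowers z)), rfl⟩
  have hxN : x ∈ N := by
    rw [hN]
    refine centralizer_le_normalizer _ ?_
    rw [mem_centralizer_iff]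
    rintro _ ⟨n, rfl⟩
    have : Commute x z := hzc
    exact ((this.zpow_right n).eq).symm
  refine ⟨⟨x, hxN⟩, h3 ?_, rfl⟩
  rw [mem_centralizer_iff]
  intro y hy
  apply Subtype.ext
  exact (hx y ⟨y, hy, rfl⟩).symm

theorem twoC_fi22 {S : Type*} [Group S] (h : Cfsg.Spor.IsoFi22 S) : TwoC S := by
  obtain ⟨d, d', R, F⟩ := Cfsg.Agent.KFacts.FiTT.has_of_iso h
  refine of_self F.R_two fun x hx => ?_
  rcases F.R_center x hx with rfl | rfl | rfl | rfl
  · exact one_mem _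
  · exact F.d_mem
  · exact F.d'_mem
  · exact mul_mem F.d_mem F.d'_mem

theorem twoC_fi23 {S : Type*} [Group S] (h : Cfsg.Spor.IsoFi23 S) : TwoC S := by
  refine TwoC.of_nonempty ?_ h
  obtain ⟨A, T, a, F⟩ := Cfsg.Agent.KFacts.FiTTh.Has.has
  refine of_self (IsPGroup.of_card (n := 11) F.cardA) F.self

theorem twoC_fi24 {S : Type*} [Group S] (h : Cfsg.Spor.IsoFi24' S) : TwoC S := by
  refine TwoC.of_nonempty ?_ h
  have F := Cfsg.Agent.KFacts.FiTF.frame
  have hR2 : IsPGroup 2 (Cfsg.Agent.KFacts.FiTF.Defs.R) := IsPGroup.of_card (n := 13) (by rw [F.cardR]; norm_num)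
  refine of_self (D := (Cfsg.Agent.KFacts.FiTF.Defs.R).subgroupOf (commutator Spor.Fi24)) hR2.comap_subtype ?_
  intro x hx
  rw [mem_subgroupOf]
  rcases F.cent x (fun r hr => congrArg Subtype.val (hx ⟨r, F.EK (F.RE hr)⟩ (mem_subgroupOf.2 hr))) with h1 | h1
  · rw [h1]; exact one_mem _
  · rw [h1]; exact F.zR

theorem twoC_co1 {S : Type*} [Group S] (h : Cfsg.Spor.IsoCo1 S) : TwoC S := by
  refine TwoC.of_nonempty ?_ h
  obtain ⟨o, ho⟩ := Cfsg.Agent.CoOneType.ClosingCo1.exists_octad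
  exact of_sheetE (Cfsg.Agent.KFacts.Co1.CaseM.sheetE ho)

theorem twoC_co2 {S : Type*} [Group S] (h : Cfsg.Spor.IsoCo2 S) : TwoC S := by
  refine TwoC.of_nonempty ?_ h
  have : Finite Spor.Co2 := Cfsg.Agent.SevenCases.SporCo2.finite
  exact of_charTwo Cfsg.Agent.SevenCases.SporCo2.charTwo_Co2

theorem twoC_th {S : Type*} [Group S] (h : Cfsg.Spor.IsoTh S) : TwoC S := by
  refine TwoC.of_nonempty ?_ h
  exact of_sheetE Cfsg.Agent.KFacts.Th.Main.sheet

end Cfsg.Agent.H831.TwoCSpor
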